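import Cfsg.Agent.H120.Wt

/-!
# Small facts on irreducible representations
-/

set_option autoImplicit false

namespace Cfsg.Agent.H120

open Module

/-- an irreducible representation of degree at least two is not trivial -/
theorem exists_ne_one {G : Type*} [Group G] {V : Type*} [AddCommGroup V] [Module ℂ V]
    [FiniteDimensional ℂ V] (ρ : Representation ℂ G V) (hρ : ρ.IsIrreducible) (h2 : 2 ≤ finrank ℂ V) :
    ∃ g, ρ g ≠ 1 := by
  by_contra hc
  push Not at hc
  have hnt : Nontrivial V := Module.nontrivial_of_finrank_pos (R := ℂ) (by omega)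
  obtain ⟨v, hv⟩ := exists_ne (0 : V)
  let S : Subrepresentation ρ := ⟨Submodule.span ℂ {v}, fun g w hw => by rw [hc g]; exact hw⟩
  have hs : IsSimpleOrder (Subrepresentation ρ) := hρ
  rcases hs.eq_bot_or_eq_top S with h | h
  · have h1 : v ∈ S.toSubmodule := Submodule.mem_span_singleton_self v
    rw [h] at h1
    exact hv h1
  · have h1 : (⊤ : Submodule ℂ V) = Submodule.span ℂ {v} := by
      have := congrArg Subrepresentation.toSubmodule h
      exact this.symm
    have h3 : finrank ℂ (⊤ : Submodule ℂ V) ≤ 1 := by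
      rw [h1]
      exact (finrank_span_singleton hv).le
    rw [finrank_top] at h3
    omega

/-- a non-trivial representation of a simple group is faithful -/
theorem injective_of_simple {G : Type*} [Group G] [IsSimpleGroup G] {V : Type*} [AddCommGroup V]
    [Module ℂ V] (ρ : Representation ℂ G V) (h : ∃ g, ρ g ≠ 1) {g : G} (hg : ρ g = 1) : g = 1 := by
  have hn : (MonoidHom.ker ρ).Normal := inferInstance
  rcases hn.eq_bot_or_eq_top with h1 | h1
  · have : g ∈ MonoidHom.ker ρ := hg
    rw [h1, Subgroup.mem_bot] at this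
    exact this
  · obtain ⟨x, hx⟩ := h
    exfalso
    apply hx
    have : x ∈ MonoidHom.ker ρ := by rw [h1]; exact Subgroup.mem_top x
    exact this

theorem rho_injective {G : Type*} [Group G] {V : Type*} [AddCommGroup V] [Module ℂ V]
    (ρ : Representation ℂ G V) (g : G) : Function.Injective (ρ g) := by
  intro v w h
  have h1 : ρ g⁻¹ (ρ g v) = ρ g⁻¹ (ρ g w) := by rw [h]
  rw [← Module.End.mul_apply, ← Module.End.mul_apply, ← map_mul, inv_mul_cancel, map_one,
    Module.End.one_apply, Module.End.one_apply] at h1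
  exact h1

theorem rho_mul {G : Type*} [Group G] {V : Type*} [AddCommGroup V] [Module ℂ V]
    (ρ : Representation ℂ G V) (g h : G) (v : V) : ρ (g * h) v = ρ g (ρ h v) := by
  rw [map_mul, Module.End.mul_apply]

/-- if `x g x⁻¹ = z g` and `z` acts as a scalar `≠ 1`, then the trace of `g` is zero -/
theorem trace_eq_zero {G : Type*} [Group G] {W : Type*} [AddCommGroup W] [Module ℂ W]
    [FiniteDimensional ℂ W] (ρ : Representation ℂ G W) (g x z : G) (c : ℂ) (hc : c ≠ 1)
    (hz : ρ z = c • (1 : Module.End ℂ W)) (h : x * g = z * g * x) :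
    LinearMap.trace ℂ W (ρ g) = 0 := by
  have h1 : x * g * x⁻¹ = z * g := by rw [h]; group
  have h2 : LinearMap.trace ℂ W (ρ (x * g * x⁻¹)) = LinearMap.trace ℂ W (ρ g) := by
    rw [map_mul, LinearMap.trace_mul_comm, ← map_mul, ← mul_assoc, inv_mul_cancel, one_mul]
  rw [h1, map_mul, hz, smul_mul_assoc, one_mul, map_smul, smul_eq_mul] at h2
  have h3 : (c - 1) * LinearMap.trace ℂ W (ρ g) = 0 := by
    rw [sub_mul, one_mul, h2, sub_self]
  rcases mul_eq_zero.1 h3 with h4 | h4
  · exact absurd (sub_eq_zero.1 h4) hc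
  · exact h4

end Cfsg.Agent.H120
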