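import Cfsg.Agent.H120.NumE6

/-!
# The last step for E₈: `d(E₈) - 1`, `d(E₈) - 2`, `d(E₈) - 3` are not degrees (arithmetic)
-/

set_option autoImplicit false

namespace Cfsg.Agent.H120

theorem coprime_succ (n : ℕ) : Nat.Coprime n (n + 1) := by simp

/-- size -/
theorem size8 {q N i j t : ℕ} (hq : 2 ≤ q) (hN : N + i = d8 q) (hi : i ≤ 3) (hj : 1 ≤ j) (hj3 : j ≤ 3)
    (h : N * t + j = j * q ^ 30) : False := by
  have hN' : N + i = q ^ 29 + q ^ 23 + q ^ 19 + q ^ 17 + q ^ 13 + q ^ 11 + q ^ 7 + q := by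
    rw [hN]; unfold d8; ring
  have hNq : (N + i) * q = q ^ 30 + q ^ 24 + q ^ 20 + q ^ 18 + q ^ 14 + q ^ 12 + q ^ 8 + q ^ 2 := by
    rw [hN']; ring
  have hp : ∀ a b : ℕ, a ≤ b → q ^ a ≤ q ^ b := fun a b h => Nat.pow_le_pow_right (by omega) h
  have h24 : q * 8 ≤ q ^ 24 := by
    have h1 : q ^ 24 = q * q ^ 23 := by ring
    have h2 : 2 ^ 23 ≤ q ^ 23 := Nat.pow_le_pow_left hq 23
    rw [h1]
    exact Nat.mul_le_mul_left _ (le_trans (by norm_num) h2)
  rcases Nat.lt_or_ge t (j * q) with h1 | h1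
  · -- `t + 1 ≤ j q`
    have h2 : N * (t + 1) ≤ N * (j * q) := Nat.mul_le_mul_left _ h1
    have h3 : N * (j * q) + i * j * q = j * ((N + i) * q) := by ring
    have h4 : q ^ 29 = 32 * q ^ 24 + (q ^ 5 - 32) * q ^ 24 := by
      have : 32 ≤ q ^ 5 := by
        have := Nat.pow_le_pow_left hq 5
        norm_num at this
        exact this
      rw [← add_mul, Nat.add_sub_cancel' this]
      ring
    have h5 : j * ((N + i) * q) ≤ j * q ^ 30 + 3 * (q ^ 24 + q ^ 20 + q ^ 18 + q ^ 14 + q ^ 12 + q ^ 8 + q ^ 2) := by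
      rw [hNq]
      have : j * (q ^ 24 + q ^ 20 + q ^ 18 + q ^ 14 + q ^ 12 + q ^ 8 + q ^ 2) ≤
        3 * (q ^ 24 + q ^ 20 + q ^ 18 + q ^ 14 + q ^ 12 + q ^ 8 + q ^ 2) := Nat.mul_le_mul_right _ hj3
      calc j * (q ^ 30 + q ^ 24 + q ^ 20 + q ^ 18 + q ^ 14 + q ^ 12 + q ^ 8 + q ^ 2)
          = j * q ^ 30 + j * (q ^ 24 + q ^ 20 + q ^ 18 + q ^ 14 + q ^ 12 + q ^ 8 + q ^ 2) := by ring
        _ ≤ _ := Nat.add_le_add_left this _
    have h6 : N * (t + 1) = N * t + N := by ring
    have a1 := hp 20 24 (by norm_num)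
    have a2 := hp 18 24 (by norm_num)
    have a3 := hp 14 24 (by norm_num)
    have a4 := hp 12 24 (by norm_num)
    have a5 := hp 8 24 (by norm_num)
    have a6 := hp 2 24 (by norm_num)
    have a7 : 1 ≤ q ^ 24 := Nat.one_le_pow _ _ (by omega)
    have a8 : 0 ≤ (q ^ 5 - 32) * q ^ 24 := Nat.zero_le _
    omega
  · have h2 : N * (j * q) ≤ N * t := Nat.mul_le_mul_left _ h1
    have h3 : N * (j * q) + i * j * q = j * ((N + i) * q) := by ring
    have h4 : j * ((N + i) * q) ≥ j * q ^ 30 + q ^ 24 := by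
      rw [hNq]
      calc j * q ^ 30 + q ^ 24 ≤ j * q ^ 30 + j * q ^ 24 := Nat.add_le_add_left (Nat.le_mul_of_pos_left _ hj) _
        _ ≤ j * q ^ 30 + j * q ^ 24 + j * (q ^ 20 + q ^ 18 + q ^ 14 + q ^ 12 + q ^ 8 + q ^ 2) := Nat.le_add_right _ _
        _ = _ := by ring
    have h5 : i * j * q ≤ 9 * q := by
      have : i * j ≤ 9 := by
        calc i * j ≤ 3 * 3 := Nat.mul_le_mul hi hj3
          _ = 9 := rfl
      exact Nat.mul_le_mul_right _ this
    have h6 : q * 2 ^ 23 ≤ q ^ 24 := by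
      have e1 : q ^ 24 = q * q ^ 23 := by ring
      rw [e1]
      exact Nat.mul_le_mul_left _ (Nat.pow_le_pow_left hq 23)
    omega

theorem even_d8 (q : ℕ) : 2 ∣ d8 q := by
  unfold d8
  rcases Nat.even_or_odd' q with ⟨j, hj | hj⟩
  · exact ⟨j * (q ^ 12 + 1) * (q ^ 10 + 1) * (q ^ 6 + 1), by rw [hj]; ring⟩
  · have h1 : 2 ∣ q ^ 12 + 1 := by
      have : Odd (q ^ 12) := Odd.pow ⟨j, hj⟩
      exact (this.add_one).two_dvd
    exact ((h1.mul_left q).mul_right _).mul_right _

theorem num_E8 {q κ N i : ℕ} (hq : 2 ≤ q) (hpp : IsPrimePow q) (hκ : κ ∣ 2) (hN : N + i = d8 q) (hi : 1 ≤ i)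
    (hi3 : i ≤ 3)
    (hdvd : N * (q ^ 63 * (q ^ 2 - 1) * (q ^ 6 - 1) * (q ^ 8 - 1) * (q ^ 10 - 1) * (q ^ 12 - 1) * (q ^ 14 - 1) *
      (q ^ 18 - 1)) ∣
      κ * (q ^ 120 * (q ^ 2 - 1) * (q ^ 8 - 1) * (q ^ 12 - 1) * (q ^ 14 - 1) * (q ^ 18 - 1) * (q ^ 20 - 1) *
      (q ^ 24 - 1) * (q ^ 30 - 1)) * q ^ 29) :
    False := by
  have hpow : ∀ i, 1 ≤ i → 0 < q ^ i - 1 := fun i hi => by
    have : 1 < q ^ i := Nat.one_lt_pow (by omega) (by omega)
    omega
  have h20 : q ^ 20 - 1 = (q ^ 10 - 1) * (q ^ 10 + 1) := by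
    rw [← pow_sub_one_mul (q ^ 10) (Nat.one_le_pow _ _ (by omega)), ← pow_mul]
  have h12 : q ^ 12 - 1 = (q ^ 6 - 1) * (q ^ 6 + 1) := by
    rw [← pow_sub_one_mul (q ^ 6) (Nat.one_le_pow _ _ (by omega)), ← pow_mul]
  have h24 : q ^ 24 - 1 = (q ^ 6 - 1) * (q ^ 6 + 1) * (q ^ 12 + 1) := by
    rw [← h12, ← pow_sub_one_mul (q ^ 12) (Nat.one_le_pow _ _ (by omega)), ← pow_mul]
  rw [h20, h24] at hdvd
  have h1 : N ∣ κ * q ^ 86 * (q ^ 10 + 1) * (q ^ 6 + 1) * (q ^ 12 + 1) * (q ^ 30 - 1) := by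
    have hpos : 0 < q ^ 63 * (q ^ 2 - 1) * (q ^ 6 - 1) * (q ^ 8 - 1) * (q ^ 10 - 1) * (q ^ 12 - 1) * (q ^ 14 - 1) *
        (q ^ 18 - 1) := by
      have := hpow 2 (by norm_num)
      have := hpow 6 (by norm_num)
      have := hpow 8 (by norm_num)
      have := hpow 10 (by norm_num)
      have := hpow 12 (by norm_num)
      have := hpow 14 (by norm_num)
      have := hpow 18 (by norm_num)
      positivity
    apply Nat.dvd_of_mul_dvd_mul_right hpos
    refine hdvd.trans (dvd_of_eq ?_)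
    generalize q ^ 2 - 1 = a2
    generalize q ^ 6 - 1 = a6
    generalize q ^ 8 - 1 = a8
    generalize q ^ 10 - 1 = a10
    generalize q ^ 12 - 1 = a12
    generalize q ^ 14 - 1 = a14
    generalize q ^ 18 - 1 = a18
    generalize q ^ 30 - 1 = a30
    ring
  have hd : d8 q = q * (q ^ 12 + 1) * (q ^ 10 + 1) * (q ^ 6 + 1) := rfl
  -- the main argument
  have key : ∀ n j : ℕ, j * n = N → 1 ≤ j → j ≤ 3 → Nat.Coprime n (d8 q) → n ∣ q ^ 30 - 1 := by
    intro n j hn _ _ hc
    have c0 : ∀ a, a ∣ d8 q → Nat.Coprime n a := fun a ha => Nat.Coprime.coprime_dvd_right ha hc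
    have c1 : Nat.Coprime n q := c0 _ ⟨(q ^ 12 + 1) * (q ^ 10 + 1) * (q ^ 6 + 1), by rw [hd]; ring⟩
    have c2 : Nat.Coprime n (q ^ 12 + 1) := c0 _ ⟨q * (q ^ 10 + 1) * (q ^ 6 + 1), by rw [hd]; ring⟩
    have c3 : Nat.Coprime n (q ^ 10 + 1) := c0 _ ⟨q * (q ^ 12 + 1) * (q ^ 6 + 1), by rw [hd]; ring⟩
    have c4 : Nat.Coprime n (q ^ 6 + 1) := c0 _ ⟨q * (q ^ 12 + 1) * (q ^ 10 + 1), by rw [hd]; ring⟩
    have c5 : Nat.Coprime n κ := c0 _ (hκ.trans (even_d8 q))
    have h2 : n ∣ N := ⟨j, by rw [← hn]; ring⟩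
    have hc' : Nat.Coprime n (κ * q ^ 86 * (q ^ 10 + 1) * (q ^ 6 + 1) * (q ^ 12 + 1)) :=
      (((c5.mul_right (c1.pow_right 86)).mul_right c3).mul_right c4).mul_right c2
    exact hc'.dvd_of_dvd_mul_left (h2.trans h1)
  have fin : ∀ n j : ℕ, j * n = N → 1 ≤ j → j ≤ 3 → Nat.Coprime n (d8 q) → False := by
    intro n j hn hj hj3 hc
    obtain ⟨t, ht⟩ := key n j hn hj hj3 hc
    have h2 : 1 ≤ q ^ 30 := Nat.one_le_pow _ _ (by omega)
    refine size8 (t := t) hq hN hi3 hj hj3 ?_
    have h3 : q ^ 30 = n * t + 1 := by omega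
    rw [h3, ← hn]; ring
  obtain ⟨p, e, hp, he, hpe⟩ := (isPrimePow_nat_iff q).1 hpp
  interval_cases i
  · exact fin N 1 (one_mul N) le_rfl (by norm_num) (by rw [← hN]; exact coprime_succ N)
  · by_cases h2 : q = 2
    · subst h2
      have hN2 : N = 545925248 := by
        have : d8 2 = 545925250 := by decide
        omega
      have h3 : Nat.Coprime 4265041 (d8 2) := by
        have : d8 2 = 545925250 := by decide
        rw [this]
        norm_num
      have h4 : (4265041 : ℕ) ∣ N := by rw [hN2]; norm_num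
      have c0 : ∀ a, a ∣ d8 2 → Nat.Coprime 4265041 a := fun a ha => Nat.Coprime.coprime_dvd_right ha h3
      have hc' : Nat.Coprime 4265041 (κ * 2 ^ 86 * (2 ^ 10 + 1) * (2 ^ 6 + 1) * (2 ^ 12 + 1)) :=
        ((((c0 _ (hκ.trans (even_d8 2))).mul_right (Nat.Coprime.pow_right 86 (c0 _ (even_d8 2)))).mul_right
          (by norm_num)).mul_right (by norm_num)).mul_right (by norm_num)
      have h5 := hc'.dvd_of_dvd_mul_left (h4.trans h1)
      norm_num at h5
    · have h4d : 4 ∣ d8 q := by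
        rcases Nat.even_or_odd q with hev | hodd
        · have hp2 : p = 2 := by
            have : 2 ∣ p ^ e := by rw [hpe]; exact hev.two_dvd
            exact ((Nat.prime_dvd_prime_iff_eq Nat.prime_two hp).1 (Nat.prime_two.dvd_of_dvd_pow this)).symm
          have he2 : 2 ≤ e := by
            by_contra hc
            have : e = 1 := by omega
            rw [this, pow_one, hp2] at hpe
            exact h2 hpe.symm
          have h4q : 4 ∣ q := by
            rw [← hpe, hp2]
            exact pow_dvd_pow 2 he2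
          rw [hd]
          exact ((h4q.mul_right _).mul_right _).mul_right _
        · have e1 : 2 ∣ q ^ 12 + 1 := (hodd.pow.add_one).two_dvd
          have e2 : 2 ∣ q ^ 10 + 1 := (hodd.pow.add_one).two_dvd
          obtain ⟨a, ha⟩ := e1
          obtain ⟨b, hb⟩ := e2
          exact ⟨q * a * b * (q ^ 6 + 1), by rw [hd, ha, hb]; ring⟩
      obtain ⟨e', he'⟩ := h4d
      obtain ⟨n, hn⟩ : ∃ n, 2 * e' = n + 1 := ⟨2 * e' - 1, by
        have : 0 < e' := by
          rcases Nat.eq_zero_or_pos e' with h | h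
          · rw [h] at he'; omega
          · exact h
        omega⟩
      refine fin n 2 (by omega) (by norm_num) (by norm_num) ?_
      have h3 : d8 q = 2 * (n + 1) := by rw [he', ← hn]; ring
      rw [h3]
      refine Nat.Coprime.mul_right ?_ (coprime_succ n)
      exact Nat.Coprime.coprime_dvd_right ⟨e', hn.symm⟩ (coprime_succ n)
  · by_cases h3 : 3 ∣ d8 q
    · have h3q : 3 ∣ q := by
        by_contra hc
        have hmod : q % 3 = 1 ∨ q % 3 = 2 := by omega
        have hsq : q ^ 2 ≡ 1 [MOD 3] := by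
          have : q ^ 2 % 3 = 1 := by
            rcases hmod with h | h <;> rw [Nat.pow_mod, h]
          exact this
        have hev : ∀ s, q ^ (2 * s) ≡ 1 [MOD 3] := by
          intro s
          rw [pow_mul]
          have := hsq.pow s
          rwa [one_pow] at this
        have f1 : ¬ 3 ∣ q ^ 12 + 1 := by
          have := (hev 6).add_right 1
          intro h
          have h4 : (q ^ 12 + 1) % 3 = (1 + 1) % 3 := this
          omega
        have f2 : ¬ 3 ∣ q ^ 10 + 1 := by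
          have := (hev 5).add_right 1
          intro h
          have h4 : (q ^ 10 + 1) % 3 = (1 + 1) % 3 := this
          omega
        have f3 : ¬ 3 ∣ q ^ 6 + 1 := by
          have := (hev 3).add_right 1
          intro h
          have h4 : (q ^ 6 + 1) % 3 = (1 + 1) % 3 := this
          omega
        rw [hd] at h3
        rcases (Nat.prime_three.dvd_mul).1 h3 with h4 | h4
        · rcases (Nat.prime_three.dvd_mul).1 h4 with h5 | h5
          · rcases (Nat.prime_three.dvd_mul).1 h5 with h6 | h6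
            · exact hc h6
            · exact f1 h6
          · exact f2 h5
        · exact f3 h4
      have hp3 : p = 3 := by
        have : 3 ∣ p ^ e := by rw [hpe]; exact h3q
        exact ((Nat.prime_dvd_prime_iff_eq Nat.prime_three hp).1 (Nat.prime_three.dvd_of_dvd_pow this)).symm
      by_cases h33 : q = 3
      · subst h33
        have hd3 : d8 3 = 68725813719000 := by decide
        have hN3 : N = 68725813718997 := by omega
        have h3 : Nat.Coprime 31424697631 (d8 3) := by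
          rw [hd3]
          norm_num
        have h4 : (31424697631 : ℕ) ∣ N := by rw [hN3]; norm_num
        have c0 : ∀ a, a ∣ d8 3 → Nat.Coprime 31424697631 a := fun a ha => Nat.Coprime.coprime_dvd_right ha h3
        have hc' : Nat.Coprime 31424697631 (κ * 3 ^ 86 * (3 ^ 10 + 1) * (3 ^ 6 + 1) * (3 ^ 12 + 1)) :=
          ((((c0 _ (hκ.trans (even_d8 3))).mul_right (Nat.Coprime.pow_right 86 (by norm_num))).mul_right
            (by norm_num)).mul_right (by norm_num)).mul_right (by norm_num)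
        have h5 := hc'.dvd_of_dvd_mul_left (h4.trans h1)
        norm_num at h5
      · have he2 : 2 ≤ e := by
          by_contra hc
          have : e = 1 := by omega
          rw [this, pow_one, hp3] at hpe
          exact h33 hpe.symm
        have h9q : 9 ∣ q := by
          rw [← hpe, hp3]
          exact pow_dvd_pow 3 he2
        have h9d : 9 ∣ d8 q := by
          rw [hd]
          exact ((h9q.mul_right _).mul_right _).mul_right _
        obtain ⟨e', he'⟩ := h9d
        obtain ⟨n, hn⟩ : ∃ n, 3 * e' = n + 1 := ⟨3 * e' - 1, by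
          have : 0 < e' := by
            rcases Nat.eq_zero_or_pos e' with h | h
            · rw [h] at he'; omega
            · exact h
          omega⟩
        refine fin n 3 (by omega) (by norm_num) (by norm_num) ?_
        have h4 : d8 q = 3 * (n + 1) := by rw [he', ← hn]; ring
        rw [h4]
        refine Nat.Coprime.mul_right ?_ (coprime_succ n)
        exact Nat.Coprime.coprime_dvd_right ⟨e', hn.symm⟩ (coprime_succ n)
    · refine fin N 1 (one_mul N) le_rfl (by norm_num) ?_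
      rw [← hN] at h3 ⊢
      have h4 : Nat.Coprime N 3 := by
        refine ((Nat.Prime.coprime_iff_not_dvd Nat.prime_three).2 fun h => h3 ?_).symm
        exact (Nat.dvd_add_right h).2 (dvd_refl 3)
      exact Nat.coprime_self_add_right.2 h4

end Cfsg.Agent.H120
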