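import Cfsg.Agent.H120.StSeven
import Cfsg.Agent.H120.NumE8
import Cfsg.Agent.S1065

/-!
# The minimal degree of `E₈(q)`
-/

set_option autoImplicit false
set_option linter.unusedSectionVars false

namespace Cfsg.Agent.H120.EEight

open Module Matrix Cfsg.Lie Cfsg.Agent.ChevalleyStructure.Elts Cfsg.Agent.ChevalleyStructure.RootVec
  Cfsg.Agent.ChevalleyStructure.RootVecTab Cfsg.Agent.ChevalleyStructure.CoxeterGeomTypes
  Cfsg.Agent.Nodes.RGDChev Cfsg.Agent.KFacts.En.Roots Cfsg.Agent.H120.ChevSys Cfsg.Agent.H120.LevTab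
  Cfsg.Agent.H120.LevMath Cfsg.Agent.H120.SLHom Cfsg.Agent.H120.Gram Cfsg.Agent.H120.GramTab
  Cfsg.Agent.H120.LevInst Cfsg.Agent.OddHalf.SL.Defs Cfsg.Agent.H120.Common Cfsg.Agent.H120.StSeven
  Cfsg.Agent.ChevalleyStructure.StEmbed

universe u

/-- the weights of the level E₈ -/
abbrev js8 : List ℕ := [27, 26, 25, 24, 23, 22, 22, 21, 20, 19, 18, 17, 21, 20, 19, 18, 17, 16, 18, 17, 16, 15, 16, 15, 14, 14, 13, 12, 15, 14, 13, 13, 12, 11, 12, 11, 10, 9, 11, 10, 9, 8, 7, 6, 10, 9, 8, 7, 6, 5, 5, 4, 3, 2, 1, 0]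
/-- the weights of the level E₇ -/
abbrev js7 : List ℕ := [16, 15, 14, 13, 12, 12, 11, 10, 9, 8, 11, 10, 9, 8, 7, 8, 7, 6, 6, 5, 4, 5, 4, 3, 2, 1, 0]
/-- the weights of the level E₆ -/
abbrev js6 : List ℕ := [9, 8, 7, 6, 7, 6, 5, 5, 4, 3, 6, 5, 4, 4, 3, 2, 3, 2, 1, 0]

theorem sum8 (q : ℕ) : (js8.map (fun j => q ^ j)).sum = s8 q := by
  simp only [List.map_cons, List.map_nil, List.sum_cons, List.sum_nil, s8]
  ring

theorem sum7 (q : ℕ) : (js7.map (fun j => q ^ j)).sum = s7 q := by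
  simp only [List.map_cons, List.map_nil, List.sum_cons, List.sum_nil, s7]
  ring

theorem sum6 (q : ℕ) : (js6.map (fun j => q ^ j)).sum = s6 q := by
  simp only [List.map_cons, List.map_nil, List.sum_cons, List.sum_nil, s6]
  ring

theorem seven : PhiZ chevE8 8 [7] =
    {s | s ∈ PhiZ chevE8 8 [] ∧ (fun x : Fin 8 → ℤ => x ⟨7, by decide⟩) s = 0} := by
  ext x
  simp only [PhiZ, Set.mem_ofPred_eq, List.mem_singleton, List.not_mem_nil, false_imp_iff, implies_true, and_true]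
  constructor
  · rintro ⟨h1, h2⟩
    exact ⟨h1, h2 _ rfl⟩
  · rintro ⟨h1, h2⟩
    refine ⟨h1, fun j hj => ?_⟩
    have : j = ⟨7, by decide⟩ := Fin.ext hj
    rw [this]
    exact h2

theorem six : PhiZ chevE8 8 [6, 7] =
    {s | s ∈ PhiZ chevE8 8 [7] ∧ (fun x : Fin 8 → ℤ => x ⟨6, by decide⟩) s = 0} := by
  ext x
  simp only [PhiZ, Set.mem_ofPred_eq, List.mem_cons, List.not_mem_nil, or_false]
  constructor
  · rintro ⟨h1, h2⟩
    exact ⟨⟨h1, fun j hj => h2 j (Or.inr hj)⟩, h2 _ (Or.inl rfl)⟩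
  · rintro ⟨⟨h1, h2⟩, h3⟩
    refine ⟨h1, fun j hj => ?_⟩
    rcases hj with hj | hj
    · have : j = ⟨6, by decide⟩ := Fin.ext hj
      rw [this]
      exact h3
    · exact h2 j hj

theorem five : PhiZ chevE8 8 [1, 6, 7] =
    {s | s ∈ PhiZ chevE8 8 [6, 7] ∧ (fun x : Fin 8 → ℤ => x ⟨1, by decide⟩) s = 0} := by
  ext x
  simp only [PhiZ, Set.mem_ofPred_eq, List.mem_cons, List.not_mem_nil, or_false]
  constructor
  · rintro ⟨h1, h2⟩
    exact ⟨⟨h1, fun j hj => h2 j (Or.inr hj)⟩, h2 _ (Or.inl rfl)⟩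
  · rintro ⟨⟨h1, h2⟩, h3⟩
    refine ⟨h1, fun j hj => ?_⟩
    rcases hj with hj | hj
    · have : j = ⟨1, by decide⟩ := Fin.ext hj
      rw [this]
      exact h3
    · exact h2 j hj

theorem level8 : Level (bf chevE8 8) (PhiZ chevE8 8 []) (fun x => x ⟨7, by decide⟩) (fun x => x ⟨0, by decide⟩)
    (ford 8) (vec chevE8 8 (chevE8.simple 0)) 28 js8 :=
  level ty_E8 chkE8 (by simp) (by decide) levE88 (by decide)

theorem level7 : Level (bf chevE8 8)
    {s | s ∈ PhiZ chevE8 8 [] ∧ (fun x : Fin 8 → ℤ => x ⟨7, by decide⟩) s = 0}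
    (fun x => x ⟨6, by decide⟩) (fun x => x ⟨0, by decide⟩)
    (ford 8) (vec chevE8 8 (chevE8.simple 0)) 16 js7 := by
  rw [← seven]
  exact level ty_E8 chkE8 (by simp) (by decide) levE87 (by decide)

theorem level6 : Level (bf chevE8 8)
    {s | s ∈ {s | s ∈ PhiZ chevE8 8 [] ∧ (fun x : Fin 8 → ℤ => x ⟨7, by decide⟩) s = 0} ∧
      (fun x : Fin 8 → ℤ => x ⟨6, by decide⟩) s = 0}
    (fun x => x ⟨1, by decide⟩) (fun x => x ⟨0, by decide⟩)
    (ford 8) (vec chevE8 8 (chevE8.simple 0)) 10 js6 := by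
  rw [← seven, ← six]
  exact level ty_E8 chkE8 (by simp) (by decide) levE86 (by decide)

theorem top8_mem : vec chevE8 8 239 ∈ PhiZ chevE8 8 [] := by
  rw [PhiZ_nil]
  exact vec_mem (by decide +kernel)

theorem top8_deg : vec chevE8 8 239 ⟨7, by decide⟩ = 2 := by
  rw [vec_cf ty_E8 (by decide +kernel)]
  have : cf chevE8 239 ((⟨7, by decide⟩ : Fin 8) : ℕ) = 10 := by decide +kernel
  rw [this]
  norm_num

theorem top6 : ∃ t ∈ {s | s ∈ {s | s ∈ PhiZ chevE8 8 [] ∧ (fun x : Fin 8 → ℤ => x ⟨7, by decide⟩) s = 0} ∧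
      (fun x : Fin 8 → ℤ => x ⟨6, by decide⟩) s = 0}, (fun x : Fin 8 → ℤ => x ⟨1, by decide⟩) t = 2 := by
  rw [← seven, ← six]
  refine ⟨vec chevE8 8 204, (sel_iff ty_E8 (by decide) (by decide +kernel)).1 (by decide +kernel), ?_⟩
  show vec chevE8 8 204 ⟨1, by decide⟩ = 2
  rw [vec_cf ty_E8 (by decide +kernel)]
  have : cf chevE8 204 ((⟨1, by decide⟩ : Fin 8) : ℕ) = 10 := by decide +kernel
  rw [this]
  norm_num

variable {F : Type u} [Field F] [Fintype F] {k : ℕ} (ρ : Representation ℂ ↥(chevE8.group F) (Fin k → ℂ))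

theorem isPrimePow_card (F : Type u) [Field F] [Fintype F] : IsPrimePow (Fintype.card F) := by
  obtain ⟨p, hp⟩ := CharP.exists F
  obtain ⟨n, hp', hn⟩ := FiniteField.card F p
  rw [hn]
  exact hp'.isPrimePow.pow n.ne_zero

theorem main (hρ : ρ.IsIrreducible) (hk : 2 ≤ k) : d8 (Fintype.card F) ≤ k := by
  classical
  have hq : 2 ≤ Fintype.card F := Fintype.one_lt_card
  have hfr : finrank ℂ (Fin k → ℂ) = k := finrank_fin_fun ℂ
  have hm : Moves (fun v (a : F) => ρ (XX ty_E8 v a)) (PhiZ chevE8 8 []) := by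
    rw [PhiZ_nil]
    exact moves ty_E8 ρ (exists_ne_one ρ hρ (by rw [hfr]; exact hk))
  have H := sysZ ty_E8 [] ρ
  have hE := ext_rep ty_E8 a5_E8 ρ
  rw [five, six, seven] at hE
  have h1 := step8 level8 sum8 ⟨_, top8_mem, top8_deg⟩ level7 sum7 level6 sum6 top6 H hm hE
  rw [hfr] at h1
  rcases level8.bound H hm (by norm_num) with h | ⟨_, _, hdim, _, _⟩
  · rw [hfr] at h
    exact (big8 hq).trans h
  · by_contra hc
    push Not at hc
    obtain ⟨i, hi⟩ : ∃ i, k + i = d8 (Fintype.card F) := ⟨d8 (Fintype.card F) - k, by omega⟩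
    have htr := H.trace top8_mem (hdim _ top8_mem)
    rw [← pow_succ'] at htr
    have hchar : ρ.character (XX ty_E8 (vec chevE8 8 239) 1) =
        (finrank ℂ (Fin k → ℂ) : ℂ) - ((Fintype.card F ^ 29 : ℕ) : ℂ) := htr
    have hcent : (alpha F).range ≤ Subgroup.centralizer {XX ty_E8 (vec chevE8 8 239) (1 : F)} := by
      rintro _ ⟨g, rfl⟩
      have hg : g ∈ (Subgroup.centralizer {XX ty_E8 (vec chevE8 8 239) (1 : F)}).comap (alpha F) := by
        apply Cfsg.Agent.ChevalleyStructure.St.Rels.mem_of_gens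
        intro r hr t
        rw [Subgroup.mem_comap, alpha_stGen F hr, Subgroup.mem_centralizer_iff]
        rintro y rfl
        apply Subtype.ext
        have hmem := mem78 hr
        have hmem' := hmem
        rw [seven] at hmem'
        have hB : bf chevE8 8 (vec chevE8 8 239) (vec chevE8 8 (ι78 r)) = 0 := by
          rw [level8.G.top _ top8_mem top8_deg _ hmem'.1]
          exact hmem'.2
        exact comm0 ty_E8 top8_mem.1 hmem.1 hB.ge 1 _
      exact hg
    have hdvd := dvd_of_char ρ (by rw [hfr]; omega) (XX ty_E8 (vec chevE8 8 239) (1 : F)) (Fintype.card F ^ 29) hchar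
      (alpha F).range hcent
    rw [hfr] at hdvd
    obtain ⟨κ, hκ, hcard⟩ := card_range F
    have hG := Cfsg.Agent.S1065.result (F := F) rfl
    refine num_E8 hq (isPrimePow_card F) hκ hi (by omega) (by omega) ?_
    rw [← hcard, ← hG]
    calc k * (Nat.card (alpha F).range * κ) = κ * (k * Nat.card (alpha F).range) := by ring
      _ ∣ κ * (Nat.card ↥(chevE8.group F) * Fintype.card F ^ 29) := Nat.mul_dvd_mul_left _ hdvd
      _ = _ := by ring

end Cfsg.Agent.H120.EEight
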