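import Cfsg.Agent.H120.Levi

/-!
# One level of the induction

`Level` : the combinatorial data; `Level.bound` : either the weight spaces of the root groups are large and so is `V`,
or the fixed space `C` of the unipotent radical is a nontrivial module of the Levi factor, and
`dim V ≥ (q - 1) ∑ q ^ js + dim C` (plus `(q - 1) q ^ m` if there is a root of degree two).
-/

set_option autoImplicit false
set_option linter.unusedSectionVars false

namespace Cfsg.Agent.H120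

open Module Cfsg.Agent.OddHalf.SL.Defs

variable {L : Type*} [AddCommGroup L] {F : Type*} [Field F]
  {V : Type*} [AddCommGroup V] [Module ℂ V]

/-- a root group acts nontrivially -/
def Moves (x : L → F → Module.End ℂ V) (Φ : Set L) : Prop :=
  ∃ r ∈ Φ, ∃ ψ : AddChar F ℂ, ψ ≠ 0 ∧ ∃ v : V, v ≠ 0 ∧ v ∈ wt x r ψ

/-- the combinatorial data of a level -/
structure Level (B : L → L → ℤ) (Φ : Set L) (g lam f : L → ℤ) (r₀ : L) (m : ℕ) (js : List ℕ) : Prop where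
  R : Roots B Φ
  G : Grad B Φ g
  K : KillHyp B Φ g
  Λ : LevHyp B Φ g lam r₀
  card : ∀ r ∈ Φ, {s | s ∈ Φ ∧ B s r = 1}.ncard = 2 * m
  conn : ∃ b ∈ Φ, ∀ P : L → Prop, P b → (∀ r ∈ Φ, ∀ s ∈ Φ, B r s = 1 → P s → P r) → ∀ r ∈ Φ, P r
  fadd : ∀ a b, f (a + b) = f a + f b
  finj : ∀ a ∈ Φ, ∀ b ∈ Φ, f a = f b → a = b
  sum : ∃ I : Finset L, (∀ s, s ∈ I ↔ s ∈ Φ ∧ g s = 1) ∧
    ∀ q : ℕ, ∑ r ∈ I, q ^ (AP R r (fun s => g s = 1 ∧ f r < f s)).card = (js.map (fun j => q ^ j)).sum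

namespace Level

variable {B : L → L → ℤ} {Φ : Set L} {g lam f : L → ℤ} {r₀ : L} {m : ℕ} {js : List ℕ}
  (Λ : Level B Φ g lam f r₀ m js) {x : L → F → Module.End ℂ V} (H : Sys B Φ x)
  [Fintype F] [FiniteDimensional ℂ V]

include Λ H

theorem fneg (a : L) : f (-a) = - f a := by
  have h0 := Λ.fadd 0 0
  have h1 := Λ.fadd a (-a)
  rw [add_zero] at h0
  rw [add_neg_cancel] at h1
  omega

/-- the dimension of the weight spaces -/
theorem exists_dim (hm : Moves x Φ) :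
    ∃ n : ℕ, 1 ≤ n ∧ ∀ r ∈ Φ, ∀ ψ : AddChar F ℂ, ψ ≠ 0 → finrank ℂ (wt x r ψ) = Fintype.card F ^ m * n := by
  classical
  obtain ⟨r₁, hr₁, ψ₁, hψ₁, v, hv, hv'⟩ := hm
  obtain ⟨b, hb, hconn⟩ := Λ.conn
  have R := Λ.R
  -- the isotropic half
  have hsub : ∀ a b, f (a - b) = f a - f b := by
    intro a b
    rw [sub_eq_add_neg, Λ.fadd, Λ.fneg H]; ring
  have hP : ∀ s ∈ Φ, B s b = 1 → f (b - s) < f s → ¬ f (b - (b - s)) < f (b - s) := by
    intro s _ _ h1 h2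
    rw [sub_sub_cancel] at h2
    omega
  have hP' : ∀ s ∈ Φ, B s b = 1 → f (b - s) < f s ∨ f (b - (b - s)) < f (b - s) := by
    intro s hs h1
    rw [sub_sub_cancel]
    have h2 : b - s ∈ Φ := R.sub_mem hb hs (by rw [R.symm]; exact h1)
    have h3 : f (b - s) ≠ f s := by
      intro h4
      have h5 := Λ.finj _ h2 _ hs h4
      have h6 := R.two b hb
      have h7 : b = s + s := by
        nth_rewrite 1 [← h5]
        abel
      rw [h7, R.add_left, R.add_right, R.two s hs] at h6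
      omega
    omega
  have h1 := two_mul_card_AP R hb hP hP'
  rw [Λ.card b hb] at h1
  have h2 : (AP R b (fun s => f (b - s) < f s)).card = m := by omega
  have h3 := fun (ψ : AddChar F ℂ) (hψ : ψ ≠ 0) => H.finrank_wt R hb hψ (AP R b (fun s => f (b - s) < f s))
    (fun a ha => (mem_AP.1 ha).1) (fun a ha => (mem_AP.1 ha).2.1) (AP_nonneg R hb hP)
  -- constancy
  have h4 : ∀ r ∈ Φ, ∀ ψ : AddChar F ℂ, ψ ≠ 0 → ∀ ψ' : AddChar F ℂ, ψ' ≠ 0 →
      finrank ℂ (wt x r ψ) = finrank ℂ (wt x b ψ') := by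
    have hb' : ∀ ψ : AddChar F ℂ, ψ ≠ 0 → ∀ ψ' : AddChar F ℂ, ψ' ≠ 0 →
        finrank ℂ (wt x b ψ) = finrank ℂ (wt x b ψ') := by
      intro ψ hψ ψ' hψ'
      by_cases hm0 : m = 0
      · -- no root at `60°` : then `Φ = {b}`, which is impossible
        exfalso
        have h5 : ∀ r ∈ Φ, r = b := by
          apply hconn (fun r => r = b) rfl
          intro r hr s hs hrs _
          exfalso
          have h6 := Λ.card s hs
          rw [hm0, mul_zero, Set.ncard_eq_zero (R.fin.subset (fun _ h => h.1))] at h6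
          have h7 : r ∈ {t | t ∈ Φ ∧ B t s = 1} := ⟨hr, hrs⟩
          rw [h6] at h7
          exact h7
        have h6 := h5 _ (R.neg_mem b hb)
        have h7 := R.two b hb
        have h8 : B (-b) b = 2 := by rw [h6]; exact h7
        rw [R.neg_left, h7] at h8
        norm_num at h8
      · have h5 : 0 < {s | s ∈ Φ ∧ B s b = 1}.ncard := by rw [Λ.card b hb]; omega
        rw [Set.ncard_pos (R.fin.subset (fun _ h => h.1))] at h5
        obtain ⟨s, hs, hsb⟩ := h5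
        rw [← H.finrank_wt_adj R hs hb hsb hψ hψ, ← H.finrank_wt_adj R hs hb hsb hψ hψ']
    apply hconn (fun r => ∀ ψ : AddChar F ℂ, ψ ≠ 0 → ∀ ψ' : AddChar F ℂ, ψ' ≠ 0 →
      finrank ℂ (wt x r ψ) = finrank ℂ (wt x b ψ')) hb'
    intro r hr s hs hrs ih ψ hψ ψ' hψ'
    rw [H.finrank_wt_adj R hr hs hrs hψ hψ']
    exact ih ψ' hψ' ψ' hψ'
  refine ⟨finrank ℂ (EE x b ψ₁ (AP R b (fun s => f (b - s) < f s))), ?_, ?_⟩
  · by_contra hc
    have h5 : finrank ℂ (EE x b ψ₁ (AP R b (fun s => f (b - s) < f s))) = 0 := by omega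
    have h6 := h3 ψ₁ hψ₁
    rw [h5, mul_zero, ← h4 r₁ hr₁ ψ₁ hψ₁ ψ₁ hψ₁] at h6
    have h7 := one_le_finrank hv' hv
    omega
  · intro r hr ψ hψ
    rw [h4 r hr ψ hψ ψ₁ hψ₁, h3 ψ₁ hψ₁, h2]

/-- **one level** -/
theorem bound (hm : Moves x Φ) (hm0 : 1 ≤ m) :
    2 * (Fintype.card F ^ 2 - 1) * Fintype.card F ^ (m - 1) ≤ finrank ℂ V ∨
    (Moves x {s | s ∈ Φ ∧ g s = 0} ∧ (∃ v : V, v ≠ 0 ∧ v ∈ Fx x {s | s ∈ Φ ∧ 1 ≤ g s} ∧
        ∃ ψ : AddChar F ℂ, ψ ≠ 0 ∧ v ∈ wt x r₀ ψ) ∧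
      (∀ r ∈ Φ, ∀ ψ : AddChar F ℂ, ψ ≠ 0 → finrank ℂ (wt x r ψ) = Fintype.card F ^ m) ∧
      (Fintype.card F - 1) * (js.map (fun j => Fintype.card F ^ j)).sum +
        finrank ℂ (Fx x {s | s ∈ Φ ∧ 1 ≤ g s}) ≤ finrank ℂ (Fx x {s | s ∈ Φ ∧ g s = 2}) ∧
      ((∃ t ∈ Φ, g t = 2) → finrank ℂ V = (Fintype.card F - 1) * Fintype.card F ^ m +
        finrank ℂ (Fx x {s | s ∈ Φ ∧ g s = 2}))) := by
  obtain ⟨n, hn, hdim⟩ := Λ.exists_dim H hm
  have hq : 2 ≤ Fintype.card F := Fintype.one_lt_card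
  rcases Nat.lt_or_ge n 2 with h | h
  · right
    have hn1 : n = 1 := by omega
    subst hn1
    have O : One B Φ x m := ⟨Λ.card, fun r hr ψ hψ => by rw [hdim r hr ψ hψ, mul_one]⟩
    obtain ⟨r₁, hr₁, ψ₁, hψ₁, v, hv, hv'⟩ := hm
    obtain ⟨w, hw, hw1, hw2⟩ := H.moved Λ.R Λ.G O Λ.Λ hψ₁
    obtain ⟨I, hI, hsum⟩ := Λ.sum
    refine ⟨⟨r₀, ⟨Λ.Λ.mem, Λ.Λ.g0⟩, ψ₁, hψ₁, w, hw, hw1⟩, ⟨w, hw, hw2, ψ₁, hψ₁, hw1⟩, O.dim, ?_, ?_⟩
    · have h1 := H.count Λ.R Λ.G Λ.K O Λ.fadd (fun a ha b hb _ _ => Λ.finj a ha b hb) I hI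
      rwa [← Finset.mul_sum, hsum] at h1
    · rintro ⟨t, ht, hgt⟩
      exact H.count_top Λ.R Λ.G O ht hgt
  · left
    obtain ⟨r₁, hr₁, ψ₁, hψ₁, v, hv, hv'⟩ := hm
    have R := Λ.R
    have h5 : 0 < {s | s ∈ Φ ∧ B s r₁ = 1}.ncard := by rw [Λ.card r₁ hr₁]; omega
    rw [Set.ncard_pos (R.fin.subset (fun _ h => h.1))] at h5
    obtain ⟨s, hs, hsr⟩ := h5
    have h1 := H.bound_two R hr₁ hs (by rw [R.symm]; exact hsr) hψ₁
    rw [hdim r₁ hr₁ ψ₁ hψ₁] at h1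
    obtain ⟨k, rfl⟩ : ∃ k, m = k + 1 := ⟨m - 1, by omega⟩
    rw [Nat.add_sub_cancel]
    have h2 : Fintype.card F * ((Fintype.card F ^ 2 - 1) * Fintype.card F ^ k * n) ≤
        Fintype.card F * finrank ℂ V := by
      calc Fintype.card F * ((Fintype.card F ^ 2 - 1) * Fintype.card F ^ k * n)
          = (Fintype.card F ^ 2 - 1) * (Fintype.card F ^ (k + 1) * n) := by rw [pow_succ]; ring
        _ ≤ _ := h1
    have h3 := Nat.le_of_mul_le_mul_left h2 (by omega)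
    refine le_trans ?_ h3
    calc 2 * (Fintype.card F ^ 2 - 1) * Fintype.card F ^ k
        = (Fintype.card F ^ 2 - 1) * Fintype.card F ^ k * 2 := by ring
      _ ≤ _ := Nat.mul_le_mul_left _ h

end Level

end Cfsg.Agent.H120
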