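import Cfsg.Agent.H120.Wt
import Cfsg.Agent.H120.Irr
import Cfsg.Agent.OddHalf.SL.Defs

/-!
# Root operators of simply laced type: weights

`Sys B Φ x` : operators `x r a` (`r ∈ Φ`, `a ∈ F`) on a complex vector space with the simply laced commutator
relations.  `wt x r ψ` : the weight space of the additive character `ψ` for `x r`.

* `Sys.finrank_wt` : `dim wt x r ψ = q ^ |A| * dim E(A)`, `A` isotropic in `{s : (s, r) = 1}`;
* `Sys.finrank_const` : `dim wt x r ψ` does not depend on `r ∈ Φ`, `ψ ≠ 0`;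
* `Sys.bound_two` : `(q^2 - 1) * D0 ≤ dim V`, `q * D0 = dim wt x r ψ`.
-/

set_option autoImplicit false
set_option linter.unusedSectionVars false

namespace Cfsg.Agent.H120

open Module Cfsg.Agent.OddHalf.SL.Defs

variable {L : Type*} [AddCommGroup L] {F : Type*} [Field F]
  {V : Type*} [AddCommGroup V] [Module ℂ V]

/-- operators with the simply laced commutator relations -/
structure Sys (B : L → L → ℤ) (Φ : Set L) (x : L → F → Module.End ℂ V) : Prop where
  zero : ∀ r ∈ Φ, x r 0 = 1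
  add : ∀ r ∈ Φ, ∀ a b, x r (a + b) = x r a * x r b
  comm0 : ∀ r ∈ Φ, ∀ s ∈ Φ, 0 ≤ B r s → ∀ a b, x r a * x s b = x s b * x r a
  comm1 : ∀ r ∈ Φ, ∀ s ∈ Φ, B r s = -1 → ∃ ε : F, ε ≠ 0 ∧ ∀ a b,
    x r a * x s b = x (r + s) (ε * a * b) * x s b * x r a

/-- the weight space -/
def wt (x : L → F → Module.End ℂ V) (r : L) (ψ : AddChar F ℂ) : Submodule ℂ V where
  carrier := {v | ∀ a, x r a v = ψ a • v}
  add_mem' := by
    intro v w hv hw a
    rw [map_add, hv a, hw a, smul_add]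
  zero_mem' := by
    intro a
    rw [map_zero, smul_zero]
  smul_mem' := by
    intro c v hv a
    rw [map_smul, hv a, smul_comm]

theorem mem_wt {x : L → F → Module.End ℂ V} {r : L} {ψ : AddChar F ℂ} {v : V} :
    v ∈ wt x r ψ ↔ ∀ a, x r a v = ψ a • v := Iff.rfl

section mulShift

variable [Fintype F]

theorem exists_mulShift {ψ : AddChar F ℂ} (hψ : ψ ≠ 0) (φ : AddChar F ℂ) :
    ∃ d : F, AddChar.mulShift ψ d = φ := by
  classical
  have hinj : Function.Injective (fun d : F => AddChar.mulShift ψ d) :=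
    fun a b h => AddChar.to_mulShift_inj_of_isPrimitive (AddChar.IsPrimitive.of_ne_one hψ) h
  have hb : Function.Bijective (fun d : F => AddChar.mulShift ψ d) := by
    rw [Fintype.bijective_iff_injective_and_card]
    exact ⟨hinj, AddChar.card_eq.symm⟩
  exact hb.2 φ

theorem ψ_apply_zero (ψ : AddChar F ℂ) : ψ 0 = 1 := AddChar.map_zero_eq_one ψ

end mulShift

namespace Sys

variable {B : L → L → ℤ} {Φ : Set L} {x : L → F → Module.End ℂ V} (H : Sys B Φ x)

include H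

theorem add_apply {r : L} (hr : r ∈ Φ) (a b : F) (v : V) : x r (a + b) v = x r a (x r b v) := by
  rw [H.add r hr, Module.End.mul_apply]

theorem zero_apply {r : L} (hr : r ∈ Φ) (v : V) : x r 0 v = v := by
  rw [H.zero r hr, Module.End.one_apply]

theorem neg_apply {r : L} (hr : r ∈ Φ) (a : F) (v : V) : x r (-a) (x r a v) = v := by
  rw [← H.add_apply hr, neg_add_cancel, H.zero_apply hr]

theorem apply_neg {r : L} (hr : r ∈ Φ) (a : F) (v : V) : x r a (x r (-a) v) = v := by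
  rw [← H.add_apply hr, add_neg_cancel, H.zero_apply hr]

theorem inj {r : L} (hr : r ∈ Φ) (a : F) : Function.Injective (x r a) := by
  intro v w h
  rw [← H.neg_apply hr a v, h, H.neg_apply hr]

theorem comm0_apply {r s : L} (hr : r ∈ Φ) (hs : s ∈ Φ) (h : 0 ≤ B r s) (a b : F) (v : V) :
    x r a (x s b v) = x s b (x r a v) := by
  rw [← Module.End.mul_apply, H.comm0 r hr s hs h, Module.End.mul_apply]

/-- the action of `F` through `x r` -/
def act {r : L} (hr : r ∈ Φ) : AddAct F V := ⟨x r, H.zero r hr, H.add r hr⟩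

theorem act_wt {r : L} (hr : r ∈ Φ) (ψ : AddChar F ℂ) : (H.act hr).wt ψ = wt x r ψ := rfl

/-- weights do not change under commuting root operators -/
theorem wt0 {r γ : L} (hr : r ∈ Φ) (hγ : γ ∈ Φ) (h : 0 ≤ B r γ) {ψ : AddChar F ℂ} {v : V}
    (hv : v ∈ wt x r ψ) (c : F) : x γ c v ∈ wt x r ψ := by
  intro a
  rw [H.comm0_apply hr hγ h, hv a, map_smul]

/-- weights move by the commutator -/
theorem wt1 (R : Roots B Φ) {r γ : L} (hr : r ∈ Φ) (hγ : γ ∈ Φ) (h : B r γ = -1) :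
    ∃ ε : F, ε ≠ 0 ∧ ∀ (ψ φ : AddChar F ℂ) (v : V), v ∈ wt x r ψ → v ∈ wt x (r + γ) φ →
      ∀ c, x γ c v ∈ wt x r (ψ + AddChar.mulShift φ (ε * c)) := by
  obtain ⟨ε, hε, he⟩ := H.comm1 r hr γ hγ h
  refine ⟨ε, hε, ?_⟩
  intro ψ φ v hv hv' c a
  have hrγ : r + γ ∈ Φ := R.add r hr γ hγ h
  have h2 : 0 ≤ B (r + γ) γ := by
    rw [R.add_left, h, R.two γ hγ]; norm_num
  rw [← Module.End.mul_apply, he a c, Module.End.mul_apply, Module.End.mul_apply, hv a, map_smul,
    map_smul, H.comm0_apply hrγ hγ h2, hv' (ε * a * c), map_smul, smul_smul, AddChar.add_apply,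
    AddChar.mulShift_apply]
  congr 3
  ring

/-- weights do not move if `x (r + γ)` acts trivially -/
theorem wt1_zero (R : Roots B Φ) {r γ : L} (hr : r ∈ Φ) (hγ : γ ∈ Φ) (h : B r γ = -1)
    {ψ : AddChar F ℂ} {v : V} (hv : v ∈ wt x r ψ) (hv' : v ∈ wt x (r + γ) 0) (c : F) :
    x γ c v ∈ wt x r ψ := by
  obtain ⟨ε, hε, he⟩ := H.wt1 R hr hγ h
  have h1 := he ψ 0 v hv hv' c
  have h2 : AddChar.mulShift (0 : AddChar F ℂ) (ε * c) = 0 := by
    ext a
    rfl
  rwa [h2, add_zero] at h1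

section fin

variable [Fintype F] [FiniteDimensional ℂ V]

/-- splitting of an invariant subspace -/
theorem finrank_split {r : L} (hr : r ∈ Φ) (U : Submodule ℂ V) (hU : ∀ a, ∀ v ∈ U, x r a v ∈ U) :
    finrank ℂ U = ∑ ψ : AddChar F ℂ, finrank ℂ (U ⊓ wt x r ψ : Submodule ℂ V) := by
  let T : AddAct F U :=
    { toFun := fun a => (x r a).restrict (hU a)
      map_zero' := by
        ext v
        exact H.zero_apply hr v
      map_add' := by
        intro a b
        ext v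
        exact H.add_apply hr a b v }
  rw [T.sum_finrank_wt]
  refine Finset.sum_congr rfl fun ψ _ => ?_
  have h1 : T.wt ψ = (wt x r ψ).comap U.subtype := by
    ext v
    constructor
    · intro h a
      exact congrArg Subtype.val (h a)
    · intro h a
      exact Subtype.ext (h a)
  rw [h1]
  have h2 : finrank ℂ ((wt x r ψ).comap U.subtype) =
      finrank ℂ (((wt x r ψ).comap U.subtype).map U.subtype) :=
    (LinearEquiv.finrank_eq (Submodule.equivMapOfInjective U.subtype U.injective_subtype _))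
  rw [h2, Submodule.map_comap_subtype]

theorem finrank_le {γ : L} (hγ : γ ∈ Φ) (c : F) {U U' : Submodule ℂ V}
    (h : ∀ v ∈ U, x γ c v ∈ U') : finrank ℂ U ≤ finrank ℂ U' :=
  finrank_le_of_map (x γ c) (H.inj hγ c) h

/-- the joint weight space: `ψ` for `r`, trivial for `A` -/
def _root_.Cfsg.Agent.H120.EE (x : L → F → Module.End ℂ V) (r : L) (ψ : AddChar F ℂ) (A : Finset L) :
    Submodule ℂ V where
  carrier := {v | v ∈ wt x r ψ ∧ ∀ a ∈ A, v ∈ wt x a 0}
  add_mem' := by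
    intro v w hv hw
    exact ⟨add_mem hv.1 hw.1, fun a ha => add_mem (hv.2 a ha) (hw.2 a ha)⟩
  zero_mem' := ⟨zero_mem _, fun a _ => zero_mem _⟩
  smul_mem' := by
    intro c v hv
    exact ⟨Submodule.smul_mem _ c hv.1, fun a ha => Submodule.smul_mem _ c (hv.2 a ha)⟩

omit H in
theorem mem_EE {r : L} {ψ : AddChar F ℂ} {A : Finset L} {v : V} :
    v ∈ EE x r ψ A ↔ v ∈ wt x r ψ ∧ ∀ a ∈ A, v ∈ wt x a 0 := Iff.rfl

/-- **the Heisenberg dimension formula** -/
theorem finrank_wt [DecidableEq L] (R : Roots B Φ) {r : L} (hr : r ∈ Φ) {ψ : AddChar F ℂ} (hψ : ψ ≠ 0)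
    (A : Finset L) (hA : ∀ a ∈ A, a ∈ Φ) (hA1 : ∀ a ∈ A, B a r = 1)
    (hA2 : ∀ a ∈ A, ∀ b ∈ A, 0 ≤ B a b) :
    finrank ℂ (wt x r ψ) = Fintype.card F ^ A.card * finrank ℂ (EE x r ψ A) := by
  induction A using Finset.induction_on with
  | empty =>
    have h0 : EE x r ψ ∅ = wt x r ψ := by
      ext v
      exact ⟨fun h => h.1, fun h => ⟨h, fun a ha => absurd ha (Finset.notMem_empty a)⟩⟩
    rw [Finset.card_empty, pow_zero, one_mul, h0]
  | insert a A haA ih =>
    have hA' := fun b (hb : b ∈ A) => hA b (Finset.mem_insert_of_mem hb)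
    have hA1' := fun b (hb : b ∈ A) => hA1 b (Finset.mem_insert_of_mem hb)
    have hA2' := fun b (hb : b ∈ A) c (hc : c ∈ A) => hA2 b (Finset.mem_insert_of_mem hb) c
      (Finset.mem_insert_of_mem hc)
    rw [ih hA' hA1' hA2', Finset.card_insert_of_notMem haA, pow_succ, mul_assoc]
    congr 1
    have ha : a ∈ Φ := hA a (Finset.mem_insert_self a A)
    have har : B a r = 1 := hA1 a (Finset.mem_insert_self a A)
    have hra : r - a ∈ Φ := R.sub_mem hr ha (by rw [R.symm]; exact har)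
    have hb1 : B a (r - a) = -1 := by rw [R.sub_right, har, R.two a ha]; norm_num
    have hb2 : 0 ≤ B r (r - a) := by rw [R.sub_right, R.two r hr, R.symm r a, har]; norm_num
    -- invariance
    have hinv : ∀ c, ∀ v ∈ EE x r ψ A, x a c v ∈ EE x r ψ A := by
      intro c v hv
      refine ⟨H.wt0 hr ha (by rw [R.symm, har]; norm_num) hv.1 c, fun b hb => ?_⟩
      exact H.wt0 (hA' b hb) ha (hA2 b (Finset.mem_insert_of_mem hb) a (Finset.mem_insert_self a A))
        (hv.2 b hb) c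
    rw [H.finrank_split ha _ hinv]
    -- all parts have the same dimension
    obtain ⟨ε, hε, he⟩ := H.wt1 R ha hra hb1
    have hmove : ∀ (φ φ' : AddChar F ℂ), ∃ c, ∀ v ∈ (EE x r ψ A ⊓ wt x a φ : Submodule ℂ V),
        x (r - a) c v ∈ (EE x r ψ A ⊓ wt x a φ' : Submodule ℂ V) := by
      intro φ φ'
      obtain ⟨d, hd⟩ := exists_mulShift hψ (φ' - φ)
      refine ⟨ε⁻¹ * d, ?_⟩
      rintro v ⟨hv, hv'⟩
      have h1 := he φ ψ v hv' (by rw [add_sub_cancel]; exact hv.1) (ε⁻¹ * d)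
      rw [← mul_assoc, mul_inv_cancel₀ hε, one_mul, hd, add_sub_cancel] at h1
      refine ⟨⟨H.wt0 hr hra hb2 hv.1 _, fun b hb => ?_⟩, h1⟩
      have hne : b ≠ a := fun h => haA (h ▸ hb)
      have h2 : B b a ≤ 1 := by
        have h3 := R.le b (hA' b hb) a ha
        have h4 : B b a ≠ 2 := fun h => hne (R.eq b (hA' b hb) a ha h)
        omega
      refine H.wt0 (hA' b hb) hra ?_ (hv.2 b hb) _
      rw [R.sub_right, hA1' b hb]
      omega
    have hsame : ∀ φ : AddChar F ℂ, finrank ℂ (EE x r ψ A ⊓ wt x a φ : Submodule ℂ V) =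
        finrank ℂ (EE x r ψ (insert a A)) := by
      intro φ
      have h0 : EE x r ψ (insert a A) = (EE x r ψ A ⊓ wt x a 0 : Submodule ℂ V) := by
        ext v
        constructor
        · intro hv
          exact ⟨⟨hv.1, fun b hb => hv.2 b (Finset.mem_insert_of_mem hb)⟩,
            hv.2 a (Finset.mem_insert_self a A)⟩
        · rintro ⟨hv, hv'⟩
          refine ⟨hv.1, fun b hb => ?_⟩
          rcases Finset.mem_insert.1 hb with rfl | hb
          · exact hv'
          · exact hv.2 b hb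
      rw [h0]
      apply le_antisymm
      · obtain ⟨c, hc⟩ := hmove φ 0
        exact H.finrank_le hra c hc
      · obtain ⟨c, hc⟩ := hmove 0 φ
        exact H.finrank_le hra c hc
    rw [Finset.sum_congr rfl (fun φ _ => hsame φ), Finset.sum_const, Finset.card_univ, AddChar.card_eq,
      smul_eq_mul]

/-- pair weights -/
theorem finrank_pair_eq (R : Roots B Φ) {r s : L} (hr : r ∈ Φ) (hs : s ∈ Φ) (hrs : B r s = 1)
    (φ φ' : AddChar F ℂ) {ψ : AddChar F ℂ} (hψ : ψ ≠ 0) :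
    finrank ℂ (wt x r φ ⊓ wt x s ψ : Submodule ℂ V) ≤
      finrank ℂ (wt x r φ' ⊓ wt x s ψ : Submodule ℂ V) := by
  have hγ : s - r ∈ Φ := R.sub_mem hs hr (by rw [R.symm]; exact hrs)
  have h1 : B r (s - r) = -1 := by rw [R.sub_right, hrs, R.two r hr]; norm_num
  have h2 : 0 ≤ B s (s - r) := by rw [R.sub_right, R.two s hs, R.symm s r, hrs]; norm_num
  obtain ⟨ε, hε, he⟩ := H.wt1 R hr hγ h1
  obtain ⟨d, hd⟩ := exists_mulShift hψ (φ' - φ)
  refine H.finrank_le hγ (ε⁻¹ * d) ?_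
  rintro v ⟨hv, hv'⟩
  have h3 := he φ ψ v hv (by rw [add_sub_cancel]; exact hv') (ε⁻¹ * d)
  rw [← mul_assoc, mul_inv_cancel₀ hε, one_mul, hd, add_sub_cancel] at h3
  exact ⟨h3, H.wt0 hs hγ h2 hv' _⟩

theorem finrank_pair (R : Roots B Φ) {r s : L} (hr : r ∈ Φ) (hs : s ∈ Φ) (hrs : B r s = 1)
    {φ ψ φ' ψ' : AddChar F ℂ} (h : φ ≠ 0 ∨ ψ ≠ 0) (h' : φ' ≠ 0 ∨ ψ' ≠ 0) :
    finrank ℂ (wt x r φ ⊓ wt x s ψ : Submodule ℂ V) ≤
      finrank ℂ (wt x r φ' ⊓ wt x s ψ' : Submodule ℂ V) := by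
  classical
  have hsr : B s r = 1 := by rw [R.symm]; exact hrs
  have key1 : ∀ φ φ' : AddChar F ℂ, ∀ {ψ : AddChar F ℂ}, ψ ≠ 0 →
      finrank ℂ (wt x r φ ⊓ wt x s ψ : Submodule ℂ V) ≤
      finrank ℂ (wt x r φ' ⊓ wt x s ψ : Submodule ℂ V) := fun φ φ' ψ hψ => H.finrank_pair_eq R hr hs hrs φ φ' hψ
  have key2 : ∀ ψ ψ' : AddChar F ℂ, ∀ {φ : AddChar F ℂ}, φ ≠ 0 →
      finrank ℂ (wt x r φ ⊓ wt x s ψ : Submodule ℂ V) ≤
      finrank ℂ (wt x r φ ⊓ wt x s ψ' : Submodule ℂ V) := by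
    intro ψ ψ' φ hφ
    rw [inf_comm, inf_comm (wt x r φ)]
    exact H.finrank_pair_eq R hs hr hsr ψ ψ' hφ
  obtain ⟨χ, hχ⟩ : ∃ χ : AddChar F ℂ, χ ≠ 0 := by
    rcases h with h | h
    · exact ⟨φ, h⟩
    · exact ⟨ψ, h⟩
  -- to `(χ, χ)`
  have hto : finrank ℂ (wt x r φ ⊓ wt x s ψ : Submodule ℂ V) ≤
      finrank ℂ (wt x r χ ⊓ wt x s χ : Submodule ℂ V) := by
    by_cases hψ : ψ = 0
    · have hφ : φ ≠ 0 := by
        rcases h with h | h
        · exact h
        · exact absurd hψ h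
      exact (key2 ψ χ hφ).trans (key1 φ χ hχ)
    · exact (key1 φ χ hψ).trans (key2 ψ χ hχ)
  have hfrom : finrank ℂ (wt x r χ ⊓ wt x s χ : Submodule ℂ V) ≤
      finrank ℂ (wt x r φ' ⊓ wt x s ψ' : Submodule ℂ V) := by
    by_cases hψ : ψ' = 0
    · have hφ : φ' ≠ 0 := by
        rcases h' with h | h
        · exact h
        · exact absurd hψ h
      exact (key1 χ φ' hχ).trans (key2 χ ψ' hφ)
    · exact (key2 χ ψ' hχ).trans (key1 χ φ' hψ)
  exact hto.trans hfrom

/-- adjacent roots have weight spaces of the same dimension -/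
theorem finrank_wt_pair (R : Roots B Φ) {r s : L} (hr : r ∈ Φ) (hs : s ∈ Φ) (hrs : B r s = 1)
    {φ ψ : AddChar F ℂ} (h : φ ≠ 0) :
    finrank ℂ (wt x r φ) = Fintype.card F * finrank ℂ (wt x r φ ⊓ wt x s ψ : Submodule ℂ V) := by
  rw [H.finrank_split hs (wt x r φ) (fun a v hv => H.wt0 hr hs (by rw [hrs]; norm_num) hv a)]
  have h1 : ∀ χ : AddChar F ℂ, finrank ℂ (wt x r φ ⊓ wt x s χ : Submodule ℂ V) =
      finrank ℂ (wt x r φ ⊓ wt x s ψ : Submodule ℂ V) := fun χ =>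
    le_antisymm (H.finrank_pair R hr hs hrs (Or.inl h) (Or.inl h))
      (H.finrank_pair R hr hs hrs (Or.inl h) (Or.inl h))
  rw [Finset.sum_congr rfl (fun χ _ => h1 χ), Finset.sum_const, Finset.card_univ, AddChar.card_eq,
    smul_eq_mul]

theorem finrank_wt_adj (R : Roots B Φ) {r s : L} (hr : r ∈ Φ) (hs : s ∈ Φ) (hrs : B r s = 1)
    {φ ψ : AddChar F ℂ} (hφ : φ ≠ 0) (hψ : ψ ≠ 0) :
    finrank ℂ (wt x r φ) = finrank ℂ (wt x s ψ) := by
  rw [H.finrank_wt_pair R hr hs hrs (ψ := ψ) hφ,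
    H.finrank_wt_pair R hs hr (by rw [R.symm]; exact hrs) (ψ := φ) hψ, inf_comm (wt x s ψ)]

/-- the number of weight spaces of pairs: `(q² - 1) D₀ ≤ dim V` -/
theorem bound_two (R : Roots B Φ) {r s : L} (hr : r ∈ Φ) (hs : s ∈ Φ) (hrs : B r s = 1)
    {φ : AddChar F ℂ} (hφ : φ ≠ 0) :
    (Fintype.card F ^ 2 - 1) * finrank ℂ (wt x r φ) ≤ Fintype.card F * finrank ℂ V := by
  classical
  set D0 := finrank ℂ (wt x r φ ⊓ wt x s φ : Submodule ℂ V) with hD0
  have h1 := H.finrank_wt_pair R hr hs hrs (ψ := φ) hφ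
  rw [← hD0] at h1
  have hV : finrank ℂ V = ∑ χ : AddChar F ℂ, ∑ χ' : AddChar F ℂ,
      finrank ℂ (wt x r χ ⊓ wt x s χ' : Submodule ℂ V) := by
    have h2 := H.finrank_split hr ⊤ (fun a v hv => Submodule.mem_top)
    rw [finrank_top] at h2
    rw [h2]
    refine Finset.sum_congr rfl fun χ _ => ?_
    rw [top_inf_eq]
    exact H.finrank_split hs (wt x r χ) (fun a v hv => H.wt0 hr hs (by rw [hrs]; norm_num) hv a)
  have h3 : (Fintype.card F ^ 2 - 1) * D0 ≤ finrank ℂ V := by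
    rw [hV, ← Finset.sum_product']
    have h4 : (Finset.univ ×ˢ Finset.univ : Finset (AddChar F ℂ × AddChar F ℂ)) = Finset.univ := by
      rw [Finset.univ_product_univ]
    rw [h4, ← Finset.sum_erase_add (a := ((0, 0) : AddChar F ℂ × AddChar F ℂ)) _ _ (Finset.mem_univ _)]
    refine le_trans ?_ (Nat.le_add_right _ _)
    have h5 : ∀ p ∈ (Finset.univ : Finset (AddChar F ℂ × AddChar F ℂ)).erase (0, 0),
        D0 ≤ finrank ℂ (wt x r p.1 ⊓ wt x s p.2 : Submodule ℂ V) := by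
      intro p hp
      refine H.finrank_pair R hr hs hrs (Or.inl hφ) ?_
      by_contra hc
      push Not at hc
      exact (Finset.mem_erase.1 hp).1 (Prod.ext hc.1 hc.2)
    have h6 := Finset.card_nsmul_le_sum _ _ D0 h5
    rw [Finset.card_erase_of_mem (Finset.mem_univ _), Finset.card_univ, Fintype.card_prod,
      AddChar.card_eq, smul_eq_mul, ← sq] at h6
    exact h6
  calc (Fintype.card F ^ 2 - 1) * finrank ℂ (wt x r φ)
      = Fintype.card F * ((Fintype.card F ^ 2 - 1) * D0) := by rw [h1]; ring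
    _ ≤ _ := Nat.mul_le_mul_left _ h3

end fin

end Sys

end Cfsg.Agent.H120
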