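import Cfsg.Agent.KFacts.En.Roots
import Cfsg.Agent.TitsThree.KExcGen
import Cfsg.Agent.H120.Sys

/-!
# The root operators of a Chevalley group of type D₄, E₆, E₇, E₈

`XG hp v a` : the root element of the root `v`; `comm0`, `comm1` : the commutator relations; `sys` : the system of
root operators of a representation.
-/

set_option autoImplicit false
set_option linter.unusedSectionVars false

namespace Cfsg.Agent.H120.ChevSys

open Cfsg.Lie Cfsg.Agent.ChevalleyStructure.Elts Cfsg.Agent.ChevalleyStructure.RootVec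
  Cfsg.Agent.ChevalleyStructure.CoxeterGeom Cfsg.Agent.Tits.Roots
  Cfsg.Agent.ChevalleyStructure.RootVecTab Cfsg.Agent.ChevalleyStructure.CoxeterGeomTypes
  Cfsg.Agent.Nodes.RGDChev Cfsg.Agent.KFacts.En.Roots Cfsg.Agent.TitsThree.KExcBase
open scoped commutatorElement

universe u

variable {D : ChevalleyDatum} {l : ℕ} {M : CoxeterMatrix (Fin l)} (hp : Ty D l M) {F : Type u} [Field F]

open Classical in
/-- the index of a root -/
noncomputable def idx (D : ChevalleyDatum) (l : ℕ) (v : Fin l → ℤ) : ℕ :=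
  if h : ∃ r, r < D.nroots ∧ vec D l r = v then h.choose else 0

theorem idx_vec {r : ℕ} (hr : r < D.nroots) (hp : Ty D l M) : idx D l (vec D l r) = r := by
  have h : ∃ s, s < D.nroots ∧ vec D l s = vec D l r := ⟨r, hr, rfl⟩
  rw [idx, dif_pos h]
  exact Cfsg.Agent.Nodes.RGDChev.vec_inj hp.ty h.choose_spec.1 hr h.choose_spec.2

/-- the root elements -/
noncomputable def XG (v : Fin l → ℤ) (a : F) : GL D.Idx F := xG hp.ty.inList (idx D l v) a

theorem XG_vec {r : ℕ} (hr : r < D.nroots) (a : F) : XG hp (vec D l r) a = xG hp.ty.inList r a := by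
  rw [XG, idx_vec hr hp]

theorem XG_add (v : Fin l → ℤ) (a b : F) : XG hp v (a + b) = XG hp v a * XG hp v b :=
  (xG_add hp.ty.inList _ a b).symm

theorem XG_zero (v : Fin l → ℤ) : XG hp v (0 : F) = 1 := xG_zero hp.ty.inList _

theorem XG_mem (v : Fin l → ℤ) (a : F) : XG hp v a ∈ D.group F := xG_mem_group hp.ty.inList _ a

/-- the form on a combination of two roots -/
theorem bf_comb (v w : Fin l → ℤ) (i j : ℤ) :
    bf D l (i • v + j • w) (i • v + j • w) = i * i * bf D l v v + i * j * (bf D l v w + bf D l w v) + j * j * bf D l w w := by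
  rw [bf_add_left, bf_add_right, bf_add_right, bf_smul_left, bf_smul_left, bf_smul_right, bf_smul_right,
    bf_smul_left, bf_smul_left, bf_smul_right, bf_smul_right]
  ring

include hp in
theorem commTerms_nil {r s : ℕ} (hr : r < D.nroots) (hs : s < D.nroots)
    (h : 0 ≤ bf D l (vec D l r) (vec D l s)) : D.commTerms r s = [] := by
  rw [List.eq_nil_iff_forall_not_mem]
  rintro ⟨u, C, i, j⟩ hu
  obtain ⟨hu1, _, _, hi, hj, h2⟩ := commTerms_rt hp.ty.checked hu
  have h3 : vec D l u = (i : ℤ) • vec D l r + (j : ℤ) • vec D l s := by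
    funext a
    rw [Pi.add_apply, Pi.smul_apply, Pi.smul_apply, smul_eq_mul, smul_eq_mul, vec_apply, vec_apply, vec_apply]
    exact h2 a
  have h4 := bf_self hp (vec_mem (l := l) hu1)
  rw [h3, bf_comb, bf_self hp (vec_mem hr), bf_self hp (vec_mem hs), bf_symm hp (vec D l s)] at h4
  have hi' : (1 : ℤ) ≤ i := by exact_mod_cast hi
  have hj' : (1 : ℤ) ≤ j := by exact_mod_cast hj
  nlinarith [mul_nonneg (mul_nonneg (by omega : (0 : ℤ) ≤ i) (by omega : (0 : ℤ) ≤ j)) h]

/-- commuting root elements -/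
theorem comm0 {v w : Fin l → ℤ} (hv : v ∈ Phi D l) (hw : w ∈ Phi D l) (h : 0 ≤ bf D l v w) (a b : F) :
    XG hp v a * XG hp w b = XG hp w b * XG hp v a := by
  obtain ⟨r, hr, rfl⟩ := hv
  obtain ⟨s, hs, rfl⟩ := hw
  rw [XG_vec hp hr, XG_vec hp hs]
  by_cases h1 : s = r
  · subst h1
    exact comm_self hp.ty.inList _ _ _
  · have h2 : s ≠ D.neg r := by
      rintro rfl
      rw [vec_neg hp.ty hr, bf_neg_right, bf_self hp (vec_mem hr)] at h
      norm_num at h
    exact comm_nil hp.ty.inList hr hs h1 h2 (commTerms_nil hp hr hs h) a b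

/-- conjugation by `n_i` -/
theorem conj_n (i : Fin l) {v : Fin l → ℤ} (hv : v ∈ Phi D l) :
    ∃ η : F, (η = 1 ∨ η = -1) ∧ ∀ t : F,
      nG hp.ty.inList (D.simple i) 1 * XG hp v t * (nG hp.ty.inList (D.simple i) 1)⁻¹ = XG hp (rf D l i v) (η * t) := by
  obtain ⟨r, hr, rfl⟩ := hv
  obtain ⟨η, hη, h⟩ := xG_reflect (F := F) hp.ty.inList (lt_rank hp.ty i) hr
  refine ⟨η, hη, fun t => ?_⟩
  have hr' := (reflectRoot_rt hp.ty.checked (lt_rank hp.ty i) hr).1
  rw [rf_vec hp.ty i hr, XG_vec hp hr, XG_vec hp hr']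
  exact h t

theorem rf_add (i : Fin l) (v w : Fin l → ℤ) : rf D l i (v + w) = rf D l i v + rf D l i w := by
  unfold rf
  rw [pairing_add, add_smul]
  abel

/-- the commutator relation -/
theorem comm1 {v w : Fin l → ℤ} (hv : v ∈ Phi D l) (hw : w ∈ Phi D l) (h : bf D l v w = -1) :
    ∃ ε : F, (ε = 1 ∨ ε = -1) ∧ ∀ a b : F,
      XG hp v a * XG hp w b = XG hp (v + w) (ε * a * b) * XG hp w b * XG hp v a := by
  refine induct hp.ty (fun v => ∀ w ∈ Phi D l, bf D l v w = -1 → ∃ ε : F, (ε = 1 ∨ ε = -1) ∧ ∀ a b : F,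
      XG hp v a * XG hp w b = XG hp (v + w) (ε * a * b) * XG hp w b * XG hp v a) ?_ ?_ v hv w hw h
  · clear h hw hv
    rintro i w ⟨s, hs, rfl⟩ h
    have hi := lt_rank hp.ty i
    have hsi := simple_lt hp.ty.checked hi
    have h1 : D.cartan i s = -1 := by
      rw [bf_sr_left, pairing_vec hp.ty i hs] at h
      exact h
    obtain ⟨u, c, h2, h3⟩ := hp.sl.coef hp.ty.checked hi hs h1
    have h4 : (u, c, 1, 1) ∈ D.commTerms (D.simple i) s := by rw [h2]; exact List.mem_singleton.2 rfl
    obtain ⟨hu, _, _, _, _, h5⟩ := commTerms_rt hp.ty.checked h4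
    have h6 : vec D l u = sr i + vec D l s := by
      rw [← vec_simple hp.ty i]
      funext a
      rw [Pi.add_apply, vec_apply, vec_apply, vec_apply, h5 a]
      push_cast
      ring
    have h7 : s ≠ D.simple i := by
      intro e
      rw [e, vec_simple hp.ty i, bf_sr_self hp] at h
      norm_num at h
    have h8 : s ≠ D.neg (D.simple i) := by
      intro e
      rw [e, vec_neg hp.ty hsi, vec_simple hp.ty i, bf_neg_right, bf_sr_self hp] at h
      norm_num at h
    have hsr : sr i ∈ Phi D l := sr_mem hp.ty i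
    have hsum : sr i + vec D l s ∈ Phi D l := h6 ▸ vec_mem hu
    have c1 : ∀ t u' : F, xG hp.ty.inList (D.simple i) t * xG hp.ty.inList u u' =
        xG hp.ty.inList u u' * xG hp.ty.inList (D.simple i) t := by
      intro t u'
      have := comm0 hp hsr hsum (by rw [bf_add_right, bf_sr_self hp, h]; norm_num) t u'
      rwa [← h6, ← vec_simple hp.ty i, XG_vec hp hsi, XG_vec hp hu] at this
    have c2 : ∀ t u' : F, xG hp.ty.inList s t * xG hp.ty.inList u u' =
        xG hp.ty.inList u u' * xG hp.ty.inList s t := by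
      intro t u'
      have := comm0 hp (vec_mem hs) hsum (by rw [bf_add_right, bf_self hp (vec_mem hs), bf_symm hp, h]; norm_num) t u'
      rwa [← h6, XG_vec hp hs, XG_vec hp hu] at this
    refine ⟨(c : F), ?_, fun a b => ?_⟩
    · rcases h3 with h3 | h3
      · left; rw [h3]; simp
      · right; rw [h3]; simp
    · have h9 := comm_one hp.ty.inList hsi hs h7 h8 h2 c1 c2 a b
      rw [← h6, ← vec_simple hp.ty i, XG_vec hp hsi, XG_vec hp hs, XG_vec hp hu, ← h9, commutatorElement_def]
      group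
  · clear h hw hv
    intro i x hx ih y hy hxy
    have hy' := rf_mem hp.ty i hy
    have hx' := rf_mem hp.ty i hx
    obtain ⟨ε, hε, h1⟩ := ih (rf D l i y) hy' (by rw [← bf_rf hp i, rf_rf hp]; exact hxy)
    have hsum : x + rf D l i y ∈ Phi D l := add_mem hp hx hy' (by rw [← bf_rf hp i, rf_rf hp]; exact hxy)
    obtain ⟨η₁, hη₁, h2⟩ := conj_n (F := F) hp i hx
    obtain ⟨η₂, hη₂, h3⟩ := conj_n (F := F) hp i hy'
    obtain ⟨η₃, hη₃, h4⟩ := conj_n (F := F) hp i hsum
    rw [rf_rf hp] at h3
    rw [rf_add, rf_rf hp] at h4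
    have e1 : η₁ * η₁ = 1 := by rcases hη₁ with h | h <;> rw [h] <;> ring
    have e2 : η₂ * η₂ = 1 := by rcases hη₂ with h | h <;> rw [h] <;> ring
    refine ⟨η₃ * ε * η₁ * η₂, ?_, fun a b => ?_⟩
    · rcases hη₁ with h | h <;> rcases hη₂ with h' | h' <;> rcases hη₃ with h'' | h'' <;> rcases hε with h3 | h3 <;>
        rw [h, h', h'', h3] <;> simp
    · set n := nG hp.ty.inList (D.simple i) (1 : F) with hn
      have h5 := congrArg (fun g => n * g * n⁻¹) (h1 (η₁ * a) (η₂ * b))
      have e3 : ∀ g h : GL D.Idx F, n * (g * h) * n⁻¹ = (n * g * n⁻¹) * (n * h * n⁻¹) := by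
        intro g h; group
      simp only [e3] at h5
      rw [h2, h3, h4] at h5
      rw [← mul_assoc, e1, one_mul, ← mul_assoc, e2, one_mul] at h5
      rw [h5]
      congr 3
      ring

/-- the root elements in the group -/
noncomputable def XX (v : Fin l → ℤ) (a : F) : ↥(D.group F) := ⟨XG hp v a, XG_mem hp v a⟩

/-- **the system of root operators of a representation** -/
theorem sys {V : Type*} [AddCommGroup V] [Module ℂ V] (ρ : Representation ℂ ↥(D.group F) V) :
    Sys (bf D l) (Phi D l) (fun v (a : F) => ρ (XX hp v a)) where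
  zero := by
    intro r _
    have : XX hp r (0 : F) = 1 := Subtype.ext (XG_zero hp r)
    rw [this, map_one]
  add := by
    intro r _ a b
    have : XX hp r (a + b) = XX hp r a * XX hp r b := Subtype.ext (XG_add hp r a b)
    rw [this, map_mul]
  comm0 := by
    intro r hr s hs h a b
    rw [← map_mul, ← map_mul]
    congr 1
    exact Subtype.ext (comm0 hp hr hs h a b)
  comm1 := by
    intro r hr s hs h
    obtain ⟨ε, hε, h1⟩ := comm1 (F := F) hp hr hs h
    refine ⟨ε, ?_, fun a b => ?_⟩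
    · rcases hε with h | h <;> rw [h] <;> simp
    · rw [← map_mul, ← map_mul, ← map_mul]
      congr 1
      exact Subtype.ext (h1 a b)

end Cfsg.Agent.H120.ChevSys
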