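import Cfsg.Agent.H120.Level
import Cfsg.Agent.H118.SLFinal

/-!
# The chain E₈ > E₇ > E₆ > A₅

`Ext x Φ₅` : the root groups in `Φ₅` generate an image of `SL 6 F`; `step6`, `step7`, `step8` : the lower bounds
`d(E₆) - 1`, `d(E₇) - 2`, `d(E₈) - 3`.
-/

set_option autoImplicit false
set_option linter.unusedSectionVars false

namespace Cfsg.Agent.H120

open Module Matrix Cfsg.Agent.OddHalf.SL.Defs Cfsg.Agent.H118.SLMin

/-- the lower bound for nontrivial representations of `SL 6 F` -/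
theorem sl6_lower {F : Type*} [Field F] [Fintype F] {V : Type} [AddCommGroup V] [Module ℂ V]
    [FiniteDimensional ℂ V] (ρ : Representation ℂ (SpecialLinearGroup (Fin 6) F) V) (h : ∃ g, ρ g ≠ 1) :
    DD (Fintype.card F) 6 ≤ finrank ℂ V := by
  classical
  have hc : Fintype.card (Fin 6) = 6 := Fintype.card_fin 6
  obtain ⟨b, hb⟩ := Cfsg.Agent.H118.SLWt.exists_hasB (ρ := ρ) (by rw [hc]; norm_num)
  rcases Nat.lt_or_ge b 2 with h2 | h2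
  · interval_cases b
    · exfalso
      obtain ⟨g, hg⟩ := h
      exact hg (Cfsg.Agent.H118.SLFinal.trivial_of_hasB_zero (by rw [hc]; norm_num) hb g)
    · exact Cfsg.Agent.H118.SLMain.main (F := F) 6 (by norm_num) (by norm_num) (by norm_num) (by norm_num)
        (by norm_num) (Fin 6) hc V ρ hb
  · have hq : 2 ≤ Fintype.card F := Fintype.one_lt_card
    have h1 := Cfsg.Agent.H118.SLWt.HasB.finrank_cf_fix hb (0 : Fin 6)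
    rw [hc] at h1
    have h3 : (Fintype.card F ^ 5 - 1) * 2 ≤ (Fintype.card F ^ 5 - 1) * b := Nat.mul_le_mul_left _ h2
    have h4 : (Fintype.card F ^ 5 - 1) * 2 ≤ finrank ℂ V := by
      have : (6 : ℕ) - 1 = 5 := rfl
      rw [this] at h1
      omega
    refine le_trans ?_ h4
    have h5 := DD_eq hq (n := 6) (by norm_num)
    generalize Fintype.card F = q at *
    have h6 : DD q 6 * (q - 1) ≤ ((q ^ 5 - 1) * 2) * (q - 1) := by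
      rw [h5]
      obtain ⟨k, rfl⟩ := Nat.exists_eq_add_of_le hq
      have e1 : 2 + k - 1 = 1 + k := by omega
      have e2 : (2 + k) ^ 6 - (2 + k) = (2 + k) * ((2 + k) ^ 5 - 1) := by
        rw [Nat.mul_sub, mul_one]; ring_nf
      rw [e1, e2]
      nlinarith [Nat.zero_le ((2 + k) ^ 5 - 1), Nat.zero_le (k * ((2 + k) ^ 5 - 1))]
    exact Nat.le_of_mul_le_mul_right h6 (by omega)

variable {L : Type*} [AddCommGroup L] {F : Type*} [Field F]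

/-- the root groups in `Φ₅` generate an image of `SL 6 F` -/
def Ext {V : Type*} [AddCommGroup V] [Module ℂ V] (x : L → F → Module.End ℂ V) (Φ₅ : Set L) : Prop :=
  ∃ ρ : Representation ℂ (SpecialLinearGroup (Fin 6) F) V,
    (∀ r ∈ Φ₅, ∀ a, ∃ g, x r a = ρ g) ∧
    (∀ (i j : Fin 6) (hij : i ≠ j) (a : F), ∃ r ∈ Φ₅, ∃ b, ρ (SpecialLinearGroup.transvection hij a) = x r b)

section

variable {V : Type*} [AddCommGroup V] [Module ℂ V] {x : L → F → Module.End ℂ V} {Φ₅ Φ' : Set L}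

theorem Ext.restrict (E : Ext x Φ₅) (hΦ : Φ₅ ⊆ Φ') {U : Submodule ℂ V}
    (h : ∀ r ∈ Φ', ∀ a, ∀ v ∈ U, x r a v ∈ U) : Ext (resX x U Φ' h) Φ₅ := by
  classical
  obtain ⟨ρ, h1, h2⟩ := E
  have hU : ∀ g, ∀ v ∈ U, ρ g v ∈ U := by
    intro g
    refine Cfsg.Agent.LieClassical.SLGen.transvection_induction (fun g => ∀ v ∈ U, ρ g v ∈ U) ?_ ?_ g
    · intro i j hij c v hv
      obtain ⟨r, hr, b, hb⟩ := h2 i j hij c
      rw [hb]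
      exact h r (hΦ hr) b v hv
    · intro A B hA hB v hv
      rw [map_mul, Module.End.mul_apply]
      exact hA _ (hB v hv)
  let ρ' : Representation ℂ (SpecialLinearGroup (Fin 6) F) U :=
    { toFun := fun g => (ρ g).restrict (hU g)
      map_one' := by
        ext v
        show ρ 1 (v : V) = v
        rw [map_one, Module.End.one_apply]
      map_mul' := by
        intro a b
        ext v
        show ρ (a * b) (v : V) = ρ a (ρ b v)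
        rw [map_mul, Module.End.mul_apply] }
  refine ⟨ρ', ?_, ?_⟩
  · intro r hr a
    obtain ⟨g, hg⟩ := h1 r hr a
    refine ⟨g, ?_⟩
    ext v
    rw [resX_apply h (hΦ hr), hg]
    rfl
  · intro i j hij a
    obtain ⟨r, hr, b, hb⟩ := h2 i j hij a
    refine ⟨r, hr, b, ?_⟩
    ext v
    rw [resX_apply h (hΦ hr), ← hb]
    rfl

/-- a moving vector in the subspace -/
theorem moves_res (hΦ : Φ₅ ⊆ Φ') {U : Submodule ℂ V} (h : ∀ r ∈ Φ', ∀ a, ∀ v ∈ U, x r a v ∈ U)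
    {r : L} (hr : r ∈ Φ₅) {ψ : AddChar F ℂ} (hψ : ψ ≠ 0) {v : V} (hv : v ≠ 0) (hvU : v ∈ U)
    (hv' : v ∈ wt x r ψ) : Moves (resX x U Φ' h) Φ₅ := by
  refine ⟨r, hr, ψ, hψ, ⟨v, hvU⟩, fun h0 => hv (congrArg Subtype.val h0), fun a => ?_⟩
  apply Subtype.ext
  rw [resX_apply h (hΦ hr)]
  exact hv' a

end

section

variable [Fintype F] {V : Type} [AddCommGroup V] [Module ℂ V] [FiniteDimensional ℂ V]
  {x : L → F → Module.End ℂ V}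

theorem Ext.lower {Φ₅ : Set L} (E : Ext x Φ₅) (hm : Moves x Φ₅) :
    DD (Fintype.card F) 6 ≤ finrank ℂ V := by
  obtain ⟨ρ, h1, _⟩ := E
  obtain ⟨r, hr, ψ, hψ, v, hv, hv'⟩ := hm
  apply sl6_lower ρ
  by_contra hc
  push Not at hc
  apply hψ
  ext a
  obtain ⟨g, hg⟩ := h1 r hr a
  have h2 := hv' a
  rw [hg, hc g, Module.End.one_apply] at h2
  have h3 : (ψ a : ℂ) = 1 := by
    by_contra h4
    have h5 : ((ψ a : ℂ) - 1) • v = 0 := by rw [sub_smul, one_smul, ← h2, sub_self]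
    rcases smul_eq_zero.1 h5 with h6 | h6
    · exact h4 (sub_eq_zero.1 h6)
    · exact hv h6
  rw [h3]
  rfl

end

/-! ### the numbers -/

/-- `d(E₆)` -/
def d6 (q : ℕ) : ℕ := q * (q ^ 4 + 1) * (q ^ 6 + q ^ 3 + 1)

/-- `d(E₇)` -/
def d7 (q : ℕ) : ℕ := q ^ 17 + q ^ 13 + q ^ 11 + q ^ 9 + q ^ 7 + q ^ 5 + q

/-- `d(E₈)` -/
def d8 (q : ℕ) : ℕ := q * (q ^ 12 + 1) * (q ^ 10 + 1) * (q ^ 6 + 1)

/-- weights of the 20 roots -/
def s6 (q : ℕ) : ℕ := q ^ 0 + q ^ 1 + 2 * q ^ 2 + 3 * q ^ 3 + 3 * q ^ 4 + 3 * q ^ 5 + 3 * q ^ 6 + 2 * q ^ 7 + q ^ 8 + q ^ 9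

/-- weights of the 27 roots -/
def s7 (q : ℕ) : ℕ := q ^ 0 + q ^ 1 + q ^ 2 + q ^ 3 + 2 * q ^ 4 + 2 * q ^ 5 + 2 * q ^ 6 + 2 * q ^ 7 + 3 * q ^ 8 + 2 * q ^ 9 + 2 * q ^ 10 + 2 * q ^ 11 + 2 * q ^ 12 + q ^ 13 + q ^ 14 + q ^ 15 + q ^ 16

/-- weights of the 56 roots -/
def s8 (q : ℕ) : ℕ := q ^ 0 + q ^ 1 + q ^ 2 + q ^ 3 + q ^ 4 + 2 * q ^ 5 + 2 * q ^ 6 + 2 * q ^ 7 + 2 * q ^ 8 + 3 * q ^ 9 + 3 * q ^ 10 + 3 * q ^ 11 + 3 * q ^ 12 + 3 * q ^ 13 + 3 * q ^ 14 + 3 * q ^ 15 + 3 * q ^ 16 + 3 * q ^ 17 + 3 * q ^ 18 + 2 * q ^ 19 + 2 * q ^ 20 + 2 * q ^ 21 + 2 * q ^ 22 + q ^ 23 + q ^ 24 + q ^ 25 + q ^ 26 + q ^ 27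

theorem sq_sub_one (k : ℕ) : (k + 2) ^ 2 - 1 = k ^ 2 + 4 * k + 3 := by
  have : (k + 2) ^ 2 = k ^ 2 + 4 * k + 3 + 1 := by ring
  omega

theorem big6 {q : ℕ} (hq : 2 ≤ q) : d6 q ≤ 2 * (q ^ 2 - 1) * q ^ 9 := by
  obtain ⟨k, rfl⟩ := Nat.exists_eq_add_of_le' hq
  rw [sq_sub_one]
  refine Nat.le.intro (k := 590 + 5071*k + 16376*k^2 + 29088*k^3 + 32765*k^4 + 25003*k^5 + 13314*k^6 + 4975*k^7 + 1283*k^8 + 218*k^9 + 22*k^10 + 1*k^11) ?_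
  unfold d6
  ring

theorem big7 {q : ℕ} (hq : 2 ≤ q) : d7 q ≤ 2 * (q ^ 2 - 1) * q ^ 15 := by
  obtain ⟨k, rfl⟩ := Nat.exists_eq_add_of_le' hq
  rw [sq_sub_one]
  refine Nat.le.intro (k := 54622 + 555247*k + 2542864*k^2 + 7072680*k^3 + 13493278*k^4 + 18834763*k^5 + 19985810*k^6 + 16504783*k^7 + 10756838*k^8 + 5571059*k^9 + 2294842*k^10 + 748071*k^11 + 190710*k^12 + 37239*k^13 + 5380*k^14 + 542*k^15 + 34*k^16 + 1*k^17) ?_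
  unfold d7
  ring

theorem big8 {q : ℕ} (hq : 2 ≤ q) : d8 q ≤ 2 * (q ^ 2 - 1) * q ^ 27 := by
  obtain ⟨k, rfl⟩ := Nat.exists_eq_add_of_le' hq
  rw [sq_sub_one]
  refine Nat.le.intro (k := 259381118 + 4058120767*k + 30379548512*k^2 + 145137066192*k^3 + 497721689064*k^4 + 1306128860460*k^5 + 2729721474098*k^6 + 4667758878303*k^7 + 6657129217528*k^8 + 8030758106228*k^9 + 8280550409978*k^10 + 7355010763463*k^11 + 5660059639910*k^12 + 3789085860927*k^13 + 2212391481664*k^14 + 1128188559776*k^15 + 502506585878*k^16 + 195281776787*k^17 + 66054864314*k^18 + 19373910159*k^19 + 4900332712*k^20 + 1060898828*k^21 + 194613074*k^22 + 29839679*k^23 + 3753360*k^24 + 377208*k^25 + 29124*k^26 + 1622*k^27 + 58*k^28 + 1*k^29) ?_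
  unfold d8
  ring

theorem id6 {q : ℕ} (hq : 2 ≤ q) : (q - 1) * q ^ 10 + (q - 1) * s6 q + DD q 6 + 1 = d6 q := by
  obtain ⟨k, rfl⟩ := Nat.exists_eq_add_of_le' hq
  rw [show k + 2 - 1 = k + 1 by omega]
  unfold d6 s6 DD
  simp only [Finset.sum_range_succ, Finset.sum_range_zero]
  ring

theorem id7 {q : ℕ} (hq : 2 ≤ q) : (q - 1) * s7 q + d6 q + 1 = d7 q := by
  obtain ⟨k, rfl⟩ := Nat.exists_eq_add_of_le' hq
  rw [show k + 2 - 1 = k + 1 by omega]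
  unfold d6 s7 d7
  ring

theorem id8 {q : ℕ} (hq : 2 ≤ q) : (q - 1) * q ^ 28 + (q - 1) * s8 q + d7 q + 1 = d8 q := by
  obtain ⟨k, rfl⟩ := Nat.exists_eq_add_of_le' hq
  rw [show k + 2 - 1 = k + 1 by omega]
  unfold d7 s8 d8
  ring

/-! ### the steps -/

section

variable [Fintype F] {V : Type} [AddCommGroup V] [Module ℂ V] [FiniteDimensional ℂ V]
  {x : L → F → Module.End ℂ V} {B : L → L → ℤ} {Φ : Set L} {g₆ g₇ g₈ lam f : L → ℤ} {r₀ : L} {js₆ js₇ js₈ : List ℕ}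

theorem level_inv {g : L → ℤ} (R : Roots B Φ) (G : Grad B Φ g) (H : Sys B Φ x) :
    ∀ r ∈ {s | s ∈ Φ ∧ g s = 0}, ∀ a, ∀ v ∈ Fx x {s | s ∈ Φ ∧ 1 ≤ g s}, x r a v ∈ Fx x {s | s ∈ Φ ∧ 1 ≤ g s} :=
  fun _ hr a _ hv => H.inv_Fx R G hr.1 hr.2.ge a hv

theorem step6 (Λ : Level B Φ g₆ lam f r₀ 10 js₆) (hjs : ∀ q : ℕ, (js₆.map (fun j => q ^ j)).sum = s6 q)
    (ht : ∃ t ∈ Φ, g₆ t = 2) (H : Sys B Φ x) (hm : Moves x Φ) (E : Ext x {s | s ∈ Φ ∧ g₆ s = 0}) :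
    d6 (Fintype.card F) ≤ finrank ℂ V + 1 := by
  have hq : 2 ≤ Fintype.card F := Fintype.one_lt_card
  rcases Λ.bound H hm (by norm_num) with h | ⟨_, ⟨v, hv, hvC, ψ, hψ, hv'⟩, _, h1, h2⟩
  · exact ((big6 hq).trans h).trans (Nat.le_succ _)
  · have h3 := h2 ht
    rw [hjs] at h1
    have hinv := level_inv Λ.R Λ.G H
    have h4 := (E.restrict (fun _ h => h) hinv).lower
      (moves_res (fun _ h => h) hinv ⟨Λ.Λ.mem, Λ.Λ.g0⟩ hψ hv hvC hv')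
    have h5 := id6 hq
    omega

theorem step7 (Λ : Level B Φ g₇ lam f r₀ 16 js₇) (hjs : ∀ q : ℕ, (js₇.map (fun j => q ^ j)).sum = s7 q)
    (Λ₆ : Level B {s | s ∈ Φ ∧ g₇ s = 0} g₆ lam f r₀ 10 js₆)
    (hjs₆ : ∀ q : ℕ, (js₆.map (fun j => q ^ j)).sum = s6 q)
    (ht₆ : ∃ t ∈ {s | s ∈ Φ ∧ g₇ s = 0}, g₆ t = 2) (H : Sys B Φ x) (hm : Moves x Φ)
    (E : Ext x {s | s ∈ {s | s ∈ Φ ∧ g₇ s = 0} ∧ g₆ s = 0}) :
    d7 (Fintype.card F) ≤ finrank ℂ V + 2 := by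
  have hq : 2 ≤ Fintype.card F := Fintype.one_lt_card
  rcases Λ.bound H hm (by norm_num) with h | ⟨_, ⟨v, hv, hvC, ψ, hψ, hv'⟩, _, h1, h2⟩
  · exact ((big7 hq).trans h).trans (Nat.le_add_right _ 2)
  · rw [hjs] at h1
    have hinv := level_inv Λ.R Λ.G H
    have H' := H.restrict (Φ' := {s | s ∈ Φ ∧ g₇ s = 0}) (fun _ h => h.1) (fun r hr s hs h =>
      ⟨Λ.R.add r hr.1 s hs.1 h, by rw [Λ.G.add, hr.2, hs.2, add_zero]⟩) hinv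
    have h4 := step6 Λ₆ hjs₆ ht₆ H' (moves_res (fun _ h => h) hinv ⟨Λ.Λ.mem, Λ.Λ.g0⟩ hψ hv hvC hv')
      (E.restrict (fun _ h => h.1) hinv)
    have h5 := id7 hq
    have h6 : finrank ℂ (Fx x {s | s ∈ Φ ∧ g₇ s = 2}) ≤ finrank ℂ V := Submodule.finrank_le _
    omega

theorem step8 (Λ : Level B Φ g₈ lam f r₀ 28 js₈) (hjs : ∀ q : ℕ, (js₈.map (fun j => q ^ j)).sum = s8 q)
    (ht : ∃ t ∈ Φ, g₈ t = 2)
    (Λ₇ : Level B {s | s ∈ Φ ∧ g₈ s = 0} g₇ lam f r₀ 16 js₇)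
    (hjs₇ : ∀ q : ℕ, (js₇.map (fun j => q ^ j)).sum = s7 q)
    (Λ₆ : Level B {s | s ∈ {s | s ∈ Φ ∧ g₈ s = 0} ∧ g₇ s = 0} g₆ lam f r₀ 10 js₆)
    (hjs₆ : ∀ q : ℕ, (js₆.map (fun j => q ^ j)).sum = s6 q)
    (ht₆ : ∃ t ∈ {s | s ∈ {s | s ∈ Φ ∧ g₈ s = 0} ∧ g₇ s = 0}, g₆ t = 2) (H : Sys B Φ x) (hm : Moves x Φ)
    (E : Ext x {s | s ∈ {s | s ∈ {s | s ∈ Φ ∧ g₈ s = 0} ∧ g₇ s = 0} ∧ g₆ s = 0}) :
    d8 (Fintype.card F) ≤ finrank ℂ V + 3 := by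
  have hq : 2 ≤ Fintype.card F := Fintype.one_lt_card
  rcases Λ.bound H hm (by norm_num) with h | ⟨_, ⟨v, hv, hvC, ψ, hψ, hv'⟩, _, h1, h2⟩
  · exact ((big8 hq).trans h).trans (Nat.le_add_right _ 3)
  · have h3 := h2 ht
    rw [hjs] at h1
    have hinv := level_inv Λ.R Λ.G H
    have H' := H.restrict (Φ' := {s | s ∈ Φ ∧ g₈ s = 0}) (fun _ h => h.1) (fun r hr s hs h =>
      ⟨Λ.R.add r hr.1 s hs.1 h, by rw [Λ.G.add, hr.2, hs.2, add_zero]⟩) hinv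
    have h4 := step7 Λ₇ hjs₇ Λ₆ hjs₆ ht₆ H' (moves_res (fun _ h => h) hinv ⟨Λ.Λ.mem, Λ.Λ.g0⟩ hψ hv hvC hv')
      (E.restrict (fun _ h => h.1.1) hinv)
    have h5 := id8 hq
    omega

end

end Cfsg.Agent.H120
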