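import Cfsg.Agent.H120.Chain

/-!
# The last step for E₆: `d(E₆) - 1` is not a degree (arithmetic)
-/

set_option autoImplicit false

namespace Cfsg.Agent.H120

theorem pow_sub_one_mul (x : ℕ) (hx : 1 ≤ x) : x ^ 2 - 1 = (x - 1) * (x + 1) := by
  obtain ⟨y, rfl⟩ := Nat.exists_eq_add_of_le' hx
  rw [Nat.add_sub_cancel]
  have : (y + 1) ^ 2 = y * (y + 1 + 1) + 1 := by ring
  omega

theorem pow_sub_one_mul3 (x : ℕ) (hx : 1 ≤ x) : x ^ 3 - 1 = (x - 1) * (x ^ 2 + x + 1) := by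
  obtain ⟨y, rfl⟩ := Nat.exists_eq_add_of_le' hx
  rw [Nat.add_sub_cancel]
  have : (y + 1) ^ 3 = y * ((y + 1) ^ 2 + (y + 1) + 1) + 1 := by ring
  omega

theorem coprime_of_dvd_succ {N a : ℕ} (h : a ∣ N + 1) : Nat.Coprime N a := by
  have h1 : Nat.Coprime N (N + 1) := by simp
  exact Nat.Coprime.coprime_dvd_right h h1

theorem num_E6 {q κ N : ℕ} (hq : 2 ≤ q) (hκ6 : κ ∣ 6) (hκq : κ ∣ q - 1) (hN : N + 1 = d6 q)
    (hdvd : N * (q ^ 15 * ((q ^ 2 - 1) * (q ^ 3 - 1) * (q ^ 4 - 1) * (q ^ 5 - 1) * (q ^ 6 - 1))) ∣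
      κ * (q ^ 36 * (q ^ 2 - 1) * (q ^ 5 - 1) * (q ^ 6 - 1) * (q ^ 8 - 1) * (q ^ 9 - 1) * (q ^ 12 - 1)) * q ^ 11) :
    False := by
  have hpow : ∀ i, 1 ≤ i → 0 < q ^ i - 1 := fun i hi => by
    have : 1 < q ^ i := Nat.one_lt_pow (by omega) (by omega)
    omega
  have h8 : q ^ 8 - 1 = (q ^ 4 - 1) * (q ^ 4 + 1) := by
    rw [← pow_sub_one_mul (q ^ 4) (Nat.one_le_pow _ _ (by omega)), ← pow_mul]
  have h9 : q ^ 9 - 1 = (q ^ 3 - 1) * (q ^ 6 + q ^ 3 + 1) := by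
    have := pow_sub_one_mul3 (q ^ 3) (Nat.one_le_pow _ _ (by omega))
    rw [← pow_mul, ← pow_mul] at this
    exact this
  rw [h8, h9] at hdvd
  have h1 : N ∣ κ * q ^ 32 * (q ^ 4 + 1) * (q ^ 6 + q ^ 3 + 1) * (q ^ 12 - 1) := by
    have hpos : 0 < q ^ 15 * ((q ^ 2 - 1) * (q ^ 3 - 1) * (q ^ 4 - 1) * (q ^ 5 - 1) * (q ^ 6 - 1)) := by
      have := hpow 2 (by norm_num)
      have := hpow 3 (by norm_num)
      have := hpow 4 (by norm_num)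
      have := hpow 5 (by norm_num)
      have := hpow 6 (by norm_num)
      positivity
    apply Nat.dvd_of_mul_dvd_mul_right hpos
    refine hdvd.trans (dvd_of_eq ?_)
    generalize q ^ 2 - 1 = a2
    generalize q ^ 3 - 1 = a3
    generalize q ^ 4 - 1 = a4
    generalize q ^ 5 - 1 = a5
    generalize q ^ 6 - 1 = a6
    generalize q ^ 12 - 1 = a12
    ring
  have hd : d6 q = q * (q ^ 4 + 1) * (q ^ 6 + q ^ 3 + 1) := rfl
  rw [hd] at hN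
  have c1 : Nat.Coprime N q := coprime_of_dvd_succ ⟨(q ^ 4 + 1) * (q ^ 6 + q ^ 3 + 1), by rw [hN]; ring⟩
  have c2 : Nat.Coprime N (q ^ 4 + 1) := coprime_of_dvd_succ ⟨q * (q ^ 6 + q ^ 3 + 1), by rw [hN]; ring⟩
  have c3 : Nat.Coprime N (q ^ 6 + q ^ 3 + 1) := coprime_of_dvd_succ ⟨q * (q ^ 4 + 1), by rw [hN]; ring⟩
  have c4 : Nat.Coprime N κ := by
    have e2 : Nat.Coprime N 2 := by
      apply coprime_of_dvd_succ
      rw [hN]
      rcases Nat.even_or_odd' q with ⟨j, hj | hj⟩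
      · exact ⟨j * (q ^ 4 + 1) * (q ^ 6 + q ^ 3 + 1), by rw [hj]; ring⟩
      · refine ⟨q * (8 * j ^ 4 + 16 * j ^ 3 + 12 * j ^ 2 + 4 * j + 1) * (q ^ 6 + q ^ 3 + 1), ?_⟩
        have : q ^ 4 + 1 = 2 * (8 * j ^ 4 + 16 * j ^ 3 + 12 * j ^ 2 + 4 * j + 1) := by rw [hj]; ring
        rw [this]; ring
    by_cases h3 : 3 ∣ κ
    · have e3 : Nat.Coprime N 3 := by
        apply coprime_of_dvd_succ
        rw [hN]
        obtain ⟨j, hj⟩ := h3.trans hκq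
        have hj' : q = 3 * j + 1 := by omega
        have : q ^ 6 + q ^ 3 + 1 = 3 * (243 * j ^ 6 + 486 * j ^ 5 + 405 * j ^ 4 + 189 * j ^ 3 + 54 * j ^ 2 + 9 * j + 1) := by
          rw [hj']; ring
        exact ⟨q * (q ^ 4 + 1) * (243 * j ^ 6 + 486 * j ^ 5 + 405 * j ^ 4 + 189 * j ^ 3 + 54 * j ^ 2 + 9 * j + 1), by rw [this]; ring⟩
      exact Nat.Coprime.coprime_dvd_right hκ6 (Nat.Coprime.mul_right e2 e3)
    · have : κ ∣ 2 := by
        have hc : Nat.Coprime κ 3 := ((Nat.Prime.coprime_iff_not_dvd Nat.prime_three).2 h3).symm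
        exact hc.dvd_of_dvd_mul_right (show κ ∣ 2 * 3 from hκ6)
      exact Nat.Coprime.coprime_dvd_right this e2
  have h2 : N ∣ q ^ 12 - 1 := by
    have hc : Nat.Coprime N (κ * q ^ 32 * (q ^ 4 + 1) * (q ^ 6 + q ^ 3 + 1)) :=
      ((c4.mul_right (c1.pow_right 32)).mul_right c2).mul_right c3
    exact hc.dvd_of_dvd_mul_left h1
  obtain ⟨j, hj⟩ := h2
  obtain ⟨k, rfl⟩ := Nat.exists_eq_add_of_le' hq
  have hN' : N + 1 = (k + 2) ^ 11 + (k + 2) ^ 8 + (k + 2) ^ 7 + (k + 2) ^ 5 + (k + 2) ^ 4 + (k + 2) := by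
    rw [hN]; ring
  have h12 : (k + 2) ^ 12 = N * j + 1 := by
    have : 1 ≤ (k + 2) ^ 12 := Nat.one_le_pow _ _ (by omega)
    omega
  have hjlt : j < k + 2 := by
    by_contra hc
    push Not at hc
    have h3 : N * (k + 2) ≤ N * j := Nat.mul_le_mul_left _ hc
    have h4 : (N + 1) * (k + 2) = (k + 2) ^ 12 + (k + 2) ^ 9 + (k + 2) ^ 8 + (k + 2) ^ 6 + (k + 2) ^ 5 + (k + 2) ^ 2 := by
      rw [hN']; ring
    have h5 : (N + 1) * (k + 2) = N * (k + 2) + (k + 2) := by ring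
    have h6 : k + 2 ≤ (k + 2) ^ 9 := Nat.le_self_pow (by norm_num) _
    omega
  have hjgt : k + 1 < j := by
    by_contra hc
    push Not at hc
    have h3 : N * j ≤ N * (k + 1) := Nat.mul_le_mul_left _ hc
    have h4 : (N + 1) * (k + 1) + (k + 2) ^ 11 + (k + 2) ^ 7 * 1 + (k + 2) ^ 4 + k + 2 =
        (k + 2) ^ 12 + (k + 2) ^ 9 + (k + 2) ^ 6 + (k + 2) ^ 2 := by
      rw [hN']; ring
    have h5 : (N + 1) * (k + 1) = N * (k + 1) + (k + 1) := by ring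
    have h6 : (k + 2) ^ 11 = (k + 2) ^ 9 * (k ^ 2 + 4 * k + 4) := by ring
    have h7 : (k + 2) ^ 9 * 4 ≤ (k + 2) ^ 11 := by
      rw [h6]
      exact Nat.mul_le_mul_left _ (by omega)
    have h8 : (k + 2) ^ 6 ≤ (k + 2) ^ 9 := Nat.pow_le_pow_right (by omega) (by norm_num)
    have h9 : (k + 2) ^ 2 ≤ (k + 2) ^ 9 := Nat.pow_le_pow_right (by omega) (by norm_num)
    have h10 : 1 ≤ (k + 2) ^ 9 := Nat.one_le_pow _ _ (by omega)
    omega
  omega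

end Cfsg.Agent.H120
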