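import Cfsg.Agent.H120.Common
import Cfsg.Agent.H120.NumE6
import Cfsg.Agent.H953.Index
import Cfsg.Agent.S1063

/-!
# The minimal degree of `E₆(q)`
-/

set_option autoImplicit false
set_option linter.unusedSectionVars false

namespace Cfsg.Agent.H120.ESix

open Module Matrix Cfsg.Lie Cfsg.Agent.ChevalleyStructure.Elts Cfsg.Agent.ChevalleyStructure.RootVec
  Cfsg.Agent.ChevalleyStructure.RootVecTab Cfsg.Agent.ChevalleyStructure.CoxeterGeomTypes
  Cfsg.Agent.Nodes.RGDChev Cfsg.Agent.KFacts.En.Roots Cfsg.Agent.H120.ChevSys Cfsg.Agent.H120.LevTab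
  Cfsg.Agent.H120.LevMath Cfsg.Agent.H120.SLHom Cfsg.Agent.H120.Gram Cfsg.Agent.H120.GramTab
  Cfsg.Agent.H120.LevInst Cfsg.Agent.OddHalf.SL.Defs Cfsg.Agent.H120.Common

universe u

theorem inList6 : InList chevE6 := ty_E6.ty.inList

theorem level6 : Level (bf chevE6 6) (PhiZ chevE6 6 []) (fun x => x ⟨1, by decide⟩) (fun x => x ⟨0, by decide⟩)
    (ford 6) (vec chevE6 6 (chevE6.simple 0)) 10 [9, 8, 7, 6, 7, 6, 5, 5, 4, 3, 6, 5, 4, 4, 3, 2, 3, 2, 1, 0] :=
  level ty_E6 chkE6 (by simp) (by decide) levE66 (by decide)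

theorem js6 (q : ℕ) : (([9, 8, 7, 6, 7, 6, 5, 5, 4, 3, 6, 5, 4, 4, 3, 2, 3, 2, 1, 0] : List ℕ).map
    (fun j => q ^ j)).sum = s6 q := by
  simp only [List.map_cons, List.map_nil, List.sum_cons, List.sum_nil, s6]
  ring

theorem top6_mem : vec chevE6 6 71 ∈ PhiZ chevE6 6 [] := by
  rw [PhiZ_nil]
  exact vec_mem (by decide +kernel)

theorem top6_deg : vec chevE6 6 71 ⟨1, by decide⟩ = 2 := by
  rw [vec_cf ty_E6 (by decide +kernel)]
  have : cf chevE6 71 ((⟨1, by decide⟩ : Fin 6) : ℕ) = 10 := by decide +kernel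
  rw [this]
  norm_num

theorem five6 : PhiZ chevE6 6 [1] = {s | s ∈ PhiZ chevE6 6 [] ∧ (fun x : Fin 6 → ℤ => x ⟨1, by decide⟩) s = 0} := by
  ext x
  simp only [PhiZ, Set.mem_ofPred_eq, List.mem_singleton, List.not_mem_nil, false_imp_iff, implies_true, and_true]
  constructor
  · rintro ⟨h1, h2⟩
    exact ⟨h1, h2 _ rfl⟩
  · rintro ⟨h1, h2⟩
    refine ⟨h1, fun j hj => ?_⟩
    have : j = ⟨1, by decide⟩ := Fin.ext hj
    rw [this]
    exact h2

variable {F : Type u} [Field F] [Fintype F] {k : ℕ} (ρ : Representation ℂ ↥(chevE6.group F) (Fin k → ℂ))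

theorem main (hρ : ρ.IsIrreducible) (hk : 2 ≤ k) : d6 (Fintype.card F) ≤ k := by
  classical
  have hq : 2 ≤ Fintype.card F := Fintype.one_lt_card
  have hfr : finrank ℂ (Fin k → ℂ) = k := finrank_fin_fun ℂ
  have hm : Moves (fun v (a : F) => ρ (XX ty_E6 v a)) (PhiZ chevE6 6 []) := by
    rw [PhiZ_nil]
    exact moves ty_E6 ρ (exists_ne_one ρ hρ (by rw [hfr]; exact hk))
  have H := sysZ ty_E6 [] ρ
  have hE := ext_rep ty_E6 a5_E6 ρ
  rw [five6] at hE
  have h1 := step6 level6 js6 ⟨_, top6_mem, top6_deg⟩ H hm hE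
  rw [hfr] at h1
  rcases level6.bound H hm (by norm_num) with h | ⟨_, _, hdim, _, _⟩
  · rw [hfr] at h
    exact (big6 hq).trans h
  · by_contra hc
    push Not at hc
    have hN : k + 1 = d6 (Fintype.card F) := by omega
    -- the long root element
    have htr := H.trace top6_mem (hdim _ top6_mem)
    rw [← pow_succ'] at htr
    have hchar : ρ.character (XX ty_E6 (vec chevE6 6 71) 1) =
        (finrank ℂ (Fin k → ℂ) : ℂ) - ((Fintype.card F ^ 11 : ℕ) : ℂ) := htr
    obtain ⟨π, hπ, hker⟩ := exists_hom_group ty_E6 (F := F) a5_E6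
    have hcent : π.range ≤ Subgroup.centralizer {XX ty_E6 (vec chevE6 6 71) (1 : F)} := by
      rintro _ ⟨g, rfl⟩
      refine Cfsg.Agent.LieClassical.SLGen.transvection_induction
        (fun g => π g ∈ Subgroup.centralizer {XX ty_E6 (vec chevE6 6 71) (1 : F)}) ?_ ?_ g
      · intro i j hij c
        rw [hπ i j hij, Subgroup.mem_centralizer_iff]
        rintro y rfl
        apply Subtype.ext
        have hmem : vec chevE6 6 (rE6 i j) ∈ PhiZ chevE6 6 [1] :=
          (sel_iff ty_E6 a5_E6.lt (a5_E6.a i j hij)).1 (a5_E6.mem i j hij)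
        have hmem' := hmem
        rw [five6] at hmem'
        have hB : bf chevE6 6 (vec chevE6 6 71) (vec chevE6 6 (rE6 i j)) = 0 := by
          rw [level6.G.top _ top6_mem top6_deg _ hmem'.1]
          exact hmem'.2
        exact comm0 ty_E6 top6_mem.1 hmem.1 hB.ge 1 _
      · intro A B hA hB
        rw [map_mul]
        exact mul_mem hA hB
    have hdvd := dvd_of_char ρ (by rw [hfr]; omega) (XX ty_E6 (vec chevE6 6 71) (1 : F)) (Fintype.card F ^ 11) hchar
      π.range hcent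
    rw [hfr] at hdvd
    have hκ := card_center_dvd π.ker hker
    have hcard : Nat.card π.range * Nat.card π.ker = Nat.card (SpecialLinearGroup (Fin 6) F) := by
      rw [Subgroup.card_eq_card_quotient_mul_card_subgroup π.ker,
        Nat.card_congr (QuotientGroup.quotientKerEquivRange π).toEquiv]
    have hSL : Nat.card (SpecialLinearGroup (Fin 6) F) = Fintype.card F ^ 15 *
        ((Fintype.card F ^ 2 - 1) * (Fintype.card F ^ 3 - 1) * (Fintype.card F ^ 4 - 1) * (Fintype.card F ^ 5 - 1) *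
          (Fintype.card F ^ 6 - 1)) := by
      rw [Cfsg.Agent.H953.card_SL 6 (by norm_num)]
      have e1 : ∑ i ∈ Finset.range 6, i = 15 := by decide
      have e2 : Finset.Icc 2 6 = ({2, 3, 4, 5, 6} : Finset ℕ) := by decide
      rw [e1, e2]
      simp only [Finset.prod_insert (by decide : (2 : ℕ) ∉ ({3, 4, 5, 6} : Finset ℕ)),
        Finset.prod_insert (by decide : (3 : ℕ) ∉ ({4, 5, 6} : Finset ℕ)),
        Finset.prod_insert (by decide : (4 : ℕ) ∉ ({5, 6} : Finset ℕ)),
        Finset.prod_insert (by decide : (5 : ℕ) ∉ ({6} : Finset ℕ)), Finset.prod_singleton]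
      ring
    have hG := Cfsg.Agent.S1063.result (F := F) rfl
    refine num_E6 hq hκ.1 hκ.2 hN ?_
    rw [← hSL, ← hcard, ← hG]
    calc k * (Nat.card π.range * Nat.card π.ker) = Nat.card π.ker * (k * Nat.card π.range) := by ring
      _ ∣ Nat.card π.ker * (Nat.card ↥(chevE6.group F) * Fintype.card F ^ 11) := Nat.mul_dvd_mul_left _ hdvd
      _ ∣ _ := ⟨Nat.gcd 3 (Fintype.card F - 1), by ring⟩

end Cfsg.Agent.H120.ESix
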