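import Mathlib

/-!
# Arithmetic for the minimal degree of `G₂(q)`, `q ≡ 1` modulo three
-/

set_option autoImplicit false

namespace Cfsg.Agent.H120.GArith

/-- an integral rational number is an integer -/
theorem dvd_of_integral {a m : ℕ} (hm : 0 < m) (h : IsIntegral ℤ ((a : ℂ) / (m : ℂ))) : m ∣ a := by
  have h5 : ((a : ℂ) / (m : ℂ)) = (((a : ℚ) / (m : ℚ) : ℚ) : ℂ) := by push_cast; rfl
  rw [h5] at h
  have h6 : IsIntegral ℤ ((a : ℚ) / (m : ℚ)) := by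
    have := (isIntegral_algebraMap_iff (R := ℤ) (A := ℚ) (B := ℂ) (algebraMap ℚ ℂ).injective
      (x := (a : ℚ) / (m : ℚ))).1
    exact this h
  obtain ⟨y, hy⟩ := IsIntegrallyClosed.isIntegral_iff.1 h6
  have hy : (y : ℚ) = (a : ℚ) / (m : ℚ) := by simpa using hy
  have hdQ : (m : ℚ) ≠ 0 := by exact_mod_cast hm.ne'
  have h7 : (y * (m : ℤ) : ℤ) = a := by
    have : (y : ℚ) * (m : ℚ) = a := by rw [hy]; field_simp
    exact_mod_cast this
  have h8 : (m : ℤ) ∣ (a : ℤ) := ⟨y, by rw [← h7]; ring⟩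
  exact_mod_cast h8

theorem integral_root {ε : ℂ} (h : ε ^ 3 = 1) : IsIntegral ℤ ε := by
  apply IsIntegral.of_pow (n := 3) (by norm_num)
  rw [h]
  exact isIntegral_one

theorem no_dvd {q : ℕ} (hq : 7 ≤ q) (h3 : q % 3 = 1) : ¬ (q ^ 2 + q + 1 ∣ 6 * (2 * q + 4)) ∧
    ¬ (q ^ 2 + q + 1 ∣ 6 * (2 * q + 1)) := by
  rcases Nat.lt_or_ge q 13 with h | h
  · have h7 : q = 7 ∨ q = 10 := by omega
    rcases h7 with rfl | rfl <;> decide
  · constructor
    · intro h1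
      have h2 := Nat.le_of_dvd (by omega) h1
      nlinarith
    · intro h1
      have h2 := Nat.le_of_dvd (by omega) h1
      nlinarith

/-- the integrality contradiction for the element of order three -/
theorem arith_c {q : ℕ} (hq : 7 ≤ q) (h3 : q % 3 = 1) {ε μ : ℂ} (hε : ε ^ 3 = 1) (hμ : μ ^ 3 = 1)
    (h : IsIntegral ℤ ((3 * ((q : ℂ) ^ 3 * ((q : ℂ) ^ 3 + 1))) * ((((q : ℂ) ^ 2 - 1) * ε + ((q : ℂ) - 1) * μ) /
      ((q : ℂ) ^ 3 - 1)))) : False := by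
  have iε := integral_root hε
  have iμ := integral_root hμ
  have iq : IsIntegral ℤ (q : ℂ) := isIntegral_natCast q
  have i3 : IsIntegral ℤ (3 : ℂ) := by
    have := isIntegral_natCast (R := ℤ) (B := ℂ) 3
    exact_mod_cast this
  have i1 : IsIntegral ℤ (1 : ℂ) := isIntegral_one
  have hq1 : (q : ℂ) - 1 ≠ 0 := by
    intro h
    have : (q : ℂ) = 1 := sub_eq_zero.1 h
    have : q = 1 := by exact_mod_cast this
    omega
  have hM : ((q : ℂ) ^ 2 + q + 1) ≠ 0 := by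
    have : ((q ^ 2 + q + 1 : ℕ) : ℂ) ≠ 0 := by exact_mod_cast (by positivity : q ^ 2 + q + 1 ≠ 0)
    push_cast at this
    exact this
  set Q : ℂ := (q : ℂ) with hQ
  have e1 : (Q ^ 3 - 1) = (Q - 1) * (Q ^ 2 + Q + 1) := by ring
  have e2 : ((Q ^ 2 - 1) * ε + (Q - 1) * μ) / (Q ^ 3 - 1) = ((Q + 1) * ε + μ) / (Q ^ 2 + Q + 1) := by
    rw [e1]
    field_simp
    ring
  rw [e2] at h
  have e3 : 6 * (((Q + 1) * ε + μ) / (Q ^ 2 + Q + 1)) =
      (3 * (Q ^ 3 * (Q ^ 3 + 1))) * (((Q + 1) * ε + μ) / (Q ^ 2 + Q + 1)) -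
      3 * ((3 * (Q - 1) + (Q - 1) ^ 2 * (Q ^ 2 + Q + 1)) * ((Q + 1) * ε + μ)) := by
    have h9 : (Q + 1) * ε + μ = (Q ^ 2 + Q + 1) * (((Q + 1) * ε + μ) / (Q ^ 2 + Q + 1)) := by
      rw [mul_div_cancel₀ _ hM]
    generalize ((Q + 1) * ε + μ) / (Q ^ 2 + Q + 1) = w at h9 ⊢
    rw [h9]
    ring
  have h4 : IsIntegral ℤ (6 * (((Q + 1) * ε + μ) / (Q ^ 2 + Q + 1))) := by
    rw [e3]
    refine h.sub (i3.mul (((i3.mul (iq.sub i1)).add (((iq.sub i1).pow 2).mul (((iq.pow 2).add iq).add i1))).mul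
      (((iq.add i1).mul iε).add iμ)))
  set ν : ℂ := μ * ε ^ 2 with hν
  have hν3 : ν ^ 3 = 1 := by
    rw [hν, mul_pow, hμ, one_mul, ← pow_mul, mul_comm 2 3, pow_mul, hε, one_pow]
  have h5 : IsIntegral ℤ (6 * (((Q + 1) + ν) / (Q ^ 2 + Q + 1))) := by
    have h6 := h4.mul (iε.pow 2)
    have e4 : 6 * (((Q + 1) * ε + μ) / (Q ^ 2 + Q + 1)) * ε ^ 2 = 6 * (((Q + 1) + ν) / (Q ^ 2 + Q + 1)) := by
      have : ((Q + 1) * ε + μ) * ε ^ 2 = (Q + 1) + ν := by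
        rw [hν]
        linear_combination (Q + 1) * hε
      rw [← this]
      ring
    rwa [e4] at h6
  have hnorm : ‖ν‖ = 1 := Complex.norm_eq_one_of_pow_eq_one hν3 (by norm_num)
  have hconj : (starRingEnd ℂ) ν = ν ^ 2 := by
    have h6 : ν ≠ 0 := by
      intro h
      rw [h, norm_zero] at hnorm
      exact zero_ne_one hnorm
    have h7 : (starRingEnd ℂ) ν * ν = 1 := by
      rw [mul_comm, Complex.mul_conj, Complex.normSq_eq_norm_sq, hnorm]
      norm_num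
    have h8 : ν ^ 2 * ν = 1 := by rw [← pow_succ, hν3]
    exact mul_right_cancel₀ h6 (h7.trans h8.symm)
  have h6 : IsIntegral ℤ (6 * (((Q + 1) + ν ^ 2) / (Q ^ 2 + Q + 1))) := by
    have h7 := h5.map ((starRingEnd ℂ).toIntAlgHom)
    have e5 : (starRingEnd ℂ).toIntAlgHom (6 * (((Q + 1) + ν) / (Q ^ 2 + Q + 1))) =
        6 * (((Q + 1) + ν ^ 2) / (Q ^ 2 + Q + 1)) := by
      show (starRingEnd ℂ) (6 * (((Q + 1) + ν) / (Q ^ 2 + Q + 1))) = _
      rw [map_mul, map_div₀, map_add, map_add, map_add, map_add, map_pow, hconj, hQ, Complex.conj_natCast, map_one]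
      congr 1
      exact Complex.conj_natCast 6
    rwa [e5] at h7
  have h7 := h5.add h6
  have hMnat : 0 < q ^ 2 + q + 1 := by positivity
  rcases eq_or_ne ν 1 with h8 | h8
  · have e6 : 6 * (((Q + 1) + ν) / (Q ^ 2 + Q + 1)) + 6 * (((Q + 1) + ν ^ 2) / (Q ^ 2 + Q + 1)) =
        ((6 * (2 * q + 4) : ℕ) : ℂ) / ((q ^ 2 + q + 1 : ℕ) : ℂ) := by
      rw [h8]
      push_cast
      ring
    rw [e6] at h7
    exact (no_dvd hq h3).1 (dvd_of_integral hMnat h7)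
  · have h9 : ν ^ 2 + ν + 1 = 0 := by
      have : (ν - 1) * (ν ^ 2 + ν + 1) = 0 := by linear_combination hν3
      exact (mul_eq_zero.1 this).resolve_left (sub_ne_zero.2 h8)
    have e6 : 6 * (((Q + 1) + ν) / (Q ^ 2 + Q + 1)) + 6 * (((Q + 1) + ν ^ 2) / (Q ^ 2 + Q + 1)) =
        ((6 * (2 * q + 1) : ℕ) : ℂ) / ((q ^ 2 + q + 1 : ℕ) : ℂ) := by
      have : 6 * (((Q + 1) + ν) / (Q ^ 2 + Q + 1)) + 6 * (((Q + 1) + ν ^ 2) / (Q ^ 2 + Q + 1)) =
          6 * ((2 * Q + 1 + (ν ^ 2 + ν + 1)) / (Q ^ 2 + Q + 1)) := by ring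
      rw [this, h9]
      push_cast
      ring
    rw [e6] at h7
    exact (no_dvd hq h3).2 (dvd_of_integral hMnat h7)

/-- the divisibility contradiction for the fixed line -/
theorem arith_line {q p e d N : ℕ} (hp : p.Prime) (hqp : q = p ^ e) (hq : 3 ≤ q) (hd : 1 ≤ d) (hdq : d < q)
    (hN : N = (q ^ 2 - 1) * d + q) (h : N ∣ (q ^ 2 + q + 1) * (q ^ 2 - 1) * (q ^ 2 * d)) : False := by
  have hq2 : 1 ≤ q ^ 2 := Nat.one_le_pow _ _ (by omega)
  -- `N ∣ q³ (q² + q + 1)`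
  have h1 : N ∣ q ^ 3 * (q ^ 2 + q + 1) := by
    have h2 : (q ^ 2 + q + 1) * (q ^ 2 - 1) * (q ^ 2 * d) + q ^ 3 * (q ^ 2 + q + 1) =
        N * (q ^ 2 * (q ^ 2 + q + 1)) := by
      rw [hN]
      ring
    exact (Nat.dvd_add_right h).1 (h2 ▸ Dvd.intro _ rfl)
  -- the `p`-part of `d`
  obtain ⟨i, d', hd', hdd⟩ := Nat.exists_eq_pow_mul_and_not_dvd (by omega : d ≠ 0) p hp.ne_one
  have hd'0 : 1 ≤ d' := by
    rcases Nat.eq_zero_or_pos d' with h0 | h0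
    · exact absurd (h0 ▸ dvd_zero p) hd'
    · exact h0
  have hie : i < e := by
    have h3 : p ^ i ≤ d := by
      rw [hdd]
      exact Nat.le_mul_of_pos_right _ hd'0
    have h4 : p ^ i < p ^ e := by
      rw [← hqp]
      omega
    exact (Nat.pow_lt_pow_iff_right hp.one_lt).1 h4
  obtain ⟨j, rfl⟩ : ∃ j, e = i + (j + 1) := ⟨e - i - 1, by omega⟩
  set m := p ^ (j + 1) + (q ^ 2 - 1) * d' with hm
  have hNm : N = p ^ i * m := by
    rw [hN, hm, hdd]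
    conv_lhs => rw [show q = p ^ i * p ^ (j + 1) by rw [← pow_add]; exact hqp]
    rw [show (p ^ i * p ^ (j + 1)) = q by rw [← pow_add]; exact hqp.symm]
    have : p ^ i * (p ^ (j + 1) + (q ^ 2 - 1) * d') = p ^ i * p ^ (j + 1) + p ^ i * ((q ^ 2 - 1) * d') := by ring
    rw [this, ← pow_add, ← hqp]
    ring
  have hpq : p ∣ q := by
    rw [hqp]
    exact dvd_pow_self p (by omega)
  have hcop : Nat.Coprime m q := by
    rw [hqp]
    apply Nat.Coprime.pow_right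
    rw [Nat.coprime_comm, hp.coprime_iff_not_dvd]
    intro hc
    have h3 : p ∣ (q ^ 2 - 1) * d' := by
      have h4 : p ∣ p ^ (j + 1) := dvd_pow_self p (by omega)
      exact (Nat.dvd_add_right h4).1 hc
    rcases hp.dvd_mul.1 h3 with h4 | h4
    · have h5 : p ∣ q ^ 2 := dvd_pow hpq (by norm_num)
      have h6 : p ∣ q ^ 2 - (q ^ 2 - 1) := Nat.dvd_sub h5 h4
      rw [show q ^ 2 - (q ^ 2 - 1) = 1 by omega] at h6
      exact hp.one_lt.ne' (Nat.dvd_one.1 h6)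
    · exact hd' h4
  have h3 : m ∣ q ^ 2 + q + 1 := by
    have h4 : m ∣ q ^ 3 * (q ^ 2 + q + 1) := (Dvd.intro_left _ hNm.symm).trans h1
    exact (Nat.Coprime.pow_right 3 hcop).dvd_of_dvd_mul_left h4
  have hple : p ^ (j + 1) ≤ q := by
    rw [hqp]
    exact Nat.pow_le_pow_right hp.pos (by omega)
  have hpge : 2 ≤ p ^ (j + 1) := by
    calc 2 ≤ p := hp.two_le
      _ = p ^ 1 := (pow_one p).symm
      _ ≤ p ^ (j + 1) := Nat.pow_le_pow_right hp.pos (by omega)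
  obtain ⟨s, hs⟩ : ∃ s, q ^ 2 = s + 1 := ⟨q ^ 2 - 1, by omega⟩
  have hs1 : q ^ 2 - 1 = s := by omega
  rw [hs1] at hm
  have hqq : 3 * q ≤ q ^ 2 := by nlinarith
  obtain ⟨c, hc⟩ := h3
  rcases Nat.lt_or_ge c 2 with h4 | h4
  · have hc1 : c = 1 := by
      rcases Nat.eq_zero_or_pos c with h5 | h5
      · rw [h5, mul_zero] at hc
        omega
      · omega
    rw [hc1, mul_one] at hc
    rcases Nat.lt_or_ge d' 2 with h5 | h5
    · have : d' = 1 := by omega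
      rw [this, mul_one] at hm
      omega
    · have : 2 * s ≤ s * d' := by nlinarith
      omega
  · have h5 : 2 * m ≤ m * c := by nlinarith
    have h6 : s ≤ s * d' := Nat.le_mul_of_pos_right _ hd'0
    omega

end Cfsg.Agent.H120.GArith
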