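import Cfsg.Agent.H120.GOtherA

/-!
# Representations of `G₂(q)`, `q` prime to three: the fixed space of two long root groups
-/

set_option autoImplicit false
set_option linter.unusedSectionVars false

namespace Cfsg.Agent.H120.Hx

open Module

/-- the sum of a function which is constant on cosets -/
theorem card_dvd_sum {A : Type*} [CommGroup A] [Fintype A] (R : Subgroup A) (g : A → ℕ)
    (hg : ∀ r ∈ R, ∀ x, g (r * x) = g x) : Nat.card R ∣ ∑ x, g x := by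
  classical
  let π : A →* A ⧸ R := QuotientGroup.mk' R
  have h1 : ∀ x y : A, π x = π y → g x = g y := by
    intro x y h
    have h2 : x⁻¹ * y ∈ R := QuotientGroup.eq.1 h
    have h3 := hg _ h2 x
    rw [← h3]
    congr 1
    rw [mul_comm, mul_inv_cancel_left]
  have : Fintype (A ⧸ R) := Fintype.ofFinite _
  rw [← Finset.sum_fiberwise (Finset.univ : Finset A) π g]
  refine Finset.dvd_sum fun c _ => ?_
  obtain ⟨x, hx⟩ := QuotientGroup.mk'_surjective R c
  have h2 : ∑ y ∈ Finset.univ.filter (fun y => π y = c), g y =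
      ∑ y ∈ Finset.univ.filter (fun y => π y = c), g x := by
    refine Finset.sum_congr rfl fun y hy => ?_
    apply h1
    rw [(Finset.mem_filter.1 hy).2, ← hx]
  rw [h2, Finset.sum_const, smul_eq_mul]
  apply Dvd.dvd.mul_right
  have h3 := MonoidHom.card_fiber_eq_of_mem_range π (x := c) (y := 1) ⟨x, hx⟩ ⟨1, map_one π⟩
  rw [h3]
  have h4 : (Finset.univ.filter (fun y => π y = 1)).card = Nat.card R := by
    rw [Nat.card_eq_fintype_card, Fintype.card_subtype]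
    congr 1
    ext y
    simp only [Finset.mem_filter, Finset.mem_univ, true_and]
    exact QuotientGroup.eq_one_iff y
  rw [h4]

variable {F : Type*} [Field F] [Fintype F] {G : Type*} [Group G] {V : Type*} [AddCommGroup V] [Module ℂ V]
  [FiniteDimensional ℂ V] {X : ZMod 12 → F → G} {ρ : Representation ℂ G V} {ψ : AddChar F ℂ}

omit [Fintype F] [FiniteDimensional ℂ V] in
theorem invariant_of (H : Hexa X) (U : Submodule ℂ V) (hU : ∀ j, Iv X ρ U j) (g : G) : ∀ v ∈ U, ρ g v ∈ U := by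
  have hg : g ∈ Subgroup.closure {g | ∃ k a, g = X k a} := by rw [H.gen]; exact Subgroup.mem_top g
  have key : (∀ v ∈ U, ρ g v ∈ U) ∧ (∀ v ∈ U, ρ g⁻¹ v ∈ U) := by
    induction hg using Subgroup.closure_induction with
    | mem x hx =>
      obtain ⟨k, a, rfl⟩ := hx
      refine ⟨hU k a, ?_⟩
      have : (X k a)⁻¹ = X k (-a) := by
        rw [inv_eq_iff_mul_eq_one, ← H.add, add_neg_cancel, H.zero]
      rw [this]
      exact hU k (-a)
    | one =>
      rw [inv_one, map_one]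
      exact ⟨fun v hv => hv, fun v hv => hv⟩
    | mul x y _ _ hx hy =>
      refine ⟨fun v hv => ?_, fun v hv => ?_⟩
      · rw [rho_mul]
        exact hx.1 _ (hy.1 v hv)
      · rw [mul_inv_rev, rho_mul]
        exact hy.2 _ (hx.2 v hv)
    | inv x _ hx => exact ⟨hx.2, by rw [inv_inv]; exact hx.1⟩
  exact key.1

omit [Fintype F] [FiniteDimensional ℂ V] in
theorem bot_or_top (H : Hexa X) (hirr : ρ.IsIrreducible) (U : Submodule ℂ V) (hU : ∀ j, Iv X ρ U j) :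
    U = ⊥ ∨ U = ⊤ := by
  let S : Subrepresentation ρ := ⟨U, fun g v hv => invariant_of H U hU g v hv⟩
  have hs : IsSimpleOrder (Subrepresentation ρ) := hirr
  rcases hs.eq_bot_or_eq_top S with h | h
  · left
    exact congrArg Subrepresentation.toSubmodule h
  · right
    exact congrArg Subrepresentation.toSubmodule h

omit [Fintype F] [FiniteDimensional ℂ V] in
/-- if `X k` acts trivially on an `X (-k)`-invariant subspace, so does `X (-k)` -/
theorem opp_triv (H : Hexa X) {U : Submodule ℂ V} {k : ZMod 12} (h1 : U ≤ Wk X ρ ψ k 0) (h2 : Iv X ρ U (k + 6)) :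
    U ≤ Wk X ρ ψ (k + 6) 0 := by
  intro v hv
  rw [mem_Wk0]
  intro t
  have hu : ρ (X (k + 6) 1) v ∈ U := h2 1 v hv
  have h3 : ρ (X (k + 6) (-1)) (ρ (X (k + 6) 1) v) = v := by
    rw [← rho_mul, ← H.add, neg_add_cancel, H.zero, map_one, Module.End.one_apply]
  have h4 : ρ (X k 1 * X (k + 6) (-1) * X k 1) (ρ (X (k + 6) 1) v) = v := by
    rw [rho_mul, rho_mul, mem_Wk0.1 (h1 hu), h3, mem_Wk0.1 (h1 hv)]
  have h5 := H.inv k (-t)
  have h6 : ρ (X k 1 * X (k + 6) (-1) * X k 1 * X k (-t)) (ρ (X (k + 6) 1) v) =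
      ρ (X (k + 6) (- -t) * (X k 1 * X (k + 6) (-1) * X k 1)) (ρ (X (k + 6) 1) v) := by rw [h5]
  rw [rho_mul, mem_Wk0.1 (h1 hu), h4, rho_mul, h4, neg_neg] at h6
  exact h6.symm

section

variable (H : Hexa X) (hψ : ψ ≠ 0)

include H

theorem ivE5 : Iv X ρ (Wk X ρ ψ 1 0 ⊓ Wk X ρ ψ 3 0) 5 := fun c v hv =>
  ⟨(rel4' H 1 3 5 (by decide) (by decide) (by decide)).zeroI H hv.2 hv.1 c, ivn H (by decide) 0 c v hv.2⟩

theorem ivE11 : Iv X ρ (Wk X ρ ψ 1 0 ⊓ Wk X ρ ψ 3 0) 11 := fun c v hv =>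
  ⟨ivn H (by decide) 0 c v hv.1, (rel4' H 11 1 3 (by decide) (by decide) (by decide)).zeroJ hv.1 hv.2 c⟩

theorem ivU5 (y : F) : Iv X ρ (Wk X ρ ψ 1 y ⊓ Wk X ρ ψ 3 0) 5 := fun c v hv =>
  ⟨(rel4' H 1 3 5 (by decide) (by decide) (by decide)).zeroI H hv.2 hv.1 c, ivn H (by decide) 0 c v hv.2⟩

include hψ

/-- the nontrivial weights of `X 5` on the fixed space -/
theorem g_const {x : F} (hx : x ≠ 0) :
    finrank ℂ (Wk X ρ ψ 1 0 ⊓ Wk X ρ ψ 3 0 ⊓ Wk X ρ ψ 5 x : Submodule ℂ V) =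
      finrank ℂ (Wk X ρ ψ 1 0 ⊓ Wk X ρ ψ 3 0 ⊓ Wk X ρ ψ 5 1 : Submodule ℂ V) := by
  have key : ∀ x y : F, x ≠ 0 → y ≠ 0 → finrank ℂ (Wk X ρ ψ 1 0 ⊓ Wk X ρ ψ 3 0 ⊓ Wk X ρ ψ 5 x : Submodule ℂ V) ≤
      finrank ℂ (Wk X ρ ψ 1 0 ⊓ Wk X ρ ψ 3 0 ⊓ Wk X ρ ψ 5 y : Submodule ℂ V) := by
    intro x y hx hy
    obtain ⟨h, hh⟩ := tor_map H (ρ := ρ) (ψ := ψ) (one_ne_zero : (1 : F) ≠ 0) (mul_ne_zero hx (inv_ne_zero hy))
    refine map_le (ρ := ρ) h ?_
    rintro v ⟨⟨h1, h3⟩, h5⟩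
    refine ⟨⟨?_, ?_⟩, ?_⟩
    · have := hh 1 0 v h1
      rwa [mul_zero] at this
    · have := hh 3 0 v h3
      rwa [mul_zero] at this
    · have := hh 5 x v h5
      have e : ((1 : F) ^ ci 5 * (x * y⁻¹) ^ cj 5)⁻¹ * x = y := by
        show ((1 : F) ^ (0 : ℤ) * (x * y⁻¹) ^ (1 : ℤ))⁻¹ * x = y
        rw [zpow_one, zpow_zero, one_mul]
        field_simp
      rwa [e] at this
  exact le_antisymm (key x 1 hx one_ne_zero) (key 1 x one_ne_zero hx)

/-- **the fixed space of `X 1 X 3` has nontrivial `X 5`-weights** -/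
theorem stepM0 (hirr : ρ.IsIrreducible) (hX : ∃ a, ρ (X 3 a) ≠ 1) (hq : 4 < Fintype.card F) {f : ℕ}
    (hD : ∀ k : ZMod 12, k.val % 2 = 1 →
      (∀ y z : F, (y ≠ 0 ∨ z ≠ 0) → finrank ℂ (Wk X ρ ψ k y ⊓ Wk X ρ ψ (k + 2) z : Submodule ℂ V) = Fintype.card F) ∧
      finrank ℂ (Wk X ρ ψ k 0 ⊓ Wk X ρ ψ (k + 2) 0 : Submodule ℂ V) = f)
    (hm : finrank ℂ (Wk X ρ ψ 1 0 ⊓ Wk X ρ ψ 3 0 ⊓ Wk X ρ ψ 5 1 : Submodule ℂ V) = 0) : False := by
  classical
  set E : Submodule ℂ V := Wk X ρ ψ 1 0 ⊓ Wk X ρ ψ 3 0 with hE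
  have fE : finrank ℂ E = f := (hD 1 (by decide)).2
  have f3 : finrank ℂ (Wk X ρ ψ 3 0 ⊓ Wk X ρ ψ 5 0 : Submodule ℂ V) = f := (hD 3 (by decide)).2
  have t5 : E ≤ Wk X ρ ψ 5 0 := by
    refine le_zero H hψ (ivE5 H) fun x hx => ?_
    rw [← Submodule.finrank_eq_zero, g_const H hψ hx, hm]
  have e3 : E = Wk X ρ ψ 3 0 ⊓ Wk X ρ ψ 5 0 := by
    apply Submodule.eq_of_le_of_finrank_eq
    · exact le_inf inf_le_right t5
    · rw [fE, f3]
  have i7 : Iv X ρ E 7 := by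
    rw [e3]
    intro c v hv
    exact ⟨(rel4' H 3 5 7 (by decide) (by decide) (by decide)).zeroI H hv.2 hv.1 c, ivn H (by decide) 0 c v hv.2⟩
  have t1 : E ≤ Wk X ρ ψ 1 0 := inf_le_left
  have t3 : E ≤ Wk X ρ ψ 3 0 := inf_le_right
  have t7 : E ≤ Wk X ρ ψ 7 0 := opp_triv H (k := 1) t1 i7
  have t11 : E ≤ Wk X ρ ψ 11 0 := opp_triv H (k := 5) t5 (ivE11 H)
  have t9 : E ≤ Wk X ρ ψ 9 0 := by
    intro v hv
    rw [mem_Wk0]
    intro t
    obtain ⟨e, he, hr⟩ := rel4' H 7 9 11 (by decide) (by decide) (by decide)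
    have h1 := hr 1 (e⁻¹ * t)
    rw [mul_one, ← mul_assoc, mul_inv_cancel₀ he, one_mul] at h1
    have h2 : ρ (X 11 (e⁻¹ * t) * X 7 1) v = ρ (X 7 1 * X 11 (e⁻¹ * t) * X 9 t) v := by rw [h1]
    rw [rho_mul, mem_Wk0.1 (t7 hv), mem_Wk0.1 (t11 hv)] at h2
    have h3 : ρ (X 7 1 * X 11 (e⁻¹ * t)) v = v := by
      rw [rho_mul, mem_Wk0.1 (t11 hv), mem_Wk0.1 (t7 hv)]
    rw [rho_mul] at h2
    apply rho_injective ρ (X 7 1 * X 11 (e⁻¹ * t))
    rw [h3]
    exact h2.symm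
  have todd : ∀ k : ZMod 12, k.val % 2 = 1 → E ≤ Wk X ρ ψ k 0 := by
    intro k hk
    rcases odd_cases hk with rfl | rfl | rfl | rfl | rfl | rfl <;> assumption
  have eodd : ∀ k : ZMod 12, k.val % 2 = 1 → E = Wk X ρ ψ k 0 ⊓ Wk X ρ ψ (k + 2) 0 := by
    intro k hk
    have e1 : (k + 2).val % 2 = 1 := (by decide : ∀ k : ZMod 12, k.val % 2 = 1 → (k + 2).val % 2 = 1) k hk
    apply Submodule.eq_of_le_of_finrank_eq
    · exact le_inf (todd k hk) (todd _ e1)
    · rw [fE, (hD k hk).2]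
  have iall : ∀ j : ZMod 12, Iv X ρ E j := by
    intro j
    rcases (by decide : ∀ j : ZMod 12, j.val % 2 = 1 ∨ j.val % 2 = 0) j with hj | hj
    · intro c v hv
      rw [mem_Wk0.1 (todd j hj hv)]
      exact hv
    · have e1 : (j - 1).val % 2 = 1 := (by decide : ∀ k : ZMod 12, k.val % 2 = 0 → (k - 1).val % 2 = 1) j hj
      rw [eodd (j - 1) e1]
      exact (ivn H ((by decide : ∀ k : ZMod 12, cmm (k - 1) k = true) j) 0).inf
        (ivn H ((by decide : ∀ k : ZMod 12, cmm (k - 1 + 2) k = true) j) 0)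
  rcases bot_or_top H hirr E iall with h | h
  · -- `f = 0`
    have hf : f = 0 := by
      rw [← fE, h, finrank_bot]
    have hU : finrank ℂ (Wk X ρ ψ 1 1 ⊓ Wk X ρ ψ 3 0 : Submodule ℂ V) = Fintype.card F :=
      (hD 1 (by decide)).1 1 0 (Or.inl one_ne_zero)
    set g : F → ℕ := fun x => finrank ℂ (Wk X ρ ψ 1 1 ⊓ Wk X ρ ψ 3 0 ⊓ Wk X ρ ψ 5 x : Submodule ℂ V) with hg
    have hsum : Fintype.card F = ∑ x : F, g x := by
      rw [← hU]
      exact split H hψ (ivU5 H 1)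
    have g0 : g 0 = 0 := by
      have h1 : g 0 ≤ finrank ℂ (Wk X ρ ψ 3 0 ⊓ Wk X ρ ψ 5 0 : Submodule ℂ V) :=
        Submodule.finrank_mono (inf_le_inf_right _ inf_le_right)
      rw [f3, hf] at h1
      exact Nat.le_zero.1 h1
    have hmul : ∀ a x : F, a ≠ 0 → g x ≤ g (a ^ 3 * x) := by
      intro a x ha
      obtain ⟨h, hh⟩ := tor_map H (ρ := ρ) (ψ := ψ) ha (inv_ne_zero (pow_ne_zero 3 ha))
      refine map_le (ρ := ρ) h ?_
      rintro v ⟨⟨h1, h3⟩, h5⟩
      refine ⟨⟨?_, ?_⟩, ?_⟩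
      · have := hh 1 1 v h1
        have e : (a ^ ci 1 * ((a ^ 3)⁻¹) ^ cj 1)⁻¹ * 1 = 1 := by
          show (a ^ (3 : ℤ) * ((a ^ 3)⁻¹) ^ (1 : ℤ))⁻¹ * 1 = 1
          rw [zpow_one, zpow_ofNat, mul_inv_cancel₀ (pow_ne_zero 3 ha), inv_one, mul_one]
        rwa [e] at this
      · have := hh 3 0 v h3
        rwa [mul_zero] at this
      · have := hh 5 x v h5
        have e : (a ^ ci 5 * ((a ^ 3)⁻¹) ^ cj 5)⁻¹ * x = a ^ 3 * x := by
          show (a ^ (0 : ℤ) * ((a ^ 3)⁻¹) ^ (1 : ℤ))⁻¹ * x = a ^ 3 * x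
          rw [zpow_one, zpow_zero, one_mul, inv_inv]
        rwa [e] at this
    have heq : ∀ a x : F, a ≠ 0 → g (a ^ 3 * x) = g x := by
      intro a x ha
      refine le_antisymm ?_ (hmul a x ha)
      have := hmul a⁻¹ (a ^ 3 * x) (inv_ne_zero ha)
      rwa [← mul_assoc, ← mul_pow, inv_mul_cancel₀ ha, one_pow, one_mul] at this
    set R : Subgroup Fˣ := (powMonoidHom 3 : Fˣ →* Fˣ).range with hR
    have h1 : Nat.card R ∣ ∑ x : Fˣ, g (x : F) := by
      refine card_dvd_sum R (fun x : Fˣ => g (x : F)) ?_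
      rintro _ ⟨a, rfl⟩ x
      exact heq a x a.ne_zero
    have h2 : ∑ x : Fˣ, g (x : F) = Fintype.card F := by
      rw [hsum]
      have h3 : ∑ x : F, g x = ∑ x ∈ Finset.univ.filter (fun x : F => x ≠ 0), g x := by
        rw [Finset.sum_filter]
        refine Finset.sum_congr rfl fun x _ => ?_
        by_cases hx : x = 0
        · subst hx
          rw [if_neg (by simp), g0]
        · rw [if_pos hx]
      rw [h3]
      refine Finset.sum_bij (fun (x : Fˣ) _ => (x : F)) ?_ ?_ ?_ ?_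
      · intro x _
        exact Finset.mem_filter.2 ⟨Finset.mem_univ _, x.ne_zero⟩
      · intro x _ y _ hxy
        exact Units.ext hxy
      · intro x hx
        exact ⟨Units.mk0 x (Finset.mem_filter.1 hx).2, Finset.mem_univ _, rfl⟩
      · intro x _
        rfl
    rw [h2] at h1
    have h3 : Nat.card R ∣ Fintype.card F - 1 := by
      have := Subgroup.card_subgroup_dvd_card R
      rwa [Nat.card_units, Nat.card_eq_fintype_card (α := F)] at this
    have h4 : Nat.card R = 1 := by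
      have h5 : Nat.card R ∣ Fintype.card F - (Fintype.card F - 1) := Nat.dvd_sub h1 h3
      rw [show Fintype.card F - (Fintype.card F - 1) = 1 by omega] at h5
      exact Nat.dvd_one.1 h5
    have h5 : ∀ a : F, a ≠ 0 → a ^ 3 = 1 := by
      intro a ha
      have h6 := Subgroup.card_eq_one.1 h4
      have h7 : (Units.mk0 a ha) ^ 3 ∈ R := ⟨Units.mk0 a ha, rfl⟩
      rw [h6, Subgroup.mem_bot] at h7
      have := congrArg Units.val h7
      simpa using this
    -- at most four elements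
    have h6 : (Finset.univ : Finset F) ⊆ insert 0 (Polynomial.nthRoots 3 (1 : F)).toFinset := by
      intro a _
      by_cases ha : a = 0
      · rw [ha]
        exact Finset.mem_insert_self _ _
      · apply Finset.mem_insert_of_mem
        rw [Multiset.mem_toFinset, Polynomial.mem_nthRoots (by norm_num)]
        exact h5 a ha
    have h7 := Finset.card_le_card h6
    rw [Finset.card_univ] at h7
    have h8 := Finset.card_insert_le (0 : F) (Polynomial.nthRoots 3 (1 : F)).toFinset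
    have h9 := Multiset.toFinset_card_le (Polynomial.nthRoots 3 (1 : F))
    have h10 := Polynomial.card_nthRoots 3 (1 : F)
    omega
  · obtain ⟨a, ha⟩ := hX
    apply ha
    ext v
    rw [Module.End.one_apply]
    have hv : v ∈ E := by rw [h]; exact Submodule.mem_top
    exact mem_Wk0.1 (t3 hv) a

end

end Cfsg.Agent.H120.Hx
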