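import Cfsg.Agent.H120.GOtherB

/-!
# Representations of `G₂(q)`, `q ≡ 1` modulo three: the trace of the central element of `SL 3`
-/

set_option autoImplicit false
set_option linter.unusedSectionVars false

namespace Cfsg.Agent.H120.Hx

open Module

variable {F : Type*} [Field F] [Fintype F] {G : Type*} [Group G] {V : Type*} [AddCommGroup V] [Module ℂ V]
  [FiniteDimensional ℂ V] {X : ZMod 12 → F → G} {ρ : Representation ℂ G V} {ψ : AddChar F ℂ}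

theorem tr_scal {Q c : Module.End ℂ V} {U : Submodule ℂ V} (h1 : ∀ v, Q v ∈ U) (h2 : ∀ v ∈ U, Q v = v) {μ : ℂ}
    (h3 : ∀ v ∈ U, c v = μ • v) : LinearMap.trace ℂ V (c * Q) = μ * finrank ℂ U := by
  have h4 : c * Q = μ • Q := by
    ext v
    exact h3 _ (h1 v)
  have h5 : LinearMap.IsProj U Q := ⟨h1, h2⟩
  rw [h4, map_smul, h5.trace, smul_eq_mul]

theorem tr_zero {Q c : Module.End ℂ V} {U : Submodule ℂ V} (h1 : ∀ v, Q v ∈ U) (h2 : ∀ v ∈ U, Q v = v)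
    (h3 : ∀ v ∈ U, Q (c v) = 0) : LinearMap.trace ℂ V (c * Q) = 0 := by
  have h4 : Q * Q = Q := by
    ext v
    exact h2 _ (h1 v)
  rw [← h4, ← mul_assoc, LinearMap.trace_mul_comm]
  have h5 : Q * (c * Q) = 0 := by
    ext v
    exact h3 _ (h1 v)
  rw [h5, map_zero]

/-- the projection onto a weight space -/
noncomputable def Pr (X : ZMod 12 → F → G) (ρ : Representation ℂ G V) (ψ : AddChar F ℂ) (k : ZMod 12) (y : F) :
    Module.End ℂ V :=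
  (Fintype.card F : ℂ)⁻¹ • ∑ a, ψ (y * -a) • ρ (X k a)

section

variable (H : Hexa X) (hψ : ψ ≠ 0)

/-- the action of a root group -/
def Tk (H : Hexa X) (ρ : Representation ℂ G V) (k : ZMod 12) : AddAct F V :=
  ⟨fun a => ρ (X k a), by rw [H.zero, map_one], fun a b => by rw [H.add, map_mul]⟩

theorem Pr_eq (k : ZMod 12) (y : F) : Pr X ρ ψ k y = (Tk H ρ k).proj (AddChar.mulShift ψ y) := rfl

include H

theorem Pr_mem (k : ZMod 12) (y : F) (v : V) : Pr X ρ ψ k y v ∈ Wk X ρ ψ k y := by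
  intro a
  have := (Tk H ρ k).proj_mem (AddChar.mulShift ψ y) v a
  rw [AddChar.mulShift_apply] at this
  exact this

theorem Pr_self (k : ZMod 12) (y : F) {v : V} (hv : v ∈ Wk X ρ ψ k y) : Pr X ρ ψ k y v = v := by
  rw [Pr_eq H, (Tk H ρ k).proj_of_mem (φ := AddChar.mulShift ψ y), if_pos rfl]
  intro a
  rw [AddChar.mulShift_apply]
  exact hv a

omit H in
theorem Pr_inv {k : ZMod 12} {U : Submodule ℂ V} (hU : Iv X ρ U k) (y : F) {v : V} (hv : v ∈ U) :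
    Pr X ρ ψ k y v ∈ U := by
  rw [Pr, LinearMap.smul_apply, LinearMap.sum_apply]
  refine Submodule.smul_mem _ _ (Submodule.sum_mem _ fun a _ => ?_)
  rw [LinearMap.smul_apply]
  exact Submodule.smul_mem _ _ (hU a v hv)

include hψ

theorem Pr_ne {k : ZMod 12} {y y' : F} (h : y ≠ y') {v : V} (hv : v ∈ Wk X ρ ψ k y') : Pr X ρ ψ k y v = 0 := by
  classical
  rw [Pr_eq H, (Tk H ρ k).proj_of_mem (φ := AddChar.mulShift ψ y')]
  · rw [if_neg]
    intro h1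
    exact h (AddChar.to_mulShift_inj_of_isPrimitive (AddChar.IsPrimitive.of_ne_one hψ) h1.symm)
  · intro a
    rw [AddChar.mulShift_apply]
    exact hv a

theorem sum_Pr (k : ZMod 12) : ∑ y : F, Pr X ρ ψ k y = 1 := by
  classical
  ext v
  rw [LinearMap.sum_apply, Module.End.one_apply]
  have h1 := (Tk H ρ k).sum_proj v
  have hb : Function.Bijective (fun d : F => AddChar.mulShift ψ d) := by
    rw [Fintype.bijective_iff_injective_and_card]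
    exact ⟨fun a b h => AddChar.to_mulShift_inj_of_isPrimitive (AddChar.IsPrimitive.of_ne_one hψ) h,
      AddChar.card_eq.symm⟩
  rw [← (Equiv.ofBijective _ hb).sum_comp] at h1
  exact h1

end

/-- maps of weight spaces given by torus elements -/
theorem map_tor {h : G} {χ : ZMod 12 → F} (hχ : ∀ k, χ k ≠ 0) (hh : ∀ k t, h * X k t = X k (χ k * t) * h)
    {k : ZMod 12} {y : F} {v : V} (hv : v ∈ Wk X ρ ψ k y) : ρ h v ∈ Wk X ρ ψ k ((χ k)⁻¹ * y) := by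
  intro t
  have h1 := hh k ((χ k)⁻¹ * t)
  rw [← mul_assoc, mul_inv_cancel₀ (hχ k), one_mul] at h1
  rw [← rho_mul, ← h1, rho_mul, hv, map_smul]
  congr 2
  ring

theorem eq_one_of_comm (H : Hexa X) (hcen : Subgroup.center G = ⊥) {g : G} (h : ∀ k t, g * X k t = X k t * g) :
    g = 1 := by
  have h1 : g ∈ Subgroup.center G := by
    rw [Subgroup.mem_center_iff]
    intro x
    have hx : x ∈ Subgroup.closure {g | ∃ k a, g = X k a} := by rw [H.gen]; exact Subgroup.mem_top x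
    have hle : Subgroup.closure {g | ∃ k a, g = X k a} ≤ Subgroup.centralizer {g} := by
      rw [Subgroup.closure_le]
      rintro _ ⟨k, a, rfl⟩
      rw [SetLike.mem_coe, Subgroup.mem_centralizer_iff]
      rintro y rfl
      exact h k a
    have h2 := Subgroup.mem_centralizer_iff.1 (hle hx) g rfl
    exact h2.symm
  rw [hcen, Subgroup.mem_bot] at h1
  exact h1

/-- torus elements commute -/
theorem tor_comm (H : Hexa X) (hcen : Subgroup.center G = ⊥) {h c : G} {χ χ' : ZMod 12 → F}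
    (hh : ∀ k t, h * X k t = X k (χ k * t) * h) (hc : ∀ k t, c * X k t = X k (χ' k * t) * c) : h * c = c * h := by
  have h1 : (c * h)⁻¹ * (h * c) = 1 := by
    apply eq_one_of_comm H hcen
    intro k t
    have e1 : h * c * X k t = X k (χ k * (χ' k * t)) * (h * c) := by
      rw [mul_assoc, hc, ← mul_assoc, hh, mul_assoc]
    have e2 : c * h * X k t = X k (χ k * (χ' k * t)) * (c * h) := by
      rw [mul_assoc, hh, ← mul_assoc, hc, mul_assoc]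
      congr 2
      ring
    have e3 : (c * h)⁻¹ * X k (χ k * (χ' k * t)) = X k t * (c * h)⁻¹ := by
      rw [inv_mul_eq_iff_eq_mul, ← mul_assoc (c * h), e2, mul_inv_cancel_right]
    rw [mul_assoc, e1, ← mul_assoc, e3, mul_assoc]
  exact (inv_mul_eq_one.1 h1).symm

section

variable (H : HexaN X) (hψ : ψ ≠ 0)

include H hψ

/-- **the trace of `c`** -/
theorem trace_c (hcen : Subgroup.center G = ⊥)
    (hD : ∀ y z : F, (y ≠ 0 ∨ z ≠ 0) → finrank ℂ (Wk X ρ ψ 1 y ⊓ Wk X ρ ψ 3 z : Submodule ℂ V) = Fintype.card F)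
    (hf0 : finrank ℂ (Wk X ρ ψ 1 0 ⊓ Wk X ρ ψ 3 0 ⊓ Wk X ρ ψ 5 0 : Submodule ℂ V) = 0)
    (hf : ∀ x : F, x ≠ 0 → finrank ℂ (Wk X ρ ψ 1 0 ⊓ Wk X ρ ψ 3 0 ⊓ Wk X ρ ψ 5 x : Submodule ℂ V) = 1)
    {ω : F} (hω : ω ≠ 1) (hω3 : ω ^ 3 = 1) {c : G} (hc : ∀ k t, c * X k t = X k (ω ^ ci k * t) * c) :
    ∃ ε μ : ℂ, ε ^ 3 = 1 ∧ μ ^ 3 = 1 ∧
      ρ.character c = ((Fintype.card F : ℂ) ^ 2 - 1) * ε + ((Fintype.card F : ℂ) - 1) * μ := by
  classical
  have hq : 0 < Fintype.card F := Fintype.card_pos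
  have hω0 : ω ≠ 0 := by
    rintro rfl
    rw [zero_pow (by norm_num)] at hω3
    exact zero_ne_one hω3
  have hχ : ∀ k : ZMod 12, ω ^ ci k ≠ 0 := fun k => zpow_ne_zero _ hω0
  have hcodd : ∀ k : ZMod 12, k.val % 2 = 1 → ω ^ ci k = 1 := by
    intro k hk
    have e3 : ω ^ (3 : ℤ) = 1 := by rw [zpow_ofNat, hω3]
    rcases odd_cases hk with rfl | rfl | rfl | rfl | rfl | rfl
    · exact e3
    · exact e3
    · exact zpow_zero ω
    · show ω ^ (-3 : ℤ) = 1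
      rw [zpow_neg, e3, inv_one]
    · show ω ^ (-3 : ℤ) = 1
      rw [zpow_neg, e3, inv_one]
    · exact zpow_zero ω
  have hcW : ∀ (k : ZMod 12), k.val % 2 = 1 → ∀ (y : F) (v : V), v ∈ Wk X ρ ψ k y → ρ c v ∈ Wk X ρ ψ k y := by
    intro k hk y v hv
    have := map_tor hχ hc hv
    rwa [hcodd k hk, inv_one, one_mul] at this
  have hc2 : ∀ (s : F) (v : V), v ∈ Wk X ρ ψ 2 s → ρ c v ∈ Wk X ρ ψ 2 ((ω ^ 2)⁻¹ * s) := by
    intro s v hv
    have := map_tor hχ hc hv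
    have e : ω ^ ci 2 = ω ^ 2 := by
      show ω ^ (2 : ℤ) = ω ^ 2
      rw [zpow_ofNat]
    rwa [e] at this
  have hω2 : (ω ^ 2)⁻¹ ≠ 1 := by
    intro h
    apply hω
    have h1 : ω ^ 2 = 1 := inv_eq_one.1 h
    calc ω = ω ^ 3 := by rw [pow_succ, h1, one_mul]
      _ = 1 := hω3
  -- `c ^ 3 = 1`
  have hc3 : c ^ 3 = 1 := by
    apply eq_one_of_comm H.toHexa hcen
    intro k t
    have e : ω ^ ci k * (ω ^ ci k * (ω ^ ci k * t)) = t := by
      have : ω ^ ci k * (ω ^ ci k * (ω ^ ci k * t)) = (ω ^ ci k) ^ 3 * t := by ring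
      rw [this, ← zpow_natCast, ← zpow_mul, mul_comm (ci k), zpow_mul, zpow_natCast, hω3, one_zpow, one_mul]
    rw [pow_succ, pow_two, mul_assoc, hc, ← mul_assoc, mul_assoc c c, hc, ← mul_assoc, hc, e]
    simp only [mul_assoc]
  have hcube : ∀ (v : V) (e : ℂ), v ≠ 0 → ρ c v = e • v → e ^ 3 = 1 := by
    intro v e hv0 hv
    have h1 : ρ (c ^ 3) v = (e ^ 3) • v := by
      rw [pow_succ, pow_two, rho_mul, rho_mul, hv, map_smul, hv, map_smul, map_smul, hv, smul_smul, smul_smul]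
      congr 1
      ring
    rw [hc3, map_one, Module.End.one_apply] at h1
    have h2 : (1 : ℂ) • v = (e ^ 3) • v := by rw [one_smul]; exact h1
    exact (smul_left_injective ℂ hv0 h2).symm
  -- lines
  have hline : ∀ (U : Submodule ℂ V), finrank ℂ U = 1 → (∀ v ∈ U, ρ c v ∈ U) → ∀ v1 ∈ U, v1 ≠ 0 →
      ∃ e : ℂ, ρ c v1 = e • v1 ∧ ∀ v ∈ U, ρ c v = e • v := by
    intro U h1 h2 v1 hv1 hv10
    obtain ⟨w, hw, hw'⟩ := finrank_eq_one_iff'.1 h1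
    have hall : ∀ v ∈ U, ∃ a : ℂ, v = a • (w : V) := by
      intro v hv
      obtain ⟨a, ha⟩ := hw' ⟨v, hv⟩
      exact ⟨a, (congrArg Subtype.val ha).symm⟩
    obtain ⟨e, he⟩ := hall _ (h2 w w.2)
    have h3 : ∀ v ∈ U, ρ c v = e • v := by
      intro v hv
      obtain ⟨a, rfl⟩ := hall v hv
      rw [map_smul, he, smul_comm]
    exact ⟨e, h3 v1 hv1, h3⟩
  -- a vector in a line determines the eigenvalue
  have htrans : ∀ (U : Submodule ℂ V), finrank ℂ U = 1 → ∀ v1 ∈ U, v1 ≠ 0 → ∀ e : ℂ, ρ c v1 = e • v1 →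
      ∀ v ∈ U, ρ c v = e • v := by
    intro U h1 v1 hv1 hv10 e he v hv
    have h2 : U ≤ Submodule.span ℂ {v1} := by
      have h3 : Submodule.span ℂ {v1} ≤ U := by
        rw [Submodule.span_singleton_le_iff_mem]
        exact hv1
      have h4 := Submodule.eq_of_le_of_finrank_eq h3 (by rw [h1, finrank_span_singleton hv10])
      exact h4.ge
    obtain ⟨a, rfl⟩ := Submodule.mem_span_singleton.1 (h2 hv)
    rw [map_smul, he, smul_comm]
  have hU1 : ∀ (y z s : F), (y ≠ 0 ∨ z ≠ 0) →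
      finrank ℂ (Wk X ρ ψ 1 y ⊓ Wk X ρ ψ 3 z ⊓ Wk X ρ ψ 2 s : Submodule ℂ V) = 1 := by
    intro y z s h
    have h1 := DN (ρ := ρ) H hψ h s
    rw [hD y z h] at h1
    exact (Nat.eq_of_mul_eq_mul_left hq (by rw [mul_one]; exact h1)).symm
  -- `ε`
  obtain ⟨v1, hv1, hv10⟩ : ∃ v ∈ (Wk X ρ ψ 1 1 ⊓ Wk X ρ ψ 3 1 ⊓ Wk X ρ ψ 2 0 : Submodule ℂ V), v ≠ 0 := by
    rw [← Submodule.ne_bot_iff]
    intro hb
    have := hU1 1 1 0 (Or.inl one_ne_zero)
    rw [hb, finrank_bot] at this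
    exact zero_ne_one this
  obtain ⟨ε, hε1, -⟩ := hline _ (hU1 1 1 0 (Or.inl one_ne_zero)) (by
    rintro v ⟨⟨h1, h3⟩, h2⟩
    refine ⟨⟨hcW 1 (by decide) _ _ h1, hcW 3 (by decide) _ _ h3⟩, ?_⟩
    have := hc2 _ _ h2
    rwa [mul_zero] at this) v1 hv1 hv10
  have hcX : ∀ k : ZMod 12, k.val % 2 = 1 → ∀ (t : F) (v : V), ρ c (ρ (X k t) v) = ρ (X k t) (ρ c v) := by
    intro k hk t v
    have := hc k t
    rw [hcodd k hk, one_mul] at this
    rw [← rho_mul, this, rho_mul]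
  obtain ⟨e5, he5, hm5⟩ := (rel4' H.toHexa 1 3 5 (by decide) (by decide) (by decide)).moveI H.zero H.add
    (ρ := ρ) (ψ := ψ)
  obtain ⟨e11, he11, hm11⟩ := (rel4' H.toHexa 11 1 3 (by decide) (by decide) (by decide)).moveJ
    (ρ := ρ) (ψ := ψ)
  -- eigenvectors in all lines
  have hE : ∀ y z : F, (y ≠ 0 ∨ z ≠ 0) → ∃ v ∈ (Wk X ρ ψ 1 y ⊓ Wk X ρ ψ 3 z ⊓ Wk X ρ ψ 2 0 : Submodule ℂ V),
      v ≠ 0 ∧ ρ c v = ε • v := by
    have m5 : ∀ y y' z : F, z ≠ 0 →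
        (∃ v ∈ (Wk X ρ ψ 1 y ⊓ Wk X ρ ψ 3 z ⊓ Wk X ρ ψ 2 0 : Submodule ℂ V), v ≠ 0 ∧ ρ c v = ε • v) →
        ∃ v ∈ (Wk X ρ ψ 1 y' ⊓ Wk X ρ ψ 3 z ⊓ Wk X ρ ψ 2 0 : Submodule ℂ V), v ≠ 0 ∧ ρ c v = ε • v := by
      rintro y y' z hz ⟨v, ⟨⟨h1, h3⟩, h2⟩, h0, hcv⟩
      refine ⟨ρ (X 5 ((e5 * z)⁻¹ * (y' - y))) v, ⟨⟨?_, ivn H.toHexa (by decide) _ _ v h3⟩,
        ivn H.toHexa (by decide) _ _ v h2⟩, ?_, ?_⟩
      · have := hm5 z y v h3 h1 ((e5 * z)⁻¹ * (y' - y))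
        rwa [← mul_assoc, mul_inv_cancel₀ (mul_ne_zero he5 hz), one_mul, add_sub_cancel] at this
      · intro h
        exact h0 (rho_injective ρ _ (by rw [h, map_zero]))
      · rw [hcX 5 (by decide), hcv, map_smul]
    have m11 : ∀ y z z' : F, y ≠ 0 →
        (∃ v ∈ (Wk X ρ ψ 1 y ⊓ Wk X ρ ψ 3 z ⊓ Wk X ρ ψ 2 0 : Submodule ℂ V), v ≠ 0 ∧ ρ c v = ε • v) →
        ∃ v ∈ (Wk X ρ ψ 1 y ⊓ Wk X ρ ψ 3 z' ⊓ Wk X ρ ψ 2 0 : Submodule ℂ V), v ≠ 0 ∧ ρ c v = ε • v := by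
      rintro y z z' hy ⟨v, ⟨⟨h1, h3⟩, h2⟩, h0, hcv⟩
      refine ⟨ρ (X 11 ((e11 * y)⁻¹ * (z' - z))) v, ⟨⟨ivn H.toHexa (by decide) _ _ v h1, ?_⟩,
        ivn H.toHexa (by decide) _ _ v h2⟩, ?_, ?_⟩
      · have := hm11 y z v h1 h3 ((e11 * y)⁻¹ * (z' - z))
        rwa [← mul_assoc, mul_inv_cancel₀ (mul_ne_zero he11 hy), one_mul, add_sub_cancel] at this
      · intro h
        exact h0 (rho_injective ρ _ (by rw [h, map_zero]))
      · rw [hcX 11 (by decide), hcv, map_smul]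
    have h11 : ∃ v ∈ (Wk X ρ ψ 1 1 ⊓ Wk X ρ ψ 3 1 ⊓ Wk X ρ ψ 2 0 : Submodule ℂ V), v ≠ 0 ∧ ρ c v = ε • v :=
      ⟨v1, hv1, hv10, hε1⟩
    rintro y z (h | h)
    · exact m11 y 1 z h (m5 1 y 1 one_ne_zero h11)
    · exact m5 1 y z h (m11 1 1 z one_ne_zero h11)
  have hε3 : ε ^ 3 = 1 := hcube v1 ε hv10 hε1
  -- `μ`
  obtain ⟨u1, hu1, hu10⟩ : ∃ v ∈ (Wk X ρ ψ 1 0 ⊓ Wk X ρ ψ 3 0 ⊓ Wk X ρ ψ 5 1 : Submodule ℂ V), v ≠ 0 := by
    rw [← Submodule.ne_bot_iff]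
    intro hb
    have := hf 1 one_ne_zero
    rw [hb, finrank_bot] at this
    exact zero_ne_one this
  obtain ⟨μ, hμ1, -⟩ := hline _ (hf 1 one_ne_zero) (by
    rintro v ⟨⟨h1, h3⟩, h2⟩
    exact ⟨⟨hcW 1 (by decide) _ _ h1, hcW 3 (by decide) _ _ h3⟩, hcW 5 (by decide) _ _ h2⟩) u1 hu1 hu10
  have hμ3 : μ ^ 3 = 1 := hcube u1 μ hu10 hμ1
  have hμ : ∀ x : F, x ≠ 0 → ∀ v ∈ (Wk X ρ ψ 1 0 ⊓ Wk X ρ ψ 3 0 ⊓ Wk X ρ ψ 5 x : Submodule ℂ V),
      ρ c v = μ • v := by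
    intro x hx
    obtain ⟨h, hh⟩ := H.tor 1 x⁻¹ one_ne_zero (inv_ne_zero hx)
    have hχ' : ∀ k : ZMod 12, (1 : F) ^ ci k * x⁻¹ ^ cj k ≠ 0 := fun k =>
      mul_ne_zero (zpow_ne_zero _ one_ne_zero) (zpow_ne_zero _ (inv_ne_zero hx))
    have hcomm := tor_comm H.toHexa hcen hh hc
    obtain ⟨⟨h1, h3⟩, h5⟩ := hu1
    refine htrans _ (hf x hx) (ρ h u1) ⟨⟨?_, ?_⟩, ?_⟩ ?_ μ ?_
    · have := map_tor hχ' hh h1
      rwa [mul_zero] at this
    · have := map_tor hχ' hh h3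
      rwa [mul_zero] at this
    · have := map_tor hχ' hh h5
      have e : ((1 : F) ^ ci 5 * x⁻¹ ^ cj 5)⁻¹ * 1 = x := by
        show ((1 : F) ^ (0 : ℤ) * x⁻¹ ^ (1 : ℤ))⁻¹ * 1 = x
        rw [zpow_one, zpow_zero, one_mul, inv_inv, mul_one]
      rwa [e] at this
    · intro h0
      exact hu10 (rho_injective ρ h (by rw [h0, map_zero]))
    · rw [← rho_mul, ← hcomm, rho_mul, hμ1, map_smul]
  refine ⟨ε, μ, hε3, hμ3, ?_⟩
  -- the decomposition of the identity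
  set A : F → F → Module.End ℂ V := fun y z => Pr X ρ ψ 3 z * Pr X ρ ψ 1 y with hA
  have hAmem : ∀ (y z : F) (v : V), A y z v ∈ (Wk X ρ ψ 1 y ⊓ Wk X ρ ψ 3 z : Submodule ℂ V) := by
    intro y z v
    exact ⟨Pr_inv (ivn H.toHexa (by decide) y) z (Pr_mem H.toHexa 1 y v), Pr_mem H.toHexa 3 z _⟩
  have hAself : ∀ (y z : F) (v : V), v ∈ (Wk X ρ ψ 1 y ⊓ Wk X ρ ψ 3 z : Submodule ℂ V) → A y z v = v := by
    rintro y z v ⟨h1, h3⟩
    show Pr X ρ ψ 3 z (Pr X ρ ψ 1 y v) = v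
    rw [Pr_self H.toHexa 1 y h1, Pr_self H.toHexa 3 z h3]
  have hsum : ∑ y : F, ∑ z : F, A y z = 1 := by
    simp only [hA, ← Finset.sum_mul, sum_Pr H.toHexa hψ, one_mul]
  have htr1 : ∀ y z : F, (y ≠ 0 ∨ z ≠ 0) → LinearMap.trace ℂ V (ρ c * A y z) = ε := by
    intro y z hyz
    have h1 : A y z = ∑ s : F, Pr X ρ ψ 2 s * A y z := by
      rw [← Finset.sum_mul, sum_Pr H.toHexa hψ, one_mul]
    have hB1 : ∀ (s : F) (v : V), (Pr X ρ ψ 2 s * A y z) v ∈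
        (Wk X ρ ψ 1 y ⊓ Wk X ρ ψ 3 z ⊓ Wk X ρ ψ 2 s : Submodule ℂ V) := by
      intro s v
      exact ⟨Pr_inv ((ivn H.toHexa (by decide) y).inf (ivn H.toHexa (by decide) z)) s (hAmem y z v),
        Pr_mem H.toHexa 2 s _⟩
    have hB2 : ∀ (s : F), ∀ v ∈ (Wk X ρ ψ 1 y ⊓ Wk X ρ ψ 3 z ⊓ Wk X ρ ψ 2 s : Submodule ℂ V),
        (Pr X ρ ψ 2 s * A y z) v = v := by
      rintro s v ⟨h13, h2⟩
      show Pr X ρ ψ 2 s (A y z v) = v
      rw [hAself y z v h13, Pr_self H.toHexa 2 s h2]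
    rw [h1, Finset.mul_sum, map_sum, Finset.sum_eq_single 0]
    · obtain ⟨v, hv, hv0, hcv⟩ := hE y z hyz
      rw [tr_scal (hB1 0) (hB2 0) (μ := ε), hU1 y z 0 hyz, Nat.cast_one, mul_one]
      exact htrans _ (hU1 y z 0 hyz) v hv hv0 ε hcv
    · intro s _ hs
      refine tr_zero (hB1 s) (hB2 s) ?_
      rintro v ⟨⟨h1, h3⟩, h2⟩
      show Pr X ρ ψ 2 s (A y z (ρ c v)) = 0
      rw [hAself y z _ ⟨hcW 1 (by decide) _ _ h1, hcW 3 (by decide) _ _ h3⟩]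
      refine Pr_ne H.toHexa hψ ?_ (hc2 s v h2)
      intro h
      apply hω2
      have : (ω ^ 2)⁻¹ * s = 1 * s := by rw [one_mul]; exact h.symm
      exact mul_right_cancel₀ hs this
    · intro h
      exact absurd (Finset.mem_univ _) h
  have htr0 : LinearMap.trace ℂ V (ρ c * A 0 0) = ((Fintype.card F : ℂ) - 1) * μ := by
    have h1 : A 0 0 = ∑ x : F, Pr X ρ ψ 5 x * A 0 0 := by
      rw [← Finset.sum_mul, sum_Pr H.toHexa hψ, one_mul]
    have hB1 : ∀ (x : F) (v : V), (Pr X ρ ψ 5 x * A 0 0) v ∈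
        (Wk X ρ ψ 1 0 ⊓ Wk X ρ ψ 3 0 ⊓ Wk X ρ ψ 5 x : Submodule ℂ V) := by
      intro x v
      exact ⟨Pr_inv (ivE5 H.toHexa) x (hAmem 0 0 v), Pr_mem H.toHexa 5 x _⟩
    have hB2 : ∀ (x : F), ∀ v ∈ (Wk X ρ ψ 1 0 ⊓ Wk X ρ ψ 3 0 ⊓ Wk X ρ ψ 5 x : Submodule ℂ V),
        (Pr X ρ ψ 5 x * A 0 0) v = v := by
      rintro x v ⟨h13, h2⟩
      show Pr X ρ ψ 5 x (A 0 0 v) = v
      rw [hAself 0 0 v h13, Pr_self H.toHexa 5 x h2]
    rw [h1, Finset.mul_sum, map_sum]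
    have h2 : ∀ x : F, LinearMap.trace ℂ V (ρ c * (Pr X ρ ψ 5 x * A 0 0)) = if x = 0 then 0 else μ := by
      intro x
      by_cases hx : x = 0
      · subst hx
        rw [if_pos rfl, tr_scal (hB1 0) (hB2 0) (μ := 0), zero_mul]
        intro v hv
        have h3 := Submodule.finrank_eq_zero.1 hf0
        rw [h3, Submodule.mem_bot] at hv
        rw [hv, map_zero, smul_zero]
      · rw [if_neg hx, tr_scal (hB1 x) (hB2 x) (μ := μ) (hμ x hx), hf x hx, Nat.cast_one, mul_one]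
    rw [Finset.sum_congr rfl (fun x _ => h2 x), Finset.sum_ite, Finset.sum_const_zero, zero_add, Finset.sum_const,
      nsmul_eq_mul]
    congr 1
    have h3 : (Finset.univ.filter (fun x : F => ¬ x = 0)).card = Fintype.card F - 1 := by
      have : Finset.univ.filter (fun x : F => ¬ x = 0) = Finset.univ.erase 0 := by
        ext x
        simp
      rw [this, Finset.card_erase_of_mem (Finset.mem_univ _), Finset.card_univ]
    rw [h3, Nat.cast_sub hq, Nat.cast_one]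
  have htot : ρ.character c = ∑ y : F, ∑ z : F, LinearMap.trace ℂ V (ρ c * A y z) := by
    have h1 : ρ.character c = LinearMap.trace ℂ V (ρ c * 1) := by rw [mul_one]; rfl
    rw [h1, ← hsum, Finset.mul_sum, map_sum]
    refine Finset.sum_congr rfl fun y _ => ?_
    rw [Finset.mul_sum, map_sum]
  rw [htot]
  have h1 : ∀ y : F, ∑ z : F, LinearMap.trace ℂ V (ρ c * A y z) =
      (Fintype.card F : ℂ) * ε + (if y = 0 then (((Fintype.card F : ℂ) - 1) * μ - ε) else 0) := by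
    intro y
    by_cases hy : y = 0
    · subst hy
      rw [if_pos rfl, ← Finset.sum_erase_add _ _ (Finset.mem_univ (0 : F)), htr0,
        Finset.sum_congr rfl (fun z hz => htr1 0 z (Or.inr (Finset.ne_of_mem_erase hz))), Finset.sum_const,
        Finset.card_erase_of_mem (Finset.mem_univ _), Finset.card_univ, nsmul_eq_mul, Nat.cast_sub hq, Nat.cast_one]
      ring
    · rw [if_neg hy, Finset.sum_congr rfl (fun z _ => htr1 y z (Or.inl hy)), Finset.sum_const, Finset.card_univ,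
        nsmul_eq_mul, add_zero]
  rw [Finset.sum_congr rfl (fun y _ => h1 y), Finset.sum_add_distrib, Finset.sum_const, Finset.card_univ,
    nsmul_eq_mul, Finset.sum_ite_eq' Finset.univ (0 : F), if_pos (Finset.mem_univ _)]
  ring

end

end Cfsg.Agent.H120.Hx
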