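import Cfsg.Agent.H120.ChevSys
import Cfsg.Agent.H120.LevMath
import Cfsg.Agent.H120.Chain
import Cfsg.Agent.TitsThree.KExcRT
import Cfsg.Agent.AGraded.Hom
import Cfsg.Agent.H135.KTwoB

/-!
# `SL 6 F` in the Chevalley groups of type E₆ and E₈

`A5 D l Z r s` : the tables; `exists_hom` : the homomorphism; `ext_rep` : `Ext` for the root operators.
-/

set_option autoImplicit false
set_option linter.unusedSectionVars false

namespace Cfsg.Agent.H120.SLHom

open Matrix Cfsg.Lie Cfsg.Agent.ChevalleyStructure.Elts Cfsg.Agent.ChevalleyStructure.RootVec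
  Cfsg.Agent.ChevalleyStructure.RootVecTab Cfsg.Agent.ChevalleyStructure.CoxeterGeomTypes
  Cfsg.Agent.Nodes.RGDChev Cfsg.Agent.KFacts.En.Roots Cfsg.Agent.TitsThree.KExcBase Cfsg.Agent.TitsThree.KExcRT
  Cfsg.Agent.AGraded Cfsg.Agent.H120.ChevSys Cfsg.Agent.H120.LevTab Cfsg.Agent.H120.LevMath
open scoped commutatorElement

universe u

/-- A homomorphism from `SL n F` from the Steinberg relations (`F` finite). -/
theorem exists_hom {F : Type u} [Field F] [Finite F] {G : Type*} [Group G] {m : ℕ} (hm : 2 ≤ m)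
    {x : Fin (m + 1) → Fin (m + 1) → F → G} (h : SteinRel x) :
    ∃ π : SpecialLinearGroup (Fin (m + 1)) F →* G,
      (∀ i j (hij : i ≠ j) a, π (SpecialLinearGroup.transvection hij a) = x i j a) ∧
      π.range = Subgroup.closure (gens x) ∧
      ((∃ i j, i ≠ j ∧ ∃ a, x i j a ≠ 1) → π.ker ≤ Subgroup.center (SpecialLinearGroup (Fin (m + 1)) F)) :=
  exists_hom_core h (by rw [Fintype.card_fin]; omega)
    fun _ _ hy hygen _ _ hφ _ _ => Cfsg.Agent.H135.KTwo.ker_eq_bot_fin hy hm hygen hφ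

/-- the tables of an `A₅` subsystem -/
structure A5 (D : ChevalleyDatum) (l : ℕ) (Z : List ℕ) (r : Fin 6 → Fin 6 → ℕ) (s : Fin 6 → Fin 6 → ℤ) : Prop where
  a : RTa D r
  b : RTb D r s
  c : RTc D r
  d : RTd s
  mem : ∀ i j, i ≠ j → sel D Z (r i j) = true
  all : allLT (fun t => !(sel D Z t) || (List.finRange 6).any fun i => (List.finRange 6).any fun j =>
    decide (i ≠ j) && Nat.beq t (r i j)) D.nroots = true
  lt : ∀ j ∈ Z, j < l

/-- root table for E₆ -/
def rE6 : Fin 6 → Fin 6 → ℕ := ![![0, 56, 57, 58, 59, 60], ![15, 0, 42, 43, 44, 45], ![14, 29, 0, 39, 40, 41], ![13, 28, 32, 0, 37, 38], ![12, 27, 31, 34, 0, 36], ![11, 26, 30, 33, 35, 0]]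
/-- sign table for E₆ -/
def sE6 : Fin 6 → Fin 6 → ℤ := ![![1, 1, -1, 1, -1, 1], ![1, 1, 1, -1, 1, -1], ![-1, 1, 1, 1, -1, 1], ![1, -1, 1, 1, 1, -1], ![-1, 1, -1, 1, 1, 1], ![1, -1, 1, -1, 1, 1]]
/-- root table for E₈ -/
def rE8 : Fin 6 → Fin 6 → ℕ := ![![0, 162, 163, 164, 165, 166], ![77, 0, 135, 136, 137, 138], ![76, 104, 0, 130, 131, 132], ![75, 103, 109, 0, 126, 127], ![74, 102, 108, 113, 0, 123], ![73, 101, 107, 112, 116, 0]]
/-- sign table for E₈ -/
def sE8 : Fin 6 → Fin 6 → ℤ := ![![1, 1, -1, 1, -1, 1], ![1, 1, 1, -1, 1, -1], ![-1, 1, 1, 1, -1, 1], ![1, -1, 1, 1, 1, -1], ![-1, 1, -1, 1, 1, 1], ![1, -1, 1, -1, 1, 1]]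

theorem a5_E6 : A5 chevE6 6 [1] rE6 sE6 :=
  ⟨by decide +kernel, by decide +kernel, by decide +kernel, by decide +kernel, by decide +kernel, by decide +kernel,
    by decide⟩

theorem a5_E8 : A5 chevE8 8 [1, 6, 7] rE8 sE8 :=
  ⟨by decide +kernel, by decide +kernel, by decide +kernel, by decide +kernel, by decide +kernel, by decide +kernel,
    by decide⟩

variable {D : ChevalleyDatum} {l : ℕ} {M : CoxeterMatrix (Fin l)} (hp : Ty D l M) {F : Type u} [Field F] [Finite F]
  {Z : List ℕ} {r : Fin 6 → Fin 6 → ℕ} {s : Fin 6 → Fin 6 → ℤ} (T : A5 D l Z r s)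

include T

/-- the homomorphism to the Chevalley group -/
theorem exists_hom_group : ∃ π : SpecialLinearGroup (Fin 6) F →* ↥(D.group F),
    (∀ i j (hij : i ≠ j) a, π (SpecialLinearGroup.transvection hij a) = XX hp (vec D l (r i j)) ((s i j : F) * a)) ∧
    π.ker ≤ Subgroup.center (SpecialLinearGroup (Fin 6) F) := by
  classical
  have hS := stein (F := F) hp.ty.inList T.a T.b T.c T.d
  obtain ⟨π, hπ, _, hker⟩ := exists_hom (m := 5) (by norm_num) hS
  have hmem : ∀ g, π g ∈ D.group F := by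
    intro g
    refine Cfsg.Agent.LieClassical.SLGen.transvection_induction (fun g => π g ∈ D.group F) ?_ ?_ g
    · intro i j hij c
      rw [hπ i j hij]
      exact xG_mem_group hp.ty.inList _ _
    · intro A B hA hB
      rw [map_mul]
      exact mul_mem hA hB
  refine ⟨π.codRestrict (D.group F) hmem, fun i j hij a => ?_, ?_⟩
  · apply Subtype.ext
    show π _ = XG hp (vec D l (r i j)) ((s i j : F) * a)
    rw [hπ i j hij, XG_vec hp (T.a i j hij)]
    rfl
  · intro g hg
    have h01 : (0 : Fin 6) ≠ 1 := by decide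
    refine hker ⟨0, 1, h01, ((s 0 1 : ℤ) : F), ?_⟩ ?_
    · intro h
      have h1 := (xG_eq_one_iff hp.ty.inList (T.a 0 1 h01) _).1 h
      rw [← Int.cast_mul, T.d, Int.cast_one] at h1
      exact one_ne_zero h1
    · exact congrArg Subtype.val hg

/-- `Ext` for the root operators of a representation -/
theorem ext_rep {V : Type*} [AddCommGroup V] [Module ℂ V] (ρ : Representation ℂ ↥(D.group F) V) :
    Ext (fun v (a : F) => ρ (XX hp v a)) (PhiZ D l Z) := by
  obtain ⟨π, hπ, _⟩ := exists_hom_group hp (F := F) T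
  have hs : ∀ i j, ((s i j : ℤ) : F) * (s i j : F) = 1 := by
    intro i j
    rw [← Int.cast_mul, T.d, Int.cast_one]
  refine ⟨ρ.comp π, ?_, ?_⟩
  · intro v hv a
    obtain ⟨t, ht, rfl⟩ := exists_idx hv
    have h1 := T.all
    rw [allLT_iff] at h1
    have h2 := h1 t ht
    rw [(sel_iff hp T.lt ht).2 hv] at h2
    simp only [Bool.not_true, Bool.false_or, List.any_eq_true, List.mem_finRange, true_and, Bool.and_eq_true,
      decide_eq_true_eq, beq_iff] at h2
    obtain ⟨i, j, hij, rfl⟩ := h2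
    refine ⟨SpecialLinearGroup.transvection hij ((s i j : F) * a), ?_⟩
    show ρ (XX hp (vec D l (r i j)) a) = ρ (π _)
    rw [hπ i j hij, ← mul_assoc, hs, one_mul]
  · intro i j hij a
    refine ⟨vec D l (r i j), (sel_iff hp T.lt (T.a i j hij)).1 (T.mem i j hij), (s i j : F) * a, ?_⟩
    show ρ (π _) = _
    rw [hπ i j hij]

end Cfsg.Agent.H120.SLHom
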