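import Cfsg.Agent.H120.GOtherD
import Cfsg.Agent.H120.GArith
import Cfsg.Agent.H120.GThreeF
import Cfsg.Agent.H120.SLHom
import Cfsg.Agent.H118.SLFinal
import Cfsg.Agent.H953.Index

/-!
# `G₂(q)`, `q` prime to three: the minimal degree
-/

set_option autoImplicit false
set_option linter.unusedSectionVars false

namespace Cfsg.Agent.H120.Hx

open Module

variable {F : Type*} [Field F] [Fintype F] {G : Type*} [Group G] {V : Type*} [AddCommGroup V] [Module ℂ V]
  [FiniteDimensional ℂ V] {X : ZMod 12 → F → G} {ρ : Representation ℂ G V} {ψ : AddChar F ℂ}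

/-- the trace of a root element on an invariant subspace -/
theorem trace_X_sub (H : Hexa X) (hψ : ψ ≠ 0) (k : ZMod 12) {W : Submodule ℂ V} (hW : Iv X ρ W k) {w : ℕ}
    (hw : ∀ z : F, z ≠ 0 → finrank ℂ (W ⊓ Wk X ρ ψ k z : Submodule ℂ V) = w) :
    LinearMap.trace ℂ W ((ρ (X k 1)).restrict (hW 1)) = (finrank ℂ W : ℂ) - ((Fintype.card F * w : ℕ) : ℂ) := by
  classical
  let T : AddAct F W :=
    { toFun := fun a => (ρ (X k a)).restrict (hW a)
      map_zero' := by
        ext v
        show (ρ (X k 0)) v = v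
        rw [H.zero, map_one, Module.End.one_apply]
      map_add' := by
        intro a b
        ext v
        show (ρ (X k (a + b))) v = ρ (X k a) (ρ (X k b) v)
        rw [H.add, rho_mul] }
  have hb : Function.Bijective (fun d : F => AddChar.mulShift ψ d) := by
    rw [Fintype.bijective_iff_injective_and_card]
    exact ⟨fun a b h => AddChar.to_mulShift_inj_of_isPrimitive (AddChar.IsPrimitive.of_ne_one hψ) h,
      AddChar.card_eq.symm⟩
  have h1 : LinearMap.trace ℂ W ((ρ (X k 1)).restrict (hW 1)) = ∑ φ : AddChar F ℂ, φ 1 * finrank ℂ (T.wt φ) :=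
    T.trace_eq 1
  rw [← (Equiv.ofBijective _ hb).sum_comp] at h1
  have hwt : ∀ y : F, finrank ℂ (T.wt (AddChar.mulShift ψ y)) = finrank ℂ (W ⊓ Wk X ρ ψ k y : Submodule ℂ V) := by
    intro y
    have h1 : T.wt (AddChar.mulShift ψ y) = (Wk X ρ ψ k y).comap W.subtype := by
      ext v
      constructor
      · intro h a
        exact congrArg Subtype.val (h a)
      · intro h a
        exact Subtype.ext (h a)
    rw [h1]
    have h2 : finrank ℂ ((Wk X ρ ψ k y).comap W.subtype) =
        finrank ℂ (((Wk X ρ ψ k y).comap W.subtype).map W.subtype) :=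
      (LinearEquiv.finrank_eq (Submodule.equivMapOfInjective W.subtype W.injective_subtype _))
    rw [h2, Submodule.map_comap_subtype]
  have h2 : ∀ y : F, ((Equiv.ofBijective _ hb) y : AddChar F ℂ) (1 : F) *
      (finrank ℂ (T.wt ((Equiv.ofBijective _ hb) y)) : ℂ) =
      ψ y * (w : ℂ) + (if y = 0 then ((finrank ℂ (W ⊓ Wk X ρ ψ k 0 : Submodule ℂ V) : ℂ) - w) else 0) := by
    intro y
    show (AddChar.mulShift ψ y) 1 * (finrank ℂ (T.wt (AddChar.mulShift ψ y)) : ℂ) = _
    rw [hwt, AddChar.mulShift_apply, mul_one]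
    by_cases hy : y = 0
    · subst hy
      rw [if_pos rfl, AddChar.map_zero_eq_one]
      ring
    · rw [if_neg hy, hw y hy, add_zero]
  have h3 : (finrank ℂ W : ℂ) = ∑ y : F, ((w : ℂ) +
      (if y = 0 then ((finrank ℂ (W ⊓ Wk X ρ ψ k 0 : Submodule ℂ V) : ℂ) - w) else 0)) := by
    rw [split H hψ hW]
    push_cast
    refine Finset.sum_congr rfl fun y _ => ?_
    by_cases hy : y = 0
    · subst hy
      rw [if_pos rfl]
      ring
    · rw [if_neg hy, hw y hy, add_zero]
  have h4 : ∑ y : F, ψ y = 0 := by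
    rw [AddChar.sum_eq_zero_iff_ne_zero]
    exact hψ
  rw [h1, h3, Finset.sum_congr rfl (fun y _ => h2 y), Finset.sum_add_distrib, ← Finset.sum_mul, h4, zero_mul, zero_add,
    Finset.sum_add_distrib, Finset.sum_const, Finset.card_univ, nsmul_eq_mul]
  push_cast
  ring

end Cfsg.Agent.H120.Hx

namespace Cfsg.Agent.H120.GTwo

open Module Matrix Cfsg.Lie Cfsg.Agent.H120 Cfsg.Agent.H120.Hx Cfsg.Agent.AGraded Cfsg.Agent.TitsThree.KExcRT
open Cfsg.Agent.H118.SLInt Cfsg.Agent.H118.SLWt Cfsg.Agent.H118.SLTrans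

/-- the table of the long roots -/
def rL : Fin 3 → Fin 3 → ℕ := ![![0, 6, 11], ![5, 0, 10], ![0, 1, 0]]
/-- the table of the long roots, cyclic numbering -/
def kL : Fin 3 → Fin 3 → ZMod 12 := ![![0, 5, 3], ![11, 0, 1], ![9, 7, 0]]

theorem tab_kL : ∀ i j : Fin 3, i ≠ j → tab (kL i j) = rL i j ∧ (kL i j).val % 2 = 1 := by decide

theorem exists_kL : ∀ k : ZMod 12, k.val % 2 = 1 → ∃ i j : Fin 3, i ≠ j ∧ kL i j = k := by decide

universe u

section hom

variable (F : Type u) [Field F] [Fintype F]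

/-- **the homomorphism from `SL 3`** -/
theorem exists_pi : ∃ π : SpecialLinearGroup (Fin 3) F →* ↥(chevG2.group F),
    (∀ i j (hij : i ≠ j) a, π (SpecialLinearGroup.transvection hij a) = XX (kL i j) a) ∧
    π.range = Kc XX ∧ π.ker ≤ Subgroup.center (SpecialLinearGroup (Fin 3) F) := by
  classical
  have hL : Cfsg.Agent.ChevalleyStructure.Elts.InList chevG2 := by simp
  have hS := stein (F := F) hL (r := rL) (s := fun _ _ => 1) (by decide +kernel) (by decide +kernel) (by decide +kernel)
    (by decide +kernel)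
  obtain ⟨π, hπ, _, hker⟩ := SLHom.exists_hom (m := 2) (by norm_num) hS
  have hx : ∀ i j (hij : i ≠ j) (a : F), xr hL rL (fun _ _ => 1) i j a = ((XX (kL i j) a : ↥(chevG2.group F)) : GL chevG2.Idx F) := by
    intro i j hij a
    apply Units.ext
    show chevG2.x F (rL i j) (((1 : ℤ) : F) * a) = chevG2.x F (tab (kL i j)) a
    rw [(tab_kL i j hij).1, Int.cast_one, one_mul]
  have hmem : ∀ g, π g ∈ chevG2.group F := by
    intro g
    refine Cfsg.Agent.LieClassical.SLGen.transvection_induction (fun g => π g ∈ chevG2.group F) ?_ ?_ g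
    · intro i j hij c
      rw [hπ i j hij, hx i j hij]
      exact (XX (kL i j) c).2
    · intro A B hA hB
      rw [map_mul]
      exact mul_mem hA hB
  have hπ' : ∀ i j (hij : i ≠ j) a, (π.codRestrict (chevG2.group F) hmem) (SpecialLinearGroup.transvection hij a) =
      XX (kL i j) a := by
    intro i j hij a
    apply Subtype.ext
    show π _ = _
    rw [hπ i j hij, hx i j hij]
  refine ⟨π.codRestrict (chevG2.group F) hmem, hπ', ?_, ?_⟩
  · apply le_antisymm
    · rintro _ ⟨g, rfl⟩
      refine Cfsg.Agent.LieClassical.SLGen.transvection_induction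
        (fun g => (π.codRestrict (chevG2.group F) hmem) g ∈ Kc XX) ?_ ?_ g
      · intro i j hij c
        rw [hπ' i j hij]
        exact mem_Kc (tab_kL i j hij).2 c
      · intro A B hA hB
        rw [map_mul]
        exact mul_mem hA hB
    · rw [Kc, Subgroup.closure_le]
      rintro _ ⟨k, hk, a, rfl⟩
      obtain ⟨i, j, hij, rfl⟩ := exists_kL k hk
      exact ⟨SpecialLinearGroup.transvection hij a, hπ' i j hij a⟩
  · intro g hg
    have h01 : (0 : Fin 3) ≠ 1 := by decide
    refine hker ⟨0, 1, h01, 1, ?_⟩ ?_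
    · rw [hx 0 1 h01]
      intro h
      exact one_ne_zero (XX_inj _ (1 : F) (Subtype.ext h))
    · exact congrArg Subtype.val hg

/-- the order of `SL 3` -/
theorem card_SL3 : Nat.card (SpecialLinearGroup (Fin 3) F) =
    Fintype.card F ^ 3 * ((Fintype.card F ^ 2 - 1) * (Fintype.card F ^ 3 - 1)) := by
  rw [Cfsg.Agent.H953.card_SL 3 (by norm_num)]
  simp [Finset.sum_range_succ, Finset.prod_Icc_succ_top]

/-- the order of the centre of `SL 3` -/
theorem card_center3 (K : Subgroup (SpecialLinearGroup (Fin 3) F))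
    (hK : K ≤ Subgroup.center (SpecialLinearGroup (Fin 3) F)) : Nat.card K ∣ 3 := by
  classical
  have h1 := Subgroup.card_dvd_of_le hK
  have e := Matrix.SpecialLinearGroup.center_equiv_rootsOfUnity (n := Fin 3) (R := F)
  have h2 : Nat.card (Subgroup.center (SpecialLinearGroup (Fin 3) F)) = Nat.card (rootsOfUnity 3 F) := by
    have h3 := Nat.card_congr e.toEquiv
    have h4 : max (Fintype.card (Fin 3)) 1 = 3 := by simp
    rw [h4] at h3
    exact h3
  rw [h2] at h1
  refine h1.trans ?_
  have : IsCyclic (rootsOfUnity 3 F) := inferInstance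
  rw [← IsCyclic.exponent_eq_card]
  refine Monoid.exponent_dvd_of_forall_pow_eq_one fun g => ?_
  apply Subtype.ext
  exact g.2

theorem card_Kc : Nat.card (SpecialLinearGroup (Fin 3) F) ∣ 3 * Nat.card (Kc (XX : ZMod 12 → F → ↥(chevG2.group F))) := by
  obtain ⟨π, _, hr, hk⟩ := exists_pi F
  have h1 : Nat.card (SpecialLinearGroup (Fin 3) F) = Nat.card π.ker * Nat.card π.range := by
    rw [← Subgroup.card_mul_index π.ker, Subgroup.index_ker]
  rw [h1, hr]
  exact Nat.mul_dvd_mul_right (card_center3 F π.ker hk) _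

end hom

end Cfsg.Agent.H120.GTwo
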