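import Cfsg.Agent.H120.GDefs

/-!
# Representations of `G₂(q)`, `q` a power of three: weights for consecutive root groups
-/

set_option autoImplicit false
set_option linter.unusedSectionVars false

namespace Cfsg.Agent.H120.Hx

open Module

variable {F : Type*} [Field F] [Fintype F] {G : Type*} [Group G] {V : Type*} [AddCommGroup V] [Module ℂ V]
  [FiniteDimensional ℂ V] {X : ZMod 12 → F → G} {ρ : Representation ℂ G V} {ψ : AddChar F ℂ}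

theorem iv3 (H : Hexa3 X) {i j : ZMod 12} (h : cmm3 i j = true) (y : F) : Iv X ρ (Wk X ρ ψ i y) j :=
  iv_of_comm (H.comm3 i j h) y

theorem rel3 (H : Hexa3 X) (i m j : ZMod 12) (h1 : i + 2 = m) (h2 : i + 4 = j) : Rel X i m j := by
  subst h1
  subst h2
  exact H.rel43 i

variable (X ρ ψ)

def P2 (k : ZMod 12) (a b : F) : Submodule ℂ V := Wk X ρ ψ k a ⊓ Wk X ρ ψ (k + 1) b
def P3 (k : ZMod 12) (a b c : F) : Submodule ℂ V := Wk X ρ ψ k a ⊓ Wk X ρ ψ (k + 1) b ⊓ Wk X ρ ψ (k + 2) c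
def P4 (k : ZMod 12) (a b c d : F) : Submodule ℂ V :=
  Wk X ρ ψ k a ⊓ Wk X ρ ψ (k + 1) b ⊓ Wk X ρ ψ (k + 2) c ⊓ Wk X ρ ψ (k + 3) d

variable {X ρ ψ}

section

variable (H : Hexa3 X) (hψ : ψ ≠ 0)

include H

theorem iv_P2 {k j : ZMod 12} (h0 : cmm3 k j = true) (h1 : cmm3 (k + 1) j = true) (a b : F) :
    Iv X ρ (P2 X ρ ψ k a b) j := (iv3 H h0 a).inf (iv3 H h1 b)

theorem iv_P3 {k j : ZMod 12} (h0 : cmm3 k j = true) (h1 : cmm3 (k + 1) j = true) (h2 : cmm3 (k + 2) j = true)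
    (a b c : F) : Iv X ρ (P3 X ρ ψ k a b c) j := ((iv3 H h0 a).inf (iv3 H h1 b)).inf (iv3 H h2 c)

include hψ

theorem P2_eq (k : ZMod 12) {a : F} (ha : a ≠ 0) (b c : F) :
    finrank ℂ (P2 X ρ ψ k a b) = Fintype.card F * finrank ℂ (P3 X ρ ψ k a b c) :=
  unifJ H.toHexa hψ (rel3 H (k - 2) k (k + 2) (by ring) (by ring)) ha inf_le_left
    (iv_P2 H ((by decide : ∀ k : ZMod 12, cmm3 k (k - 2) = true) k)
      ((by decide : ∀ k : ZMod 12, cmm3 (k + 1) (k - 2) = true) k) a b)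
    (iv_P2 H ((by decide : ∀ k : ZMod 12, cmm3 k (k + 2) = true) k)
      ((by decide : ∀ k : ZMod 12, cmm3 (k + 1) (k + 2) = true) k) a b) c

theorem P2_eq' (k : ZMod 12) (a b : F) {c : F} (hc : c ≠ 0) :
    finrank ℂ (P2 X ρ ψ (k + 1) b c) = Fintype.card F * finrank ℂ (P3 X ρ ψ k a b c) := by
  have h := unifI H.toHexa hψ (rel3 H k (k + 2) (k + 4) rfl rfl) hc (U := P2 X ρ ψ (k + 1) b c)
    (by rw [P2, show k + 1 + 1 = k + 2 by ring]; exact inf_le_right)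
    (iv_P2 H ((by decide : ∀ k : ZMod 12, cmm3 (k + 1) k = true) k)
      ((by decide : ∀ k : ZMod 12, cmm3 (k + 1 + 1) k = true) k) b c)
    (iv_P2 H ((by decide : ∀ k : ZMod 12, cmm3 (k + 1) (k + 4) = true) k)
      ((by decide : ∀ k : ZMod 12, cmm3 (k + 1 + 1) (k + 4) = true) k) b c) a
  rw [h, P2, P3, show k + 1 + 1 = k + 2 by ring, inf_comm, inf_assoc]

theorem P3_eq (k : ZMod 12) (a : F) {b : F} (hb : b ≠ 0) (c d : F) :
    finrank ℂ (P3 X ρ ψ k a b c) = Fintype.card F * finrank ℂ (P4 X ρ ψ k a b c d) :=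
  unifJ H.toHexa hψ (rel3 H (k - 1) (k + 1) (k + 3) (by ring) (by ring)) hb (inf_le_left.trans inf_le_right)
    (iv_P3 H ((by decide : ∀ k : ZMod 12, cmm3 k (k - 1) = true) k)
      ((by decide : ∀ k : ZMod 12, cmm3 (k + 1) (k - 1) = true) k)
      ((by decide : ∀ k : ZMod 12, cmm3 (k + 2) (k - 1) = true) k) a b c)
    (iv_P3 H ((by decide : ∀ k : ZMod 12, cmm3 k (k + 3) = true) k)
      ((by decide : ∀ k : ZMod 12, cmm3 (k + 1) (k + 3) = true) k)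
      ((by decide : ∀ k : ZMod 12, cmm3 (k + 2) (k + 3) = true) k) a b c) d

theorem P3_eq' (k : ZMod 12) (a b : F) {c : F} (hc : c ≠ 0) (d : F) :
    finrank ℂ (P3 X ρ ψ (k + 1) b c d) = Fintype.card F * finrank ℂ (P4 X ρ ψ k a b c d) := by
  have h := unifI H.toHexa hψ (rel3 H k (k + 2) (k + 4) rfl rfl) hc (U := P3 X ρ ψ (k + 1) b c d)
    (by rw [P3, show k + 1 + 1 = k + 2 by ring]; exact inf_le_left.trans inf_le_right)
    (iv_P3 H ((by decide : ∀ k : ZMod 12, cmm3 (k + 1) k = true) k)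
      ((by decide : ∀ k : ZMod 12, cmm3 (k + 1 + 1) k = true) k)
      ((by decide : ∀ k : ZMod 12, cmm3 (k + 1 + 2) k = true) k) b c d)
    (iv_P3 H ((by decide : ∀ k : ZMod 12, cmm3 (k + 1) (k + 4) = true) k)
      ((by decide : ∀ k : ZMod 12, cmm3 (k + 1 + 1) (k + 4) = true) k)
      ((by decide : ∀ k : ZMod 12, cmm3 (k + 1 + 2) (k + 4) = true) k) b c d) a
  have e : (P3 X ρ ψ (k + 1) b c d ⊓ Wk X ρ ψ k a : Submodule ℂ V) = P4 X ρ ψ k a b c d := by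
    rw [P3, P4, show k + 1 + 1 = k + 2 by ring, show k + 1 + 2 = k + 3 by ring, inf_comm]
    simp only [inf_assoc]
  rw [h, e]

/-- adjacent nonzero weights -/
theorem P2_step (k : ZMod 12) {a b c : F} (ha : a ≠ 0) (hc : c ≠ 0) :
    finrank ℂ (P2 X ρ ψ k a b) = finrank ℂ (P2 X ρ ψ (k + 1) b c) := by
  rw [P2_eq H hψ k ha b c, P2_eq' H hψ k a b hc]

theorem P2_const (k k' : ZMod 12) {a b a' b' : F} (ha : a ≠ 0) (hb : b ≠ 0) (ha' : a' ≠ 0) (hb' : b' ≠ 0) :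
    finrank ℂ (P2 X ρ ψ k a b) = finrank ℂ (P2 X ρ ψ k' a' b') := by
  -- same `k`
  have h1 : ∀ (k : ZMod 12) {a b a' : F}, a ≠ 0 → a' ≠ 0 → finrank ℂ (P2 X ρ ψ k a b) = finrank ℂ (P2 X ρ ψ k a' b) := by
    intro k a b a' ha ha'
    rw [P2_step H hψ k ha (c := 1) one_ne_zero, P2_step H hψ k ha' (c := 1) one_ne_zero]
  have h2 : ∀ (k : ZMod 12) {a b b' : F}, b ≠ 0 → b' ≠ 0 → finrank ℂ (P2 X ρ ψ k a b) = finrank ℂ (P2 X ρ ψ k a b') := by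
    intro k a b b' hb hb'
    have e : k = (k - 1) + 1 := by ring
    rw [e, ← P2_step H hψ (k - 1) (a := 1) one_ne_zero hb, ← P2_step H hψ (k - 1) (a := 1) one_ne_zero hb']
  have h3 : ∀ (k : ZMod 12), finrank ℂ (P2 X ρ ψ k 1 1) = finrank ℂ (P2 X ρ ψ (k + 1) 1 1) := fun k =>
    P2_step H hψ k one_ne_zero one_ne_zero
  have h4 : ∀ n : ℕ, finrank ℂ (P2 X ρ ψ 0 1 1) = finrank ℂ (P2 X ρ ψ (n : ZMod 12) 1 1) := by
    intro n
    induction n with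
    | zero => rw [Nat.cast_zero]
    | succ n ih => rw [ih, h3, Nat.cast_succ]
  have h5 : ∀ k : ZMod 12, finrank ℂ (P2 X ρ ψ k 1 1) = finrank ℂ (P2 X ρ ψ 0 1 1) := by
    intro k
    rw [h4 k.val, ZMod.natCast_zmod_val]
  rw [h1 k ha one_ne_zero, h2 k hb one_ne_zero, h1 k' ha' one_ne_zero, h2 k' hb' one_ne_zero, h5 k, h5 k']

theorem exists_n1 : ∃ n1 : ℕ, ∀ (k : ZMod 12) (a b c d : F),
    ((a ≠ 0 ∧ b ≠ 0) ∨ (b ≠ 0 ∧ c ≠ 0) ∨ (c ≠ 0 ∧ d ≠ 0) → finrank ℂ (P4 X ρ ψ k a b c d) = n1) ∧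
    ((a ≠ 0 ∧ b ≠ 0) ∨ (b ≠ 0 ∧ c ≠ 0) → finrank ℂ (P3 X ρ ψ k a b c) = Fintype.card F * n1) ∧
    (a ≠ 0 ∧ b ≠ 0 → finrank ℂ (P2 X ρ ψ k a b) = Fintype.card F ^ 2 * n1) := by
  have hq : 0 < Fintype.card F := Fintype.card_pos
  refine ⟨finrank ℂ (P4 X ρ ψ 0 1 1 1 1), fun k a b c d => ?_⟩
  set n1 := finrank ℂ (P4 X ρ ψ 0 1 1 1 1) with hn1
  have h0 : finrank ℂ (P2 X ρ ψ 0 1 1) = Fintype.card F * (Fintype.card F * n1) := by
    rw [P2_eq H hψ 0 one_ne_zero 1 1, P3_eq H hψ 0 1 one_ne_zero 1 1]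
  have h2 : ∀ (k : ZMod 12) {a b : F}, a ≠ 0 → b ≠ 0 →
      finrank ℂ (P2 X ρ ψ k a b) = Fintype.card F * (Fintype.card F * n1) := by
    intro k a b ha hb
    rw [← h0]
    exact P2_const H hψ k 0 ha hb one_ne_zero one_ne_zero
  have h3 : ∀ (k : ZMod 12) (a b c : F), (a ≠ 0 ∧ b ≠ 0) ∨ (b ≠ 0 ∧ c ≠ 0) →
      finrank ℂ (P3 X ρ ψ k a b c) = Fintype.card F * n1 := by
    rintro k a b c (⟨h, h'⟩ | ⟨h, h'⟩)
    · have := P2_eq H hψ (ρ := ρ) k h b c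
      rw [h2 k h h'] at this
      exact (Nat.eq_of_mul_eq_mul_left hq this).symm
    · have := P2_eq' H hψ (ρ := ρ) k a b h'
      rw [h2 (k + 1) h h'] at this
      exact (Nat.eq_of_mul_eq_mul_left hq this).symm
  have h4 : ∀ (k : ZMod 12) (a b c d : F), (a ≠ 0 ∧ b ≠ 0) ∨ (b ≠ 0 ∧ c ≠ 0) ∨ (c ≠ 0 ∧ d ≠ 0) →
      finrank ℂ (P4 X ρ ψ k a b c d) = n1 := by
    rintro k a b c d (⟨h, h'⟩ | ⟨h, h'⟩ | ⟨h, h'⟩)
    · have := P3_eq H hψ (ρ := ρ) k a h' c d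
      rw [h3 k a b c (Or.inl ⟨h, h'⟩)] at this
      exact (Nat.eq_of_mul_eq_mul_left hq this).symm
    · have := P3_eq H hψ (ρ := ρ) k a h c d
      rw [h3 k a b c (Or.inr ⟨h, h'⟩)] at this
      exact (Nat.eq_of_mul_eq_mul_left hq this).symm
    · have := P3_eq' H hψ (ρ := ρ) k a b h d
      rw [h3 (k + 1) b c d (Or.inr ⟨h, h'⟩)] at this
      exact (Nat.eq_of_mul_eq_mul_left hq this).symm
  refine ⟨h4 k a b c d, h3 k a b c, fun h => ?_⟩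
  rw [h2 k h.1 h.2, sq, mul_assoc]

/-- the single weights -/
theorem P4_single (k : ZMod 12) {b : F} (hb : b ≠ 0) (c d : F) (hc : c = 0) :
    finrank ℂ (P3 X ρ ψ k 0 b c) = Fintype.card F * finrank ℂ (P4 X ρ ψ k 0 b 0 0) ∧
    finrank ℂ (P4 X ρ ψ k 0 b c d) = finrank ℂ (P4 X ρ ψ k 0 b 0 0) := by
  subst hc
  have hq : 0 < Fintype.card F := Fintype.card_pos
  refine ⟨P3_eq H hψ k 0 hb 0 0, ?_⟩
  have h1 := P3_eq H hψ (ρ := ρ) k 0 hb 0 d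
  rw [P3_eq H hψ k 0 hb 0 0] at h1
  exact (Nat.eq_of_mul_eq_mul_left hq h1).symm

/-- `J_{k+1}(b, 0, d)`, `b, d ≠ 0` -/
theorem P3_pair {n1 : ℕ} (hn : ∀ (k : ZMod 12) (a b c d : F), (a ≠ 0 ∧ b ≠ 0) ∨ (b ≠ 0 ∧ c ≠ 0) ∨ (c ≠ 0 ∧ d ≠ 0) →
    finrank ℂ (P4 X ρ ψ k a b c d) = n1) (k : ZMod 12) {b d : F} (hb : b ≠ 0) (hd : d ≠ 0) :
    finrank ℂ (P3 X ρ ψ (k + 1) b 0 d) = (Fintype.card F - 1) * n1 + finrank ℂ (P4 X ρ ψ k 0 b 0 0) ∧
    finrank ℂ (P3 X ρ ψ (k + 1) b 0 d) = (Fintype.card F - 1) * n1 + finrank ℂ (P4 X ρ ψ (k + 2) 0 d 0 0) := by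
  classical
  have hq : 0 < Fintype.card F := Fintype.card_pos
  have hsum : ∀ (f : F → ℕ) (m : ℕ), (∀ a, a ≠ 0 → f a = n1) → f 0 = m →
      ∑ a, f a = (Fintype.card F - 1) * n1 + m := by
    intro f m h1 h2
    rw [← Finset.sum_erase_add _ _ (Finset.mem_univ (0 : F)), h2,
      Finset.sum_congr rfl (fun a ha => h1 a (Finset.ne_of_mem_erase ha)), Finset.sum_const,
      Finset.card_erase_of_mem (Finset.mem_univ _), Finset.card_univ, smul_eq_mul]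
  constructor
  · rw [split H.toHexa hψ (k := k) (iv_P3 H ((by decide : ∀ k : ZMod 12, cmm3 (k + 1) k = true) k)
      ((by decide : ∀ k : ZMod 12, cmm3 (k + 1 + 1) k = true) k)
      ((by decide : ∀ k : ZMod 12, cmm3 (k + 1 + 2) k = true) k) b 0 d)]
    have e : ∀ a : F, (P3 X ρ ψ (k + 1) b 0 d ⊓ Wk X ρ ψ k a : Submodule ℂ V) = P4 X ρ ψ k a b 0 d := by
      intro a
      rw [P3, P4, show k + 1 + 1 = k + 2 by ring, show k + 1 + 2 = k + 3 by ring, inf_comm]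
      simp only [inf_assoc]
    refine hsum _ _ (fun a ha => ?_) ?_
    · rw [e]
      exact hn k a b 0 d (Or.inl ⟨ha, hb⟩)
    · rw [e]
      exact (P4_single H hψ k hb 0 d rfl).2
  · rw [split H.toHexa hψ (k := k + 4) (iv_P3 H ((by decide : ∀ k : ZMod 12, cmm3 (k + 1) (k + 4) = true) k)
      ((by decide : ∀ k : ZMod 12, cmm3 (k + 1 + 1) (k + 4) = true) k)
      ((by decide : ∀ k : ZMod 12, cmm3 (k + 1 + 2) (k + 4) = true) k) b 0 d)]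
    have e : ∀ a : F, (P3 X ρ ψ (k + 1) b 0 d ⊓ Wk X ρ ψ (k + 4) a : Submodule ℂ V) = P4 X ρ ψ (k + 1) b 0 d a := by
      intro a
      rw [P3, P4, show k + 1 + 3 = k + 4 by ring]
    refine hsum _ _ (fun a ha => by rw [e]; exact hn (k + 1) b 0 d a (Or.inr (Or.inr ⟨hd, ha⟩))) ?_
    rw [e]
    have h1 := P3_eq' H hψ (ρ := ρ) (k + 1) b 0 hd 0
    rw [show k + 1 + 1 = k + 2 by ring, (P4_single H hψ (k + 2) hd 0 0 rfl).1] at h1
    exact (Nat.eq_of_mul_eq_mul_left hq h1).symm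

/-- the numbers `n0` (single weight in the middle) depend on the parity only -/
theorem single_step {n1 : ℕ} (hn : ∀ (k : ZMod 12) (a b c d : F), (a ≠ 0 ∧ b ≠ 0) ∨ (b ≠ 0 ∧ c ≠ 0) ∨ (c ≠ 0 ∧ d ≠ 0) →
    finrank ℂ (P4 X ρ ψ k a b c d) = n1) (k : ZMod 12) {b d : F} (hb : b ≠ 0) (hd : d ≠ 0) :
    finrank ℂ (P4 X ρ ψ k 0 b 0 0) = finrank ℂ (P4 X ρ ψ (k + 2) 0 d 0 0) := by
  have h := P3_pair H hψ (ρ := ρ) hn k hb hd
  rw [h.1] at h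
  omega

end

end Cfsg.Agent.H120.Hx
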