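import Cfsg.Agent.H120.GThreeB

/-!
# Representations of `G₂(q)`, `q` a power of three: positivity of the multiplicities
-/

set_option autoImplicit false
set_option linter.unusedSectionVars false

namespace Cfsg.Agent.H120.Hx

open Module

variable {F : Type*} [Field F] [Fintype F] {G : Type*} [Group G] {V : Type*} [AddCommGroup V] [Module ℂ V]
  [FiniteDimensional ℂ V] {X : ZMod 12 → F → G} {ρ : Representation ℂ G V} {ψ : AddChar F ℂ}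

theorem rho4 (g g1 g2 g3 g4 : G) {v : V} {c1 c2 c3 c4 : ℂ} (h1 : ρ g1 v = c1 • v) (h2 : ρ g2 v = c2 • v)
    (h3 : ρ g3 v = c3 • v) (h4 : ρ g4 v = c4 • v) :
    ρ (g * (g1 * g2 * g3 * g4)) v = (c1 * c2 * c3 * c4) • ρ g v := by
  simp only [rho_mul, h1, h2, h3, h4, map_smul, smul_smul]
  congr 1
  ring

/-- weights do not move if `X m` acts trivially -/
theorem Rel.zeroJ {i m j : ZMod 12} (h : Rel X i m j) {y : F} {v : V} (hz : v ∈ Wk X ρ ψ m 0)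
    (hy : v ∈ Wk X ρ ψ j y) (c : F) : ρ (X i c) v ∈ Wk X ρ ψ j y := by
  obtain ⟨e, -, h⟩ := h.moveJ (ρ := ρ) (ψ := ψ)
  have := h 0 y v hz hy c
  rwa [mul_zero, zero_mul, add_zero] at this

theorem Rel.zeroI (H : Hexa X) {i m j : ZMod 12} (h : Rel X i m j) {y : F} {v : V} (hz : v ∈ Wk X ρ ψ m 0)
    (hy : v ∈ Wk X ρ ψ i y) (c : F) : ρ (X j c) v ∈ Wk X ρ ψ i y := by
  obtain ⟨e, -, h⟩ := h.moveI H.zero H.add (ρ := ρ) (ψ := ψ)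
  have := h 0 y v hz hy c
  rwa [mul_zero, zero_mul, add_zero] at this

omit [Fintype F] [FiniteDimensional ℂ V] in
theorem psi_one (hψ : ψ ≠ 0) (hc : ∀ a : F, ∃ t, t ^ 3 = a) {s : F} (h : ∀ t : F, ψ (-(t ^ 3 * s)) = 1) : s = 0 := by
  by_contra hs
  apply hψ
  ext a
  obtain ⟨t, ht⟩ := hc (-(a * s⁻¹))
  have := h t
  rw [ht, neg_mul, neg_neg, mul_assoc, inv_mul_cancel₀ hs, mul_one] at this
  rw [this, AddChar.zero_apply]

/-- an invariant line is a weight space -/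
theorem line_wt (H : Hexa X) (hψ : ψ ≠ 0) {k : ZMod 12} {U : Submodule ℂ V} (hU : Iv X ρ U k)
    (h1 : finrank ℂ U = 1) : ∃ τ : F, U ≤ Wk X ρ ψ k τ := by
  have h2 := split H hψ hU
  rw [h1] at h2
  obtain ⟨τ, -, hτ⟩ : ∃ τ ∈ (Finset.univ : Finset F), finrank ℂ (U ⊓ Wk X ρ ψ k τ : Submodule ℂ V) ≠ 0 := by
    apply Finset.exists_ne_zero_of_sum_ne_zero
    rw [← h2]
    exact one_ne_zero
  refine ⟨τ, ?_⟩
  have h3 : (U ⊓ Wk X ρ ψ k τ : Submodule ℂ V) = U := by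
    apply Submodule.eq_of_le_of_finrank_le inf_le_left
    omega
  rw [← h3]
  exact inf_le_right

/-- the algebra behind `n0 ≥ 1` -/
theorem alg (hq : 3 < Fintype.card F) (h3 : (3 : F) = 0) {τ : F} (h1 : ∀ c : F, 1 - τ * c ^ 3 + c ≠ 0)
    (h2 : ∀ c : F, ((1 - τ * c ^ 3 + c) ^ 2)⁻¹ * τ = τ) : False := by
  classical
  have e1 : τ ≠ 0 := by
    have := h1 (-1)
    intro h
    apply this
    rw [h]
    ring
  have h4 : ∀ c : F, (1 - τ * c ^ 3 + c) ^ 2 = 1 := by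
    intro c
    have h5 := h2 c
    have h6 : (1 - τ * c ^ 3 + c) ^ 2 ≠ 0 := pow_ne_zero 2 (h1 c)
    have h7 : (1 - τ * c ^ 3 + c) ^ 2 * τ = τ := by
      calc (1 - τ * c ^ 3 + c) ^ 2 * τ = (1 - τ * c ^ 3 + c) ^ 2 * (((1 - τ * c ^ 3 + c) ^ 2)⁻¹ * τ) := by rw [h5]
        _ = τ := by rw [← mul_assoc, mul_inv_cancel₀ h6, one_mul]
    exact mul_right_cancel₀ e1 (by rw [h7, one_mul])
  -- `(c - τ c³) (2 + c - τ c³) = 0`
  have h5 : ∀ c : F, c - τ * c ^ 3 = 0 ∨ c - τ * c ^ 3 = 1 := by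
    intro c
    have h6 : (c - τ * c ^ 3) * (c - τ * c ^ 3 - 1) = 0 := by
      have := h4 c
      linear_combination this - (c - τ * c ^ 3) * h3
    rcases mul_eq_zero.1 h6 with h | h
    · exact Or.inl h
    · exact Or.inr (sub_eq_zero.1 h)
  have h6 : ∀ c : F, c - τ * c ^ 3 = 0 := by
    intro c
    rcases h5 c with h | h
    · exact h
    · exfalso
      have h7 := h5 (-c)
      have e : -c - τ * (-c) ^ 3 = -(c - τ * c ^ 3) := by ring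
      rw [e, h] at h7
      rcases h7 with h8 | h8
      · exact one_ne_zero (neg_eq_zero.1 h8)
      · have : (1 : F) = 0 := by linear_combination h3 + h8
        exact one_ne_zero this
  have h7 : τ = 1 := by
    have := h6 1
    linear_combination -this
  subst h7
  obtain ⟨c, hc⟩ : ∃ c : F, c ∉ ({0, 1, -1} : Finset F) := by
    by_contra hc
    push Not at hc
    have h8 : (Finset.univ : Finset F) ⊆ {0, 1, -1} := fun c _ => hc c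
    have h9 := Finset.card_le_card h8
    rw [Finset.card_univ] at h9
    have := Finset.card_le_three (a := (0 : F)) (b := 1) (c := -1)
    omega
  simp only [Finset.mem_insert, Finset.mem_singleton, not_or] at hc
  have h8 : c * ((c - 1) * (c + 1)) = 0 := by
    have := h6 c
    linear_combination -this
  rcases mul_eq_zero.1 h8 with h | h
  · exact hc.1 h
  · rcases mul_eq_zero.1 h with h | h
    · exact hc.2.1 (sub_eq_zero.1 h)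
    · exact hc.2.2 (eq_neg_of_add_eq_zero_left h)

section

variable (H : Hexa3 X) (hψ : ψ ≠ 0)

include H hψ

/-- `n1 ≥ 1` -/
theorem n1_pos (hq : 3 < Fintype.card F) (hc : ∀ a : F, ∃ t, t ^ 3 = a) (h3 : ∃ a, ρ (X 3 a) ≠ 1)
    (h0 : ∀ (k : ZMod 12) (a b : F), a ≠ 0 → b ≠ 0 → P2 X ρ ψ k a b = ⊥) : False := by
  classical
  -- a weight
  obtain ⟨z, hz, hz'⟩ : ∃ z : F, z ≠ 0 ∧ Wk X ρ ψ 3 z ≠ ⊥ := by
    by_contra hcon
    push Not at hcon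
    have h1 : (⊤ : Submodule ℂ V) ≤ Wk X ρ ψ 3 0 :=
      le_zero H.toHexa hψ (fun c v _ => Submodule.mem_top) (fun y hy => by rw [hcon y hy, inf_bot_eq])
    obtain ⟨a, ha⟩ := h3
    apply ha
    ext v
    rw [Module.End.one_apply]
    exact mem_Wk0.1 (h1 Submodule.mem_top) a
  have h32 : Wk X ρ ψ 3 z ≤ Wk X ρ ψ 2 0 :=
    le_zero H.toHexa hψ (iv3 H (by decide) z) fun a ha => by rw [inf_comm]; exact h0 2 a z ha hz
  have h34 : Wk X ρ ψ 3 z ≤ Wk X ρ ψ 4 0 :=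
    le_zero H.toHexa hψ (iv3 H (by decide) z) fun a ha => h0 3 z a hz ha
  have h10 : ∀ y : F, y ≠ 0 → Wk X ρ ψ 1 y ≤ Wk X ρ ψ 0 0 := fun y hy =>
    le_zero H.toHexa hψ (iv3 H (by decide) y) fun a ha => by rw [inf_comm]; exact h0 0 a y ha hy
  have hr : Rel X 1 3 5 := rel3 H 1 3 5 (by decide) (by decide)
  obtain ⟨v, hv, hv0⟩ : ∃ v ∈ (Wk X ρ ψ 3 z ⊓ Wk X ρ ψ 1 1 : Submodule ℂ V), v ≠ 0 := by
    rw [← Submodule.ne_bot_iff]
    intro hb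
    have h1 := unifI H.toHexa hψ hr hz le_rfl (iv3 H (by decide) z) (iv3 H (by decide) z) (ρ := ρ) 1
    rw [hb, finrank_bot, mul_zero] at h1
    exact hz' (Submodule.finrank_eq_zero.1 h1)
  obtain ⟨e, he, hmove⟩ := hr.moveI H.zero H.add (ρ := ρ) (ψ := ψ)
  -- choice of `u`
  obtain ⟨u, hu⟩ : ∃ u : F, u ∉ ({0, -(e * z)⁻¹, -z⁻¹} : Finset F) := by
    by_contra hcon
    push Not at hcon
    have h8 : (Finset.univ : Finset F) ⊆ {0, -(e * z)⁻¹, -z⁻¹} := fun c _ => hcon c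
    have h9 := Finset.card_le_card h8
    rw [Finset.card_univ] at h9
    have := Finset.card_le_three (a := (0 : F)) (b := -(e * z)⁻¹) (c := -z⁻¹)
    omega
  simp only [Finset.mem_insert, Finset.mem_singleton, not_or] at hu
  have hu1 : 1 + e * z * u ≠ 0 := by
    intro h
    apply hu.2.1
    have hez : e * z ≠ 0 := mul_ne_zero he hz
    field_simp
    linear_combination h
  have hw1 := hmove z 1 v hv.1 hv.2 u
  have hw3 : ρ (X 5 u) v ∈ Wk X ρ ψ 3 z := iv3 H (by decide) z u v hv.1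
  have hw0 := h10 _ hu1 hw1
  have hwne : ρ (X 5 u) v ≠ 0 := by
    intro h
    exact hv0 (rho_injective ρ _ (by rw [h, map_zero]))
  have key : ∀ t : F, ψ (-(t ^ 3 * (u + z * u ^ 2))) = 1 := by
    intro t
    have h1 : ρ (X 5 u * X 0 t) v = _ := congrArg (fun g => ρ g v) (H.r05 t u)
    rw [rho4 _ _ _ _ _ (h34 hv.1 _) (h32 hv.1 _) (hv.2 _) (hv.1 _), rho_mul, mem_Wk0.1 (h10 1 one_ne_zero hv.2) t,
      rho_mul, mem_Wk0.1 hw0, ← AddChar.map_add_eq_mul, ← AddChar.map_add_eq_mul, ← AddChar.map_add_eq_mul] at h1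
    have h2 : (1 : ℂ) • ρ (X 5 u) v = _ := (one_smul _ _).trans h1
    have h3 : (1 : ℂ) = _ := smul_left_injective ℂ hwne h2
    rw [h3]
    congr 1
    ring
  have h1 := psi_one hψ hc key
  have h2 : u * (1 + z * u) = 0 := by linear_combination h1
  rcases mul_eq_zero.1 h2 with h | h
  · exact hu.1 h
  · apply hu.2.2
    field_simp
    linear_combination h

/-- `n0 ≥ 1` (long roots) -/
theorem n0_pos (hq : 3 < Fintype.card F) (hp : (3 : F) = 0) (hfr : ∀ a : F, ψ (a ^ 3) = ψ a)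
    (h1 : ∀ b c d e : F, b ≠ 0 → c ≠ 0 → finrank ℂ (P4 X ρ ψ 0 b c d e) = 1)
    (h0 : P4 X ρ ψ 0 0 1 0 0 = ⊥) : False := by
  have hr : Rel X 0 2 4 := rel3 H 0 2 4 (by decide) (by decide)
  have hr1 : Rel X 1 3 5 := rel3 H 1 3 5 (by decide) (by decide)
  have hL : finrank ℂ (P4 X ρ ψ 0 1 1 0 0) = 1 := h1 1 1 0 0 one_ne_zero one_ne_zero
  obtain ⟨τ, hτ⟩ : ∃ τ : F, P4 X ρ ψ 0 1 1 0 0 ≤ Wk X ρ ψ 4 τ := by
    refine line_wt H.toHexa hψ ?_ hL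
    rintro c v ⟨⟨⟨ha, hb⟩, hc⟩, hd⟩
    exact ⟨⟨⟨hr.zeroI H.toHexa hc ha c, iv3 H (by decide) _ c v hb⟩, iv3 H (by decide) _ c v hc⟩,
      iv3 H (by decide) _ c v hd⟩
  obtain ⟨v, hv, hv0⟩ : ∃ v ∈ P4 X ρ ψ 0 1 1 0 0, v ≠ 0 := by
    rw [← Submodule.ne_bot_iff]
    intro hb
    rw [hb, finrank_bot] at hL
    exact zero_ne_one hL
  have hv4 := hτ hv
  obtain ⟨⟨⟨ha, hb⟩, hc⟩, hd⟩ := hv
  change v ∈ Wk X ρ ψ 1 1 at hb
  change v ∈ Wk X ρ ψ 2 0 at hc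
  change v ∈ Wk X ρ ψ 3 0 at hd
  -- the image under `x_5(c ^ 3)`
  have key : ∀ c : F, ρ (X 5 (c ^ 3)) v ∈ (P4 X ρ ψ 0 (1 - τ * c ^ 3 + c) 1 0 0 ⊓ Wk X ρ ψ 4 τ : Submodule ℂ V) := by
    intro c
    refine ⟨⟨⟨⟨?_, hr1.zeroI H.toHexa hd hb _⟩, iv3 H (by decide) _ _ v hc⟩, iv3 H (by decide) _ _ v hd⟩,
      iv3 H (by decide) _ _ v hv4⟩
    intro t
    have h1 : ρ (X 5 (c ^ 3) * X 0 t) v = _ := congrArg (fun g => ρ g v) (H.r05 t (c ^ 3))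
    rw [rho4 _ _ _ _ _ (hv4 _) (hc _) (hb _) (hd _), rho_mul, ha, map_smul, rho_mul, ← AddChar.map_add_eq_mul,
      ← AddChar.map_add_eq_mul, ← AddChar.map_add_eq_mul] at h1
    set E := τ * (t * c ^ 3) + 0 * (t ^ 2 * c ^ 3) + 1 * -(t ^ 3 * c ^ 3) + 0 * -(t ^ 3 * (c ^ 3) ^ 2) with hE
    have h2 : ρ (X 0 t) (ρ (X 5 (c ^ 3)) v) = (ψ (-E) * ψ (1 * t)) • ρ (X 5 (c ^ 3)) v := by
      rw [mul_smul, h1, smul_smul, ← AddChar.map_add_eq_mul, neg_add_cancel, AddChar.map_zero_eq_one, one_smul]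
    rw [h2]
    have e1 : -E = (t * c) ^ 3 + -(τ * (t * c ^ 3)) := by rw [hE]; ring
    rw [e1, AddChar.map_add_eq_mul, hfr, ← AddChar.map_add_eq_mul, ← AddChar.map_add_eq_mul]
    congr 2
    ring
  have hne : ∀ c : F, ρ (X 5 (c ^ 3)) v ≠ 0 := by
    intro c h
    exact hv0 (rho_injective ρ _ (by rw [h, map_zero]))
  have hA : ∀ c : F, 1 - τ * c ^ 3 + c ≠ 0 := by
    intro c hcon
    have := (key c).1
    rw [hcon, h0] at this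
    exact hne c ((Submodule.mem_bot ℂ).1 this)
  refine alg hq hp hA fun c => ?_
  set η := 1 - τ * c ^ 3 + c with hη
  have hη0 : η ≠ 0 := hA c
  -- the torus
  obtain ⟨h, hh⟩ := tor_map H.toHexa (ρ := ρ) (ψ := ψ) (inv_ne_zero hη0) (pow_ne_zero 3 hη0)
  have e0 : ((η⁻¹) ^ ci 0 * (η ^ 3) ^ cj 0)⁻¹ = η := by
    show ((η⁻¹) ^ (1 : ℤ) * (η ^ 3) ^ (0 : ℤ))⁻¹ = η
    rw [zpow_one, zpow_zero, mul_one, inv_inv]
  have e1 : ((η⁻¹) ^ ci 1 * (η ^ 3) ^ cj 1)⁻¹ = 1 := by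
    show ((η⁻¹) ^ (3 : ℤ) * (η ^ 3) ^ (1 : ℤ))⁻¹ = 1
    rw [zpow_one, zpow_ofNat, inv_pow, inv_mul_cancel₀ (pow_ne_zero 3 hη0), inv_one]
  have e4 : ((η⁻¹) ^ ci 4 * (η ^ 3) ^ cj 4)⁻¹ = (η ^ 2)⁻¹ := by
    show ((η⁻¹) ^ (1 : ℤ) * (η ^ 3) ^ (1 : ℤ))⁻¹ = (η ^ 2)⁻¹
    rw [zpow_one, zpow_one, show η⁻¹ * η ^ 3 = η ^ 2 by field_simp]
  have hmem : ρ h v ∈ (P4 X ρ ψ 0 η 1 0 0 ⊓ Wk X ρ ψ 4 ((η ^ 2)⁻¹ * τ) : Submodule ℂ V) := by
    refine ⟨⟨⟨⟨?_, ?_⟩, ?_⟩, ?_⟩, ?_⟩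
    · have := hh 0 1 v ha
      rwa [e0, mul_one] at this
    · have := hh 1 1 v hb
      rwa [e1, mul_one] at this
    · have := hh 2 0 v hc
      rwa [mul_zero] at this
    · have := hh 3 0 v hd
      rwa [mul_zero] at this
    · have := hh 4 τ v hv4
      rwa [e4] at this
  have hle : P4 X ρ ψ 0 η 1 0 0 ≤ Wk X ρ ψ 4 ((η ^ 2)⁻¹ * τ) := by
    have h3 : (P4 X ρ ψ 0 η 1 0 0 ⊓ Wk X ρ ψ 4 ((η ^ 2)⁻¹ * τ) : Submodule ℂ V) = P4 X ρ ψ 0 η 1 0 0 := by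
      apply Submodule.eq_of_le_of_finrank_le inf_le_left
      rw [h1 η 1 0 0 hη0 one_ne_zero, Nat.one_le_iff_ne_zero, ne_eq, Submodule.finrank_eq_zero]
      intro hbot
      rw [hbot, Submodule.mem_bot] at hmem
      exact hv0 (rho_injective ρ _ (by rw [hmem, map_zero]))
    rw [← h3]
    exact inf_le_right
  by_contra hcon
  exact hne c (disj hψ hcon (hle (key c).1) (key c).2)

/-- `n0' ≥ 1` (short roots) -/
theorem n0'_pos (hq : 3 < Fintype.card F) (hp : (3 : F) = 0)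
    (h1 : ∀ b c d e : F, d ≠ 0 → e ≠ 0 → finrank ℂ (P4 X ρ ψ 2 b c d e) = 1)
    (h0 : P4 X ρ ψ 2 0 0 1 0 = ⊥) : False := by
  have hr : Rel X 0 2 4 := rel3 H 0 2 4 (by decide) (by decide)
  have hr1 : Rel X 1 3 5 := rel3 H 1 3 5 (by decide) (by decide)
  have hL : finrank ℂ (P4 X ρ ψ 2 0 0 1 1) = 1 := h1 0 0 1 1 one_ne_zero one_ne_zero
  obtain ⟨τ, hτ⟩ : ∃ τ : F, P4 X ρ ψ 2 0 0 1 1 ≤ Wk X ρ ψ 1 τ := by
    refine line_wt H.toHexa hψ ?_ hL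
    rintro c v ⟨⟨⟨ha, hb⟩, hc⟩, hd⟩
    change v ∈ Wk X ρ ψ 3 0 at hb
    change v ∈ Wk X ρ ψ 4 1 at hc
    change v ∈ Wk X ρ ψ 5 1 at hd
    exact ⟨⟨⟨iv3 H (by decide) _ c v ha, iv3 H (i := 3) (by decide) _ c v hb⟩,
      iv3 H (i := 4) (by decide) _ c v hc⟩, hr1.zeroJ hb hd c⟩
  obtain ⟨v, hv, hv0⟩ : ∃ v ∈ P4 X ρ ψ 2 0 0 1 1, v ≠ 0 := by
    rw [← Submodule.ne_bot_iff]
    intro hb
    rw [hb, finrank_bot] at hL
    exact zero_ne_one hL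
  have hv1 := hτ hv
  obtain ⟨⟨⟨ha, hb⟩, hc⟩, hd⟩ := hv
  change v ∈ Wk X ρ ψ 3 0 at hb
  change v ∈ Wk X ρ ψ 4 1 at hc
  change v ∈ Wk X ρ ψ 5 1 at hd
  -- the image under `x_0(t)`
  have key : ∀ t : F, ρ (X 0 t) v ∈ (P4 X ρ ψ 2 0 0 1 (1 - τ * t ^ 3 + t) ⊓ Wk X ρ ψ 1 τ : Submodule ℂ V) := by
    intro t
    refine ⟨⟨⟨⟨iv3 H (by decide) _ _ v ha, iv3 H (i := 3) (by decide) _ _ v hb⟩, hr.zeroJ ha hc _⟩, ?_⟩,
      iv3 H (by decide) _ _ v hv1⟩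
    intro u
    show ρ (X 5 u) _ = _
    have h1 : ρ (X 5 u * X 0 t) v = _ := congrArg (fun g => ρ g v) (H.r05 t u)
    rw [rho4 _ _ _ _ _ (hc _) (ha _) (hv1 _) (hb _), rho_mul, rho_mul, hd, map_smul, smul_smul,
      ← AddChar.map_add_eq_mul, ← AddChar.map_add_eq_mul, ← AddChar.map_add_eq_mul, ← AddChar.map_add_eq_mul] at h1
    rw [h1]
    congr 2
    ring
  have hne : ∀ c : F, ρ (X 0 c) v ≠ 0 := by
    intro c h
    exact hv0 (rho_injective ρ _ (by rw [h, map_zero]))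
  have hA : ∀ c : F, 1 - τ * c ^ 3 + c ≠ 0 := by
    intro c hcon
    have := (key c).1
    rw [hcon, h0] at this
    exact hne c ((Submodule.mem_bot ℂ).1 this)
  refine alg hq hp hA fun c => ?_
  set η := 1 - τ * c ^ 3 + c with hη
  have hη0 : η ≠ 0 := hA c
  -- the torus
  obtain ⟨h, hh⟩ := tor_map H.toHexa (ρ := ρ) (ψ := ψ) hη0 (inv_ne_zero hη0)
  have e5 : (η ^ ci 5 * (η⁻¹) ^ cj 5)⁻¹ = η := by
    show (η ^ (0 : ℤ) * (η⁻¹) ^ (1 : ℤ))⁻¹ = η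
    rw [zpow_one, zpow_zero, one_mul, inv_inv]
  have e4 : (η ^ ci 4 * (η⁻¹) ^ cj 4)⁻¹ = 1 := by
    show (η ^ (1 : ℤ) * (η⁻¹) ^ (1 : ℤ))⁻¹ = 1
    rw [zpow_one, zpow_one, mul_inv_cancel₀ hη0, inv_one]
  have e1 : (η ^ ci 1 * (η⁻¹) ^ cj 1)⁻¹ = (η ^ 2)⁻¹ := by
    show (η ^ (3 : ℤ) * (η⁻¹) ^ (1 : ℤ))⁻¹ = (η ^ 2)⁻¹
    rw [zpow_one, zpow_ofNat, show η ^ 3 * η⁻¹ = η ^ 2 by field_simp]
  have hmem : ρ h v ∈ (P4 X ρ ψ 2 0 0 1 η ⊓ Wk X ρ ψ 1 ((η ^ 2)⁻¹ * τ) : Submodule ℂ V) := by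
    refine ⟨⟨⟨⟨?_, ?_⟩, ?_⟩, ?_⟩, ?_⟩
    · have := hh 2 0 v ha
      rwa [mul_zero] at this
    · have := hh 3 0 v hb
      rwa [mul_zero] at this
    · have := hh 4 1 v hc
      rwa [e4, mul_one] at this
    · have := hh 5 1 v hd
      rwa [e5, mul_one] at this
    · have := hh 1 τ v hv1
      rwa [e1] at this
  have hle : P4 X ρ ψ 2 0 0 1 η ≤ Wk X ρ ψ 1 ((η ^ 2)⁻¹ * τ) := by
    have h3 : (P4 X ρ ψ 2 0 0 1 η ⊓ Wk X ρ ψ 1 ((η ^ 2)⁻¹ * τ) : Submodule ℂ V) = P4 X ρ ψ 2 0 0 1 η := by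
      apply Submodule.eq_of_le_of_finrank_le inf_le_left
      rw [h1 0 0 1 η one_ne_zero hη0, Nat.one_le_iff_ne_zero, ne_eq, Submodule.finrank_eq_zero]
      intro hbot
      rw [hbot, Submodule.mem_bot] at hmem
      exact hv0 (rho_injective ρ _ (by rw [hmem, map_zero]))
    rw [← h3]
    exact inf_le_right
  by_contra hcon
  exact hne c (disj hψ hcon (hle (key c).1) (key c).2)

/-- the fixed space of `X 2 X 3 X 4` -/
theorem D0_bound (hq : 7 < Fintype.card F) (hc3 : ∀ a : F, ∃ t, t ^ 3 = a)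
    (h0 : P4 X ρ ψ 0 0 1 0 0 ≠ ⊥) (h1 : finrank ℂ (P4 X ρ ψ 0 0 1 0 0) ≤ 3) :
    Fintype.card F ^ 2 - 1 ≤ finrank ℂ (P3 X ρ ψ 2 0 0 0) := by
  classical
  have hr : Rel X 0 2 4 := rel3 H 0 2 4 (by decide) (by decide)
  have hr1 : Rel X 1 3 5 := rel3 H 1 3 5 (by decide) (by decide)
  have hr2 : Rel X 2 4 6 := rel3 H 2 4 6 (by decide) (by decide)
  have hiv : Iv X ρ (P4 X ρ ψ 0 0 1 0 0) 4 := by
    rintro c v ⟨⟨⟨ha, hb⟩, hc⟩, hd⟩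
    exact ⟨⟨⟨hr.zeroI H.toHexa hc ha c, iv3 H (by decide) _ c v hb⟩, iv3 H (by decide) _ c v hc⟩,
      iv3 H (by decide) _ c v hd⟩
  have hle : P4 X ρ ψ 0 0 1 0 0 ≤ Wk X ρ ψ 4 0 := by
    refine le_zero H.toHexa hψ hiv fun τ hτ => ?_
    by_contra hne
    -- many weights
    have h2 : ∀ a : F, a ≠ 0 → 1 ≤ finrank ℂ (P4 X ρ ψ 0 0 1 0 0 ⊓ Wk X ρ ψ 4 (a ^ 2 * τ) : Submodule ℂ V) := by
      intro a ha
      obtain ⟨h, hh⟩ := tor_map H.toHexa (ρ := ρ) (ψ := ψ) ha (inv_ne_zero (pow_ne_zero 3 ha))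
      have e1 : (a ^ ci 1 * ((a ^ 3)⁻¹) ^ cj 1)⁻¹ = 1 := by
        show (a ^ (3 : ℤ) * ((a ^ 3)⁻¹) ^ (1 : ℤ))⁻¹ = 1
        rw [zpow_one, zpow_ofNat, mul_inv_cancel₀ (pow_ne_zero 3 ha), inv_one]
      have e4 : (a ^ ci 4 * ((a ^ 3)⁻¹) ^ cj 4)⁻¹ = a ^ 2 := by
        show (a ^ (1 : ℤ) * ((a ^ 3)⁻¹) ^ (1 : ℤ))⁻¹ = a ^ 2
        rw [zpow_one, zpow_one]
        field_simp
      have h3 : finrank ℂ (P4 X ρ ψ 0 0 1 0 0 ⊓ Wk X ρ ψ 4 τ : Submodule ℂ V) ≤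
          finrank ℂ (P4 X ρ ψ 0 0 1 0 0 ⊓ Wk X ρ ψ 4 (a ^ 2 * τ) : Submodule ℂ V) := by
        refine map_le (ρ := ρ) h ?_
        rintro v ⟨⟨⟨⟨ha', hb⟩, hc⟩, hd⟩, he⟩
        refine ⟨⟨⟨⟨?_, ?_⟩, ?_⟩, ?_⟩, ?_⟩
        · have := hh 0 0 v ha'
          rwa [mul_zero] at this
        · have := hh 1 1 v hb
          rwa [e1, mul_one] at this
        · have := hh 2 0 v hc
          rwa [mul_zero] at this
        · have := hh 3 0 v hd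
          rwa [mul_zero] at this
        · have := hh 4 τ v he
          rwa [e4] at this
      have h4 : finrank ℂ (P4 X ρ ψ 0 0 1 0 0 ⊓ Wk X ρ ψ 4 τ : Submodule ℂ V) ≠ 0 := by
        rw [ne_eq, Submodule.finrank_eq_zero]
        exact hne
      omega
    have h3 := split H.toHexa hψ hiv
    set S : Finset F := (Finset.univ.erase (0 : F)).image (fun a => a ^ 2 * τ) with hS
    have h4 : S.card ≤ finrank ℂ (P4 X ρ ψ 0 0 1 0 0) := by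
      rw [h3, Finset.card_eq_sum_ones]
      refine (Finset.sum_le_sum (g := fun y => finrank ℂ (P4 X ρ ψ 0 0 1 0 0 ⊓ Wk X ρ ψ 4 y : Submodule ℂ V))
        ?_).trans (Finset.sum_le_sum_of_subset (Finset.subset_univ _))
      intro y hy
      obtain ⟨a, ha, rfl⟩ := Finset.mem_image.1 hy
      exact h2 a (Finset.ne_of_mem_erase ha)
    have h5 : (Finset.univ.erase (0 : F)).card ≤ 2 * S.card := by
      refine Finset.card_le_mul_card_image _ 2 ?_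
      intro b hb
      obtain ⟨a, ha, rfl⟩ := Finset.mem_image.1 hb
      have h6 : (Finset.univ.erase (0 : F)).filter (fun x => x ^ 2 * τ = a ^ 2 * τ) ⊆ {a, -a} := by
        intro x hx
        have h7 := (Finset.mem_filter.1 hx).2
        have h8 : x ^ 2 = a ^ 2 := mul_right_cancel₀ hτ h7
        rw [Finset.mem_insert, Finset.mem_singleton]
        exact sq_eq_sq_iff_eq_or_eq_neg.1 h8
      exact (Finset.card_le_card h6).trans Finset.card_le_two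
    rw [Finset.card_erase_of_mem (Finset.mem_univ _), Finset.card_univ] at h5
    omega
  -- the weights of `X 1`, `X 5` on the fixed space
  set Z := P3 X ρ ψ 2 0 0 0 with hZ
  have hZm : ∀ v : V, v ∈ Z ↔ v ∈ Wk X ρ ψ 2 0 ∧ v ∈ Wk X ρ ψ 3 0 ∧ v ∈ Wk X ρ ψ 4 0 := by
    intro v
    exact ⟨fun h => ⟨h.1.1, h.1.2, h.2⟩, fun h => ⟨⟨h.1, h.2.1⟩, h.2.2⟩⟩
  have hZ1 : Iv X ρ Z 1 := iv_P3 H (by decide) (by decide) (by decide) 0 0 0
  have hZ15 : ∀ y : F, Iv X ρ (Z ⊓ Wk X ρ ψ 1 y) 5 := by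
    rintro y c v ⟨hv, hv1⟩
    exact ⟨iv_P3 H (by decide) (by decide) (by decide) 0 0 0 c v hv, hr1.zeroI H.toHexa ((hZm v).1 hv).2.1 hv1 c⟩
  have hD : finrank ℂ Z = ∑ y : F, ∑ x : F, finrank ℂ (Z ⊓ Wk X ρ ψ 1 y ⊓ Wk X ρ ψ 5 x : Submodule ℂ V) := by
    rw [split H.toHexa hψ hZ1]
    exact Finset.sum_congr rfl fun y _ => split H.toHexa hψ (hZ15 y)
  set g : F → F → ℕ := fun y x => finrank ℂ (Z ⊓ Wk X ρ ψ 1 y ⊓ Wk X ρ ψ 5 x : Submodule ℂ V) with hg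
  have m0 : ∀ y x x' : F, y ≠ 0 → g y x ≤ g y x' := by
    intro y x x' hy
    obtain ⟨t, ht⟩ := hc3 ((x - x') * y⁻¹)
    refine map_le (ρ := ρ) (X 0 t) ?_
    rintro v ⟨⟨hv, hv1⟩, hv5⟩
    obtain ⟨h2, h3, h4⟩ := (hZm v).1 hv
    refine ⟨⟨(hZm _).2 ⟨iv3 H (by decide) _ _ v h2, iv3 H (by decide) _ _ v h3, hr.zeroJ h2 h4 _⟩,
      iv3 H (by decide) _ _ v hv1⟩, ?_⟩
    intro u
    have h1 : ρ (X 5 u * X 0 t) v = _ := congrArg (fun g => ρ g v) (H.r05 t u)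
    rw [rho4 _ _ _ _ _ (h4 _) (h2 _) (hv1 _) (h3 _), rho_mul, rho_mul, hv5, map_smul, smul_smul,
      ← AddChar.map_add_eq_mul, ← AddChar.map_add_eq_mul, ← AddChar.map_add_eq_mul, ← AddChar.map_add_eq_mul] at h1
    rw [h1, ht]
    congr 2
    field_simp
    ring
  have m6 : ∀ y y' x : F, x ≠ 0 → g y x ≤ g y' x := by
    intro y y' x hx
    obtain ⟨u, hu⟩ := hc3 ((y - y') * x⁻¹)
    refine map_le (ρ := ρ) (X 6 u) ?_
    rintro v ⟨⟨hv, hv1⟩, hv5⟩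
    obtain ⟨h2, h3, h4⟩ := (hZm v).1 hv
    refine ⟨⟨(hZm _).2 ⟨hr2.zeroI H.toHexa h4 h2 _, iv3 H (by decide) _ _ v h3, iv3 H (by decide) _ _ v h4⟩, ?_⟩,
      iv3 H (by decide) _ _ v hv5⟩
    intro t
    have h1 : ρ (X 6 u * X 1 t) v = _ := congrArg (fun g => ρ g v) (H.r16 t u)
    rw [rho4 _ _ _ _ _ (h2 _) (h4 _) (hv5 _) (h3 _), rho_mul, hv1, map_smul, rho_mul,
      ← AddChar.map_add_eq_mul, ← AddChar.map_add_eq_mul, ← AddChar.map_add_eq_mul] at h1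
    set E := 0 * (t * u) + 0 * (t * u ^ 2) + x * (t * u ^ 3) + 0 * (2 * t ^ 2 * u ^ 3) with hE
    have h5 : ρ (X 1 t) (ρ (X 6 u) v) = (ψ (-E) * ψ (y * t)) • ρ (X 6 u) v := by
      rw [mul_smul, h1, smul_smul, ← AddChar.map_add_eq_mul, neg_add_cancel, AddChar.map_zero_eq_one, one_smul]
    rw [h5, ← AddChar.map_add_eq_mul]
    congr 2
    rw [hE, hu]
    field_simp
    ring
  -- a nonzero weight
  obtain ⟨x, hx⟩ : ∃ x : F, 1 ≤ g 1 x := by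
    by_contra hcon
    push Not at hcon
    have h2 := split H.toHexa hψ (hZ15 1)
    rw [Finset.sum_eq_zero (fun x _ => Nat.lt_one_iff.1 (hcon x))] at h2
    apply h0
    rw [eq_bot_iff]
    intro v hv
    have hv4 := hle hv
    obtain ⟨⟨⟨ha, hb⟩, hc⟩, hd⟩ := hv
    have h3 : v ∈ (Z ⊓ Wk X ρ ψ 1 1 : Submodule ℂ V) := ⟨(hZm v).2 ⟨hc, hd, hv4⟩, hb⟩
    rw [Submodule.finrank_eq_zero.1 h2] at h3
    exact h3
  have hone : ∀ y x : F, (y ≠ 0 ∨ x ≠ 0) → 1 ≤ g y x := by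
    have h11 : 1 ≤ g 1 1 := hx.trans (m0 1 x 1 one_ne_zero)
    rintro y x (h | h)
    · exact (h11.trans (m6 1 y 1 one_ne_zero)).trans (m0 y 1 x h)
    · exact (h11.trans (m0 1 1 x one_ne_zero)).trans (m6 1 y x h)
  have := sum2_le g 1 hone
  rw [mul_one] at this
  rw [hD]
  exact this

end

end Cfsg.Agent.H120.Hx
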