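import Cfsg.Agent.H120.Sys

/-!
# The minimal representation: one step of the induction

`R : Roots B Φ`, `H : Sys B Φ x`, `g` a grading with values in `{-2, ..., 2}` such that a root of degree two is
`g` itself (`Grad`).  Hypothesis `One`: the weight spaces of the root groups have the smallest possible dimension
`q ^ m`, `2 m` the number of roots at `60°` to a root.

* `Sys.triv_of_line` : the weight vectors of a root of degree one;
* `Sys.exists_label` : many joint weights;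
* `Sys.exists_fixed` : a vector fixed by the unipotent radical, moved by the Levi factor.
-/

set_option autoImplicit false
set_option linter.unusedSectionVars false

namespace Cfsg.Agent.H120

open Module Cfsg.Agent.OddHalf.SL.Defs

variable {L : Type*} [AddCommGroup L] {F : Type*} [Field F]
  {V : Type*} [AddCommGroup V] [Module ℂ V]

/-- a grading of height at most two -/
structure Grad (B : L → L → ℤ) (Φ : Set L) (g : L → ℤ) : Prop where
  add : ∀ a b, g (a + b) = g a + g b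
  le : ∀ a ∈ Φ, g a ≤ 2
  top : ∀ a ∈ Φ, g a = 2 → ∀ b ∈ Φ, B a b = g b

namespace Grad

variable {B : L → L → ℤ} {Φ : Set L} {g : L → ℤ} (G : Grad B Φ g)

include G

theorem zero : g 0 = 0 := by
  have := G.add 0 0
  rw [add_zero] at this
  omega

theorem neg (a : L) : g (-a) = - g a := by
  have := G.add a (-a)
  rw [add_neg_cancel, G.zero] at this
  omega

theorem sub (a b : L) : g (a - b) = g a - g b := by
  rw [sub_eq_add_neg, G.add, G.neg]; ring

end Grad

/-- the minimality hypothesis -/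
structure One [Fintype F] (B : L → L → ℤ) (Φ : Set L) (x : L → F → Module.End ℂ V) (m : ℕ) : Prop where
  card : ∀ r ∈ Φ, {s | s ∈ Φ ∧ B s r = 1}.ncard = 2 * m
  dim : ∀ r ∈ Φ, ∀ ψ : AddChar F ℂ, ψ ≠ 0 → finrank ℂ (wt x r ψ) = Fintype.card F ^ m

/-- roots at `60°` with a property -/
noncomputable def AP {B : L → L → ℤ} {Φ : Set L} (R : Roots B Φ) (r : L) (P : L → Prop) : Finset L :=
  (R.fin.subset (show {s | s ∈ Φ ∧ B s r = 1 ∧ P s} ⊆ Φ from fun _ h => h.1)).toFinset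

theorem mem_AP {B : L → L → ℤ} {Φ : Set L} {R : Roots B Φ} {r s : L} {P : L → Prop} :
    s ∈ AP R r P ↔ s ∈ Φ ∧ B s r = 1 ∧ P s := by
  rw [AP, Set.Finite.mem_toFinset]; rfl

theorem AP_nonneg {B : L → L → ℤ} {Φ : Set L} (R : Roots B Φ) {r : L} (hr : r ∈ Φ) {P : L → Prop}
    (hP : ∀ s ∈ Φ, B s r = 1 → P s → ¬ P (r - s)) :
    ∀ a ∈ AP R r P, ∀ b ∈ AP R r P, 0 ≤ B a b := by
  intro a ha b hb
  rw [mem_AP] at ha hb
  by_contra hc
  have h1 := R.ge ha.1 hb.1
  have h2 : B a b ≠ -2 := by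
    intro h
    have h3 := R.eq_neg ha.1 hb.1 h
    have h4 := ha.2.1
    rw [h3, R.neg_left, hb.2.1] at h4
    norm_num at h4
  have h3 : B a b = -1 := by omega
  have h4 := R.add a ha.1 b hb.1 h3
  have h5 : a + b = r := by
    apply R.eq _ h4 _ hr
    rw [R.add_left, ha.2.1, hb.2.1]; norm_num
  apply hP a ha.1 ha.2.1 ha.2.2
  rw [← h5, add_sub_cancel_left]
  exact hb.2.2

theorem two_mul_card_AP {B : L → L → ℤ} {Φ : Set L} (R : Roots B Φ) {r : L} (hr : r ∈ Φ) {P : L → Prop}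
    (hP : ∀ s ∈ Φ, B s r = 1 → P s → ¬ P (r - s)) (hP' : ∀ s ∈ Φ, B s r = 1 → P s ∨ P (r - s)) :
    {s | s ∈ Φ ∧ B s r = 1}.ncard = 2 * (AP R r P).card := by
  classical
  have hsub : ∀ s, s ∈ Φ → B s r = 1 → r - s ∈ Φ ∧ B (r - s) r = 1 := by
    intro s hs hsr
    refine ⟨R.sub_mem hr hs (by rw [R.symm]; exact hsr), ?_⟩
    rw [R.sub_left, R.two r hr, hsr]; norm_num
  have h1 : {s | s ∈ Φ ∧ B s r = 1} = ((AP R r P ∪ (AP R r P).image (fun s => r - s) : Finset L) : Set L) := by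
    ext s
    rw [Finset.coe_union, Set.mem_union, Finset.mem_coe, Finset.mem_coe, Finset.mem_image, mem_AP]
    constructor
    · rintro ⟨hs, hsr⟩
      rcases hP' s hs hsr with h | h
      · exact Or.inl ⟨hs, hsr, h⟩
      · refine Or.inr ⟨r - s, ?_, by abel⟩
        rw [mem_AP]
        exact ⟨(hsub s hs hsr).1, (hsub s hs hsr).2, h⟩
    · rintro (⟨hs, hsr, _⟩ | ⟨t, ht, rfl⟩)
      · exact ⟨hs, hsr⟩
      · rw [mem_AP] at ht
        exact hsub t ht.1 ht.2.1
  have h2 : Disjoint (AP R r P) ((AP R r P).image (fun s => r - s)) := by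
    rw [Finset.disjoint_left]
    intro s hs hs'
    rw [Finset.mem_image] at hs'
    obtain ⟨t, ht, rfl⟩ := hs'
    rw [mem_AP] at hs ht
    exact hP t ht.1 ht.2.1 ht.2.2 hs.2.2
  rw [h1, Set.ncard_coe_finset, Finset.card_union_of_disjoint h2,
    Finset.card_image_of_injective _ (fun a b h => by simpa using h), two_mul]

namespace Sys

variable {B : L → L → ℤ} {Φ : Set L} {x : L → F → Module.End ℂ V} (H : Sys B Φ x)

/-- a common eigenvector -/
def _root_.Cfsg.Agent.H120.Eig (x : L → F → Module.End ℂ V) (s : L) (v : V) : Prop :=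
  ∀ c, ∃ l : ℂ, x s c v = l • v

theorem _root_.Cfsg.Agent.H120.eig_of_wt {s : L} {χ : AddChar F ℂ} {v : V} (h : v ∈ wt x s χ) :
    Eig x s v := fun c => ⟨χ c, h c⟩

include H

theorem exists_wt {s : L} (hs : s ∈ Φ) {v : V} (hv : v ≠ 0) (h : Eig x s v) :
    ∃ χ : AddChar F ℂ, v ∈ wt x s χ := by
  choose l hl using h
  have huniq : ∀ a b : ℂ, a • v = b • v → a = b := fun a b hab => smul_left_injective ℂ hv hab
  refine ⟨⟨l, ?_, ?_⟩, hl⟩
  · apply huniq
    rw [← hl, H.zero_apply hs, one_smul]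
  · intro a b
    apply huniq
    rw [← hl, H.add_apply hs, hl b, map_smul, hl a, smul_smul, mul_comm]

theorem comm_triv {s γ : L} (hs : s ∈ Φ) (hγ : γ ∈ Φ) (h : B s γ = -1) {v : V}
    (h1 : Eig x s v) (h2 : Eig x γ v) : v ∈ wt x (s + γ) 0 := by
  intro c
  rw [AddChar.zero_apply, one_smul]
  by_cases hv : v = 0
  · rw [hv, map_zero]
  obtain ⟨ε, hε, he⟩ := H.comm1 s hs γ hγ h
  have h3 := congrArg (fun T => T v) (he (ε⁻¹ * c) 1)
  simp only [Module.End.mul_apply] at h3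
  obtain ⟨l, hl⟩ := h1 (ε⁻¹ * c)
  obtain ⟨k, hk⟩ := h2 1
  rw [hk, map_smul, hl, map_smul, map_smul, hk, map_smul, mul_one, ← mul_assoc, mul_inv_cancel₀ hε,
    one_mul, smul_smul, smul_smul, mul_comm k l] at h3
  have hl0 : l ≠ 0 := by
    rintro rfl
    rw [zero_smul] at hl
    exact hv (H.inj hs _ (by rw [hl, map_zero]))
  have hk0 : k ≠ 0 := by
    rintro rfl
    rw [zero_smul] at hk
    exact hv (H.inj hγ _ (by rw [hk, map_zero]))
  exact (smul_right_injective V (mul_ne_zero hl0 hk0) h3).symm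

/-- `wt x s 0` for the difference -/
theorem triv_of_sub (R : Roots B Φ) {s γ : L} (hs : s ∈ Φ) (hγ : γ ∈ Φ) (h : B γ s = 1) {v : V}
    (h1 : Eig x γ v) (h2 : Eig x (s - γ) v) : v ∈ wt x s 0 := by
  have h3 : s - γ ∈ Φ := R.sub_mem hs hγ (by rw [R.symm]; exact h)
  have h4 := H.comm_triv h3 hγ (by rw [R.sub_left, R.symm s γ, h, R.two γ hγ]; norm_num) h2 h1
  rwa [sub_add_cancel] at h4

/-- moving a weight vector -/
theorem wt_move (R : Roots B Φ) {a γ : L} (ha : a ∈ Φ) (hγ : γ ∈ Φ) (hne : γ ≠ -a) {ψ : AddChar F ℂ} {v : V}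
    (hv : v ∈ wt x a ψ) (h : B a γ = -1 → v ∈ wt x (a + γ) 0) (c : F) : x γ c v ∈ wt x a ψ := by
  have h1 := R.ge ha hγ
  by_cases h2 : 0 ≤ B a γ
  · exact H.wt0 ha hγ h2 hv c
  · have h3 : B a γ ≠ -2 := by
      intro h4
      rw [R.symm] at h4
      exact hne (R.eq_neg hγ ha h4)
    exact H.wt1_zero R ha hγ (by omega) hv (h (by omega)) c

section fin

variable [Fintype F] [FiniteDimensional ℂ V]

/-- the line of weight vectors -/
theorem line (R : Roots B Φ) {m : ℕ} (O : One B Φ x m) {r : L} (hr : r ∈ Φ) {ψ : AddChar F ℂ} (hψ : ψ ≠ 0) {P : L → Prop}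
    (hP : ∀ s ∈ Φ, B s r = 1 → P s → ¬ P (r - s)) (hP' : ∀ s ∈ Φ, B s r = 1 → P s ∨ P (r - s)) :
    ∃ v : V, v ≠ 0 ∧ v ∈ EE x r ψ (AP R r P) ∧ ∀ w ∈ EE x r ψ (AP R r P), ∃ l : ℂ, w = l • v := by
  classical
  have h1 := two_mul_card_AP R hr hP hP'
  rw [O.card r hr] at h1
  have h2 : (AP R r P).card = m := by omega
  have h3 := H.finrank_wt R hr hψ (AP R r P) (fun a ha => (mem_AP.1 ha).1) (fun a ha => (mem_AP.1 ha).2.1)
    (AP_nonneg R hr hP)
  rw [O.dim r hr ψ hψ, h2] at h3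
  have hq : 0 < Fintype.card F ^ m := pow_pos Fintype.card_pos m
  have h4 : finrank ℂ (EE x r ψ (AP R r P)) = 1 := by
    have h5 : Fintype.card F ^ m * finrank ℂ (EE x r ψ (AP R r P)) = Fintype.card F ^ m * 1 := by
      rw [← h3, mul_one]
    exact Nat.eq_of_mul_eq_mul_left hq h5
  obtain ⟨v, hv, hw⟩ := finrank_eq_one_iff'.1 h4
  refine ⟨v, ?_, v.2, ?_⟩
  · intro h
    exact hv (Subtype.ext h)
  · intro w hw'
    obtain ⟨c, hc⟩ := hw ⟨w, hw'⟩
    exact ⟨c, (congrArg Subtype.val hc).symm⟩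

/-- eigenvectors from the line -/
theorem eig_line (R : Roots B Φ) {r : L} (hr : r ∈ Φ) {ψ : AddChar F ℂ} {P : L → Prop} {v : V}
    (hv : v ∈ EE x r ψ (AP R r P)) (hl : ∀ w ∈ EE x r ψ (AP R r P), ∃ l : ℂ, w = l • v)
    {γ : L} (hγ : γ ∈ Φ) (hne : γ ≠ -r) (h1 : B r γ = -1 → v ∈ wt x (r + γ) 0)
    (h2 : ∀ a ∈ Φ, B a r = 1 → P a → γ ≠ -a ∧ (B a γ = -1 → v ∈ wt x (a + γ) 0)) : Eig x γ v := by
  intro c
  apply hl
  refine ⟨H.wt_move R hr hγ hne hv.1 h1 c, fun a ha => ?_⟩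
  have ha' := mem_AP.1 ha
  obtain ⟨h3, h4⟩ := h2 a ha'.1 ha'.2.1 ha'.2.2
  exact H.wt_move R ha'.1 hγ h3 (hv.2 a ha) h4 c

end fin

end Sys

/-- combinatorial hypotheses: roots of degree one -/
structure KillHyp (B : L → L → ℤ) (Φ : Set L) (g : L → ℤ) : Prop where
  c0 : ∀ r ∈ Φ, ∀ s ∈ Φ, g r = 1 → g s = 1 → B s r = 0 → ∃ γ ∈ Φ, g γ = 0 ∧ B γ r = 0 ∧ B γ s = 1
  c1 : ∀ r ∈ Φ, ∀ s ∈ Φ, g r = 1 → g s = 1 → B s r = -1 → ∃ γ ∈ Φ, g γ = 0 ∧ B γ r = -1 ∧ B γ s = 1

namespace Sys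

variable {B : L → L → ℤ} {Φ : Set L} {x : L → F → Module.End ℂ V} (H : Sys B Φ x) (R : Roots B Φ)
  {g : L → ℤ} (G : Grad B Φ g) (K : KillHyp B Φ g) [Fintype F] [FiniteDimensional ℂ V]

include H R G K

/-- the weight vectors of a root of degree one are killed by the other roots of positive degree -/
theorem kill {m : ℕ} (O : One B Φ x m) {r : L} (hr : r ∈ Φ) (hg : g r = 1) {ψ : AddChar F ℂ} (hψ : ψ ≠ 0) :
    ∃ v : V, v ≠ 0 ∧ v ∈ wt x r ψ ∧ ∀ s ∈ Φ, 1 ≤ g s → s ≠ r → v ∈ wt x s 0 := by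
  have hP : ∀ s ∈ Φ, B s r = 1 → 1 ≤ g s → ¬ 1 ≤ g (r - s) := by
    intro s _ _ h1 h2
    rw [G.sub] at h2
    omega
  have hP' : ∀ s ∈ Φ, B s r = 1 → 1 ≤ g s ∨ 1 ≤ g (r - s) := by
    intro s _ _
    rw [G.sub]
    omega
  obtain ⟨v, hv0, hv, hl⟩ := H.line R O hr hψ hP hP'
  have key1 : ∀ s ∈ Φ, 1 ≤ g s → B s r = 1 → v ∈ wt x s 0 := fun s hs h1 h2 => hv.2 s (mem_AP.2 ⟨hs, h2, h1⟩)
  -- `g γ ≥ 0`, `B γ r = 0`
  have key2 : ∀ γ ∈ Φ, 0 ≤ g γ → B γ r = 0 → Eig x γ v := by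
    intro γ hγ h1 h2
    refine H.eig_line R hr hv hl hγ ?_ ?_ ?_
    · rintro rfl
      rw [R.neg_left, R.two r hr] at h2
      norm_num at h2
    · intro h3
      rw [R.symm] at h3
      omega
    · intro a ha h3 h4
      refine ⟨?_, fun h5 => ?_⟩
      · rintro rfl
        rw [G.neg] at h1
        omega
      · refine key1 _ (R.add a ha γ hγ h5) ?_ ?_
        · rw [G.add]; omega
        · rw [R.add_left, h3, h2]; norm_num
  have key3 : ∀ s ∈ Φ, g s = 1 → B s r = 0 → v ∈ wt x s 0 := by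
    intro s hs h1 h2
    obtain ⟨γ, hγ, h3, h4, h5⟩ := K.c0 r hr s hs hg h1 h2
    refine H.triv_of_sub R hs hγ h5 (key2 γ hγ h3.ge h4) (key2 _ (R.sub_mem hs hγ (by rw [R.symm]; exact h5)) ?_ ?_)
    · rw [G.sub]; omega
    · rw [R.sub_left]; omega
  have key4 : ∀ s ∈ Φ, g s = 1 → B s r = -1 → v ∈ wt x s 0 := by
    intro s hs h1 h2
    obtain ⟨γ, hγ, h3, h4, h5⟩ := K.c1 r hr s hs hg h1 h2
    have h6 : Eig x γ v := by
      refine H.eig_line R hr hv hl hγ ?_ ?_ ?_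
      · rintro rfl
        rw [G.neg] at h3
        omega
      · intro h6
        refine key1 _ (R.add r hr γ hγ h6) ?_ ?_
        · rw [G.add]; omega
        · rw [R.add_left, R.two r hr, h4]; norm_num
      · intro a ha h6 h7
        refine ⟨?_, fun h8 => ?_⟩
        · rintro rfl
          rw [G.neg] at h3
          omega
        · have h9 : g a ≠ 2 := by
            intro h10
            have := G.top a ha h10 γ hγ
            omega
          have h10 := G.le a ha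
          refine key3 _ (R.add a ha γ hγ h8) ?_ ?_
          · rw [G.add]; omega
          · rw [R.add_left]; omega
    have h7 : s - γ ∈ Φ := R.sub_mem hs hγ (by rw [R.symm]; exact h5)
    exact H.triv_of_sub R hs hγ h5 h6 (key2 _ h7 (by rw [G.sub]; omega) (by rw [R.sub_left]; omega))
  refine ⟨v, hv0, hv.1, fun s hs h1 h2 => ?_⟩
  have h3 := R.le s hs r hr
  have h4 : B s r ≠ 2 := fun h => h2 (R.eq s hs r hr h)
  have h5 := R.ge hs hr
  have h6 : B s r ≠ -2 := by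
    intro h
    have := R.eq_neg hs hr h
    subst this
    rw [G.neg] at h1
    omega
  have h7 := G.le s hs
  by_cases h8 : B s r = 1
  · exact key1 s hs h1 h8
  · have h9 : g s ≠ 2 := by
      intro h10
      have := G.top s hs h10 r hr
      omega
    by_cases h10 : B s r = 0
    · exact key3 s hs (by omega) h10
    · exact key4 s hs (by omega) (by omega)

/-- joint weights in the span of the weight vectors of `r` -/
theorem label {m : ℕ} (O : One B Φ x m) {f : L → ℤ} (hf : ∀ a b, f (a + b) = f a + f b)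
    {r : L} (hr : r ∈ Φ) (hg : g r = 1) {ψ : AddChar F ℂ} (hψ : ψ ≠ 0)
    (φ : L → AddChar F ℂ) (S : Finset L) (hS : S ⊆ AP R r (fun s => g s = 1 ∧ f r < f s)) :
    ∃ v : V, v ≠ 0 ∧ v ∈ wt x r ψ ∧ (∀ s ∈ S, v ∈ wt x s (φ s)) ∧
      (∀ s ∈ AP R r (fun s => g s = 1 ∧ f r < f s), s ∉ S → v ∈ wt x s 0) ∧
      (∀ s ∈ Φ, g s = 1 → f s < f r → v ∈ wt x s 0) ∧ (∀ s ∈ Φ, g s = 1 → ∃ χ, v ∈ wt x s χ) ∧
      (∀ s ∈ Φ, g s = 2 → v ∈ wt x s 0) := by
  classical
  have fneg : ∀ a, f (-a) = - f a := by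
    intro a
    have h0 := hf 0 0
    have h1 := hf a (-a)
    rw [add_zero] at h0
    rw [add_neg_cancel] at h1
    omega
  have fsub : ∀ a b, f (a - b) = f a - f b := by
    intro a b
    rw [sub_eq_add_neg, hf, fneg]; ring
  induction S using Finset.induction_on with
  | empty =>
    obtain ⟨v, hv0, hv, hk⟩ := H.kill R G K O hr hg hψ
    refine ⟨v, hv0, hv, fun s hs => absurd hs (Finset.notMem_empty s), ?_, ?_, ?_, ?_⟩
    · intro s hs _
      have h := mem_AP.1 hs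
      refine hk s h.1 h.2.2.1.ge ?_
      rintro rfl
      exact lt_irrefl _ h.2.2.2
    · intro s hs h1 h2
      refine hk s hs h1.ge ?_
      rintro rfl
      exact lt_irrefl _ h2
    · intro s hs h1
      by_cases h2 : s = r
      · exact ⟨ψ, by rw [h2]; exact hv⟩
      · exact ⟨0, hk s hs h1.ge h2⟩
    · intro s hs h1
      refine hk s hs (by omega) ?_
      rintro rfl
      omega
  | insert s S hsS ih =>
    obtain ⟨v, hv0, hv, h1, h2, h3, h4, h5⟩ := ih (fun a ha => hS (Finset.mem_insert_of_mem ha))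
    have hs := mem_AP.1 (hS (Finset.mem_insert_self s S))
    obtain ⟨hsΦ, hsr, hsg, hsf⟩ := hs
    have hγ : r - s ∈ Φ := R.sub_mem hr hsΦ (by rw [R.symm]; exact hsr)
    have hsγ : B s (r - s) = -1 := by rw [R.sub_right, hsr, R.two s hsΦ]; norm_num
    obtain ⟨ε, hε, he⟩ := H.wt1 R hsΦ hγ hsγ
    obtain ⟨d, hd⟩ := exists_mulShift hψ (φ s)
    have hmem : ∀ t ∈ AP R r (fun s => g s = 1 ∧ f r < f s), t ≠ s → ∀ χ, v ∈ wt x t χ →
        x (r - s) (ε⁻¹ * d) v ∈ wt x t χ := by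
      intro t ht hts χ hχ
      have ht' := mem_AP.1 ht
      refine H.wt0 ht'.1 hγ ?_ hχ _
      rw [R.sub_right, ht'.2.1]
      have h6 := R.le t ht'.1 s hsΦ
      have h7 : B t s ≠ 2 := fun h => hts (R.eq t ht'.1 s hsΦ h)
      omega
    refine ⟨x (r - s) (ε⁻¹ * d) v, ?_, ?_, ?_, ?_, ?_, ?_, ?_⟩
    · intro h
      exact hv0 (H.inj hγ _ (by rw [h, map_zero]))
    · refine H.wt0 hr hγ ?_ hv _
      rw [R.sub_right, R.two r hr, R.symm, hsr]; norm_num
    · intro t ht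
      rcases Finset.mem_insert.1 ht with rfl | ht
      · have h6 := he 0 ψ v (h2 t (hS (Finset.mem_insert_self t S)) hsS) (by rw [add_sub_cancel]; exact hv)
          (ε⁻¹ * d)
        rwa [← mul_assoc, mul_inv_cancel₀ hε, one_mul, hd, zero_add] at h6
      · exact hmem t (hS (Finset.mem_insert_of_mem ht)) (fun h => hsS (h ▸ ht)) _ (h1 t ht)
    · intro t ht htS
      rw [Finset.mem_insert, not_or] at htS
      exact hmem t ht htS.1 _ (h2 t ht htS.2)
    · intro t ht htg htf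
      refine H.wt_move R ht hγ ?_ (h3 t ht htg htf) ?_ _
      · intro h6
        have h7 := congrArg g h6
        rw [G.sub, G.neg] at h7
        omega
      · intro h6
        refine h3 _ (R.add t ht _ hγ h6) ?_ ?_
        · rw [G.add, G.sub]; omega
        · rw [hf, fsub]; omega
    · intro t ht htg
      obtain ⟨χ, hχ⟩ := h4 t ht htg
      by_cases h6 : 0 ≤ B t (r - s)
      · exact ⟨χ, H.wt0 ht hγ h6 hχ _⟩
      · have h7 := R.ge ht hγ
        have h8 : B t (r - s) ≠ -2 := by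
          intro h8
          have h9 := congrArg g (R.eq_neg ht hγ h8)
          rw [G.neg, G.sub] at h9
          omega
        have h9 : B t (r - s) = -1 := by omega
        obtain ⟨ε', hε', he'⟩ := H.wt1 R ht hγ h9
        obtain ⟨χ', hχ'⟩ := h4 _ (R.add t ht _ hγ h9) (by rw [G.add, G.sub]; omega)
        exact ⟨_, he' χ χ' v hχ hχ' _⟩
    · intro t ht htg
      refine H.wt0 ht hγ ?_ (h5 t ht htg) _
      rw [G.top t ht htg _ hγ, G.sub]
      omega

end Sys

end Cfsg.Agent.H120
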