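import Mathlib

/-!
# Weight spaces of a finite abelian group acting on a complex vector space

`AddAct M V` : an action of the additive group `M` on `V`; `T.wt ψ` the weight space of the additive
character `ψ`.  `sum_finrank_wt`, `trace_eq`.
-/

set_option autoImplicit false

namespace Cfsg.Agent.H120

open Module

/-- an action of the additive group `M` on the complex vector space `V` -/
structure AddAct (M : Type*) [AddCommGroup M] (V : Type*) [AddCommGroup V] [Module ℂ V] where
  toFun : M → Module.End ℂ V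
  map_zero' : toFun 0 = 1
  map_add' : ∀ a b, toFun (a + b) = toFun a * toFun b

namespace AddAct

variable {M : Type*} [AddCommGroup M] {V : Type*} [AddCommGroup V] [Module ℂ V] (T : AddAct M V)

theorem add_apply (a b : M) (v : V) : T.toFun (a + b) v = T.toFun a (T.toFun b v) := by
  rw [T.map_add', Module.End.mul_apply]

theorem zero_apply (v : V) : T.toFun 0 v = v := by
  rw [T.map_zero', Module.End.one_apply]

theorem neg_apply (a : M) (v : V) : T.toFun (-a) (T.toFun a v) = v := by
  rw [← T.add_apply, neg_add_cancel, T.zero_apply]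

theorem apply_neg (a : M) (v : V) : T.toFun a (T.toFun (-a) v) = v := by
  rw [← T.add_apply, add_neg_cancel, T.zero_apply]

/-- the weight space of `ψ` -/
def wt (ψ : AddChar M ℂ) : Submodule ℂ V where
  carrier := {v | ∀ a, T.toFun a v = ψ a • v}
  add_mem' := by
    intro v w hv hw a
    rw [map_add, hv a, hw a, smul_add]
  zero_mem' := by
    intro a
    rw [map_zero, smul_zero]
  smul_mem' := by
    intro c v hv a
    rw [map_smul, hv a, smul_comm]

theorem mem_wt {ψ : AddChar M ℂ} {v : V} : v ∈ T.wt ψ ↔ ∀ a, T.toFun a v = ψ a • v := Iff.rfl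

variable [Fintype M]

/-- the projection onto the weight space of `ψ` -/
noncomputable def proj (ψ : AddChar M ℂ) : Module.End ℂ V :=
  (Fintype.card M : ℂ)⁻¹ • ∑ a, ψ (-a) • T.toFun a

theorem proj_apply (ψ : AddChar M ℂ) (v : V) :
    T.proj ψ v = (Fintype.card M : ℂ)⁻¹ • ∑ a, ψ (-a) • T.toFun a v := by
  simp only [proj, LinearMap.smul_apply, LinearMap.sum_apply]

theorem card_ne : (Fintype.card M : ℂ) ≠ 0 := by
  have : Nonempty M := ⟨0⟩
  exact_mod_cast Fintype.card_ne_zero

theorem proj_mem (ψ : AddChar M ℂ) (v : V) : T.proj ψ v ∈ T.wt ψ := by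
  intro a
  have h : ∀ b, ψ (-b) • T.toFun a (T.toFun b v) = ψ a • (ψ (-(a + b)) • T.toFun (a + b) v) := by
    intro b
    rw [← T.add_apply, smul_smul, ← AddChar.map_add_eq_mul, neg_add, add_neg_cancel_left]
  have h2 : (∑ b, T.toFun a (ψ (-b) • T.toFun b v)) = ∑ b, ψ a • (ψ (-b) • T.toFun b v) := by
    rw [← Fintype.sum_equiv (Equiv.addLeft a)
      (fun b => T.toFun a (ψ (-b) • T.toFun b v)) (fun b => ψ a • (ψ (-b) • T.toFun b v))]
    intro b
    rw [map_smul, Equiv.coe_addLeft]
    exact h b
  rw [proj_apply, map_smul, map_sum, h2, ← Finset.smul_sum, smul_comm]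

theorem proj_of_mem {ψ φ : AddChar M ℂ} {v : V} (hv : v ∈ T.wt φ) :
    T.proj ψ v = if φ = ψ then v else 0 := by
  rw [proj_apply]
  have h1 : ∀ a, ψ (-a) • T.toFun a v = (ψ (-a) * φ a) • v := by
    intro a
    rw [hv a, smul_smul]
  rw [Finset.sum_congr rfl (fun a _ => h1 a), ← Finset.sum_smul, smul_smul]
  split_ifs with h
  · subst h
    have h2 : ∀ a, φ (-a) * φ a = 1 := by
      intro a
      rw [← AddChar.map_add_eq_mul, neg_add_cancel, AddChar.map_zero_eq_one]
    rw [Finset.sum_congr rfl (fun a _ => h2 a), Finset.sum_const, Finset.card_univ, nsmul_eq_mul,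
      mul_one, inv_mul_cancel₀ card_ne, one_smul]
  · have h2 : ∀ a, ψ (-a) * φ a = (φ - ψ) a := by
      intro a
      rw [sub_eq_add_neg, AddChar.add_apply, AddChar.neg_apply, mul_comm]
    have h3 : ∑ a, (φ - ψ) a = 0 := by
      rw [AddChar.sum_eq_zero_iff_ne_zero]
      exact sub_ne_zero.2 h
    rw [Finset.sum_congr rfl (fun a _ => h2 a), h3, mul_zero, zero_smul]

theorem sum_proj (v : V) : ∑ ψ : AddChar M ℂ, T.proj ψ v = v := by
  classical
  simp only [proj_apply]
  rw [← Finset.smul_sum, Finset.sum_comm]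
  have h1 : ∀ a, ∑ ψ : AddChar M ℂ, ψ (-a) • T.toFun a v =
      (if a = 0 then (Fintype.card M : ℂ) else 0) • T.toFun a v := by
    intro a
    rw [← Finset.sum_smul, AddChar.sum_apply_eq_ite]
    simp only [neg_eq_zero]
  rw [Finset.sum_congr rfl (fun a _ => h1 a), Finset.sum_eq_single 0]
  · rw [if_pos rfl, smul_smul, inv_mul_cancel₀ card_ne, one_smul, T.zero_apply]
  · intro b _ hb
    rw [if_neg hb, zero_smul]
  · intro h
    exact absurd (Finset.mem_univ _) h

theorem isInternal : DirectSum.IsInternal T.wt := by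
  classical
  rw [DirectSum.isInternal_submodule_iff_iSupIndep_and_iSup_eq_top]
  constructor
  · rw [iSupIndep_def]
    intro ψ
    rw [Submodule.disjoint_def]
    intro v hv hv'
    have h1 : T.proj ψ v = v := by rw [T.proj_of_mem hv, if_pos rfl]
    have h2 : ∀ w ∈ (⨆ j, ⨆ (_ : j ≠ ψ), T.wt j), T.proj ψ w = 0 := by
      intro w hw
      have : (⨆ j, ⨆ (_ : j ≠ ψ), T.wt j) ≤ LinearMap.ker (T.proj ψ) := by
        refine iSup_le fun j => iSup_le fun hj => ?_
        intro w hw
        rw [LinearMap.mem_ker, T.proj_of_mem hw, if_neg hj]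
      exact this hw
    rw [← h1, h2 v hv']
  · rw [eq_top_iff]
    intro v _
    rw [← T.sum_proj v]
    refine Submodule.sum_mem _ fun ψ _ => ?_
    exact Submodule.mem_iSup_of_mem ψ (T.proj_mem ψ v)

theorem sum_finrank_wt [FiniteDimensional ℂ V] :
    finrank ℂ V = ∑ ψ : AddChar M ℂ, finrank ℂ (T.wt ψ) := by
  classical
  have h := LinearMap.trace_eq_sum_trace_restrict T.isInternal (f := LinearMap.id)
    (fun i v hv => hv)
  rw [LinearMap.trace_id] at h
  have h2 : ∀ ψ : AddChar M ℂ, LinearMap.trace ℂ (T.wt ψ) ((LinearMap.id : V →ₗ[ℂ] V).restrict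
      (fun v hv => hv)) = (finrank ℂ (T.wt ψ) : ℂ) := by
    intro ψ
    rw [← LinearMap.trace_id ℂ (T.wt ψ)]
    rfl
  rw [Finset.sum_congr rfl (fun ψ _ => h2 ψ)] at h
  exact_mod_cast h

theorem trace_eq [FiniteDimensional ℂ V] (a : M) :
    LinearMap.trace ℂ V (T.toFun a) = ∑ ψ : AddChar M ℂ, ψ a * finrank ℂ (T.wt ψ) := by
  classical
  have hm : ∀ ψ : AddChar M ℂ, Set.MapsTo (T.toFun a) (T.wt ψ) (T.wt ψ) := by
    intro ψ v hv
    change T.toFun a v ∈ T.wt ψ
    rw [(T.mem_wt.1 hv) a]
    exact Submodule.smul_mem _ _ hv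
  have h := LinearMap.trace_eq_sum_trace_restrict T.isInternal (f := T.toFun a) hm
  rw [h]
  refine Finset.sum_congr rfl fun ψ _ => ?_
  have h2 : (T.toFun a).restrict (hm ψ) = ψ a • (LinearMap.id : T.wt ψ →ₗ[ℂ] T.wt ψ) := by
    ext ⟨v, hv⟩
    exact T.mem_wt.1 hv a
  rw [h2, map_smul, LinearMap.trace_id, smul_eq_mul]

/-- if `V ≠ wt 0` some non-trivial weight occurs -/
theorem exists_wt_ne (h : ∃ a v, T.toFun a v ≠ v) : ∃ ψ : AddChar M ℂ, ψ ≠ 0 ∧ T.wt ψ ≠ ⊥ := by
  by_contra hc
  push Not at hc
  obtain ⟨a, v, hv⟩ := h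
  apply hv
  have h1 : v = T.proj 0 v := by
    conv_lhs => rw [← T.sum_proj v]
    rw [Finset.sum_eq_single 0]
    · intro ψ _ hψ
      have := T.proj_mem ψ v
      rw [hc ψ hψ, Submodule.mem_bot] at this
      exact this
    · intro h
      exact absurd (Finset.mem_univ _) h
  have h2 := T.mem_wt.1 (T.proj_mem 0 v) a
  rw [← h1, AddChar.zero_apply, one_smul] at h2
  exact h2

end AddAct

/-- an element `g` (with inverse `g'`) carrying one weight space to another one -/
theorem finrank_le_of_map {V : Type*} [AddCommGroup V] [Module ℂ V] [FiniteDimensional ℂ V]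
    {A B : Submodule ℂ V} (g : Module.End ℂ V) (hg : Function.Injective g) (h : ∀ v ∈ A, g v ∈ B) :
    finrank ℂ A ≤ finrank ℂ B := by
  have h1 : Function.Injective (g.restrict h) := by
    intro v w hvw
    apply Subtype.ext
    apply hg
    have := congrArg Subtype.val hvw
    simpa using this
  exact LinearMap.finrank_le_finrank_of_injective h1

/-- the restriction of a representation to an invariant subspace -/
def subRep {G : Type*} [Monoid G] {V : Type*} [AddCommGroup V] [Module ℂ V] (ρ : Representation ℂ G V)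
    (W : Submodule ℂ V) (hW : ∀ g, ∀ v ∈ W, ρ g v ∈ W) : Representation ℂ G W where
  toFun g := (ρ g).restrict (hW g)
  map_one' := by
    ext v
    simp
  map_mul' g h := by
    ext v
    simp

theorem subRep_apply {G : Type*} [Monoid G] {V : Type*} [AddCommGroup V] [Module ℂ V]
    (ρ : Representation ℂ G V) (W : Submodule ℂ V) (hW : ∀ g, ∀ v ∈ W, ρ g v ∈ W) (g : G) (v : W) :
    (subRep ρ W hW g v : V) = ρ g v := rfl

/-- **trace orthogonal invertible operators are linearly independent**: the number of elements `g i` of a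
group whose quotients have trace `0` in a non-zero representation is at most the square of the degree. -/
theorem card_le_sq {G : Type*} [Group G] {W : Type*} [AddCommGroup W] [Module ℂ W]
    [FiniteDimensional ℂ W] (ρ : Representation ℂ G W) (hW : 0 < finrank ℂ W) {ι : Type*} [Fintype ι]
    (g : ι → G) (h : ∀ i j, i ≠ j → LinearMap.trace ℂ W (ρ (g i * (g j)⁻¹)) = 0) :
    Fintype.card ι ≤ finrank ℂ W ^ 2 := by
  classical
  have hli : LinearIndependent ℂ (fun i => ρ (g i)) := by
    rw [Fintype.linearIndependent_iff]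
    intro c hc j
    have h1 : LinearMap.trace ℂ W ((∑ i, c i • ρ (g i)) * ρ (g j)⁻¹) = 0 := by
      rw [hc, zero_mul, map_zero]
    rw [Finset.sum_mul, map_sum, Finset.sum_eq_single j] at h1
    · rw [smul_mul_assoc, ← map_mul, mul_inv_cancel, map_one, map_smul, smul_eq_mul] at h1
      have h2 : LinearMap.trace ℂ W (1 : Module.End ℂ W) = (finrank ℂ W : ℂ) := LinearMap.trace_one ℂ W
      rw [h2] at h1
      rcases mul_eq_zero.1 h1 with h3 | h3
      · exact h3
      · exfalso
        have : finrank ℂ W = 0 := by exact_mod_cast h3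
        omega
    · intro i _ hij
      rw [smul_mul_assoc, ← map_mul, map_smul, h i j hij, smul_zero]
    · intro hj
      exact absurd (Finset.mem_univ _) hj
  have h2 := hli.fintype_card_le_finrank
  rw [Module.finrank_linearMap, ← sq] at h2
  exact h2

end Cfsg.Agent.H120
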